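/-
The unramified coefficient ring: the algebraic numbers generated by the roots of unity of order
prime to `p`, localised at `M`, with its residue field.
-/
import Cfsg.Agent.Lib.Blocks.AlgGalois
import Mathlib.RingTheory.DiscreteValuationRing.Basic
import Mathlib.RingTheory.RootsOfUnity.Lemmas
import Mathlib.RingTheory.Polynomial.ScaleRoots
import Mathlib.FieldTheory.IntermediateField.Adjoin.Algebra

set_option linter.unusedSectionVars false
set_option linter.style.haveILetI false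

namespace Cfsg.Agent.DefOne

open Cfsg Cfsg.Agent.Blocks Polynomial

variable {p : ℕ} {M : Ideal AlgInt}

/-- The roots of unity of order prime to `p`. -/
def pRoots (p : ℕ) : Set ℂ := {w | ∃ n : ℕ, ¬ p ∣ n ∧ w ^ n = 1}

/-- The field generated by the roots of unity of order prime to `p`. -/
noncomputable def EField (p : ℕ) : IntermediateField ℚ ℂ := IntermediateField.adjoin ℚ (pRoots p)

/-- `σ` fixes the roots of unity of order prime to `p`. -/
def FixesP (p : ℕ) (σ : ℂ ≃+* ℂ) : Prop := ∀ w ∈ pRoots p, σ w = w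

theorem mem_EField_of_mem {w : ℂ} (h : w ∈ pRoots p) : w ∈ EField p :=
  IntermediateField.subset_adjoin ℚ _ h

theorem FixesP.apply {σ : ℂ ≃+* ℂ} (h : FixesP p σ) {z : ℂ} (hz : z ∈ EField p) : σ z = z := by
  induction hz using IntermediateField.adjoin_induction with
  | mem x hx => exact h x hx
  | algebraMap x => simp
  | add x y _ _ h1 h2 => rw [map_add, h1, h2]
  | inv x _ h1 => rw [map_inv₀, h1]
  | mul x y _ _ h1 h2 => rw [map_mul, h1, h2]

/-- The algebraic numbers. -/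
local notation "Ab" => algebraicClosure ℚ ℂ

/-- An algebraic number fixed by the automorphisms fixing `S` lies in the field generated by `S`. -/
theorem mem_adjoin_of_fixed (S : Set ℂ) (hS : ∀ s ∈ S, IsAlgebraic ℚ s) {z : ℂ}
    (hz : IsAlgebraic ℚ z) (hfix : ∀ σ : ℂ ≃+* ℂ, (∀ s ∈ S, σ s = s) → σ z = z) :
    z ∈ IntermediateField.adjoin ℚ S := by
  haveI : IsAlgClosure ℚ Ab := algebraicClosure.isAlgClosure ℚ ℂ
  haveI : IsGalois ℚ Ab := IsAlgClosure.isGalois ℚ _
  let E0 : IntermediateField ℚ Ab := (IntermediateField.adjoin ℚ S).comap (algebraicClosure ℚ ℂ).val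
  let z' : Ab := ⟨z, (mem_algebraicClosure_iff).2 hz⟩
  have hmem : z' ∈ Set.range (algebraMap E0 Ab) := by
    rw [InfiniteGalois.mem_range_algebraMap_iff_fixed]
    intro τ
    obtain ⟨σ, hσ⟩ := CharGalois.exists_aut_extending τ.toRingEquiv
    refine Subtype.ext ((hσ z').symm.trans (hfix σ fun s hs => ?_))
    let s' : Ab := ⟨s, (mem_algebraicClosure_iff).2 (hS s hs)⟩
    have he : s' ∈ E0 := IntermediateField.subset_adjoin ℚ S hs
    have h1 : τ s' = s' := τ.commutes ⟨s', he⟩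
    have h2 := hσ s'
    rw [show τ.toRingEquiv s' = τ s' from rfl, h1] at h2
    exact h2
  obtain ⟨⟨w, hw⟩, hwz⟩ := hmem
  have : (w : ℂ) = z := congrArg Subtype.val hwz
  rw [← this]
  exact hw

theorem isAlgebraic_pRoot (hp : p ≠ 0) {w : ℂ} (h : w ∈ pRoots p) : IsAlgebraic ℚ w := by
  obtain ⟨n, hn, hw⟩ := h
  have hn0 : n ≠ 0 := fun h => hn (h ▸ dvd_zero p)
  exact ((IsIntegral.of_pow (Nat.pos_of_ne_zero hn0)
    (by rw [hw]; exact isIntegral_one) : IsIntegral ℤ w).tower_top).isAlgebraic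

theorem mem_EField_of_fixed (hp : p ≠ 0) {z : ℂ} (hz : IsAlgebraic ℚ z)
    (hfix : ∀ σ : ℂ ≃+* ℂ, FixesP p σ → σ z = z) : z ∈ EField p :=
  mem_adjoin_of_fixed _ (fun _ h => isAlgebraic_pRoot hp h) hz hfix

/-! ## Integral representatives -/

theorem minpoly_coeff_zero_ne_zero {y : ℂ} (hy : IsIntegral ℤ y) (h0 : y ≠ 0) :
    (minpoly ℤ y).coeff 0 ≠ 0 := by
  intro hc
  have hd : 0 < (minpoly ℤ y).natDegree := minpoly.natDegree_pos hy
  have h := (minpoly ℤ y).divX_mul_X_add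
  rw [hc, map_zero, add_zero] at h
  have hm : (minpoly ℤ y).divX.Monic :=
    (monic_X.of_mul_monic_right (p := (minpoly ℤ y).divX) (by rw [h]; exact minpoly.monic hy))
  have hr : aeval y (minpoly ℤ y).divX = 0 := by
    have h1 := congrArg (aeval y) h
    rw [minpoly.aeval, map_mul, aeval_X] at h1
    exact (mul_eq_zero.1 h1).resolve_right h0
  have h2 := natDegree_le_natDegree (minpoly.min ℤ y hm hr)
  rw [natDegree_divX_eq_natDegree_tsub_one] at h2
  omega

theorem exists_root_level (hp : p.Prime) {z : ℂ} (hz : z ∈ EField p) :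
    ∃ n : ℕ, ¬ p ∣ n ∧ ∃ ζ : ℂ, IsPrimitiveRoot ζ n ∧ ∃ m : ℕ, m ≠ 0 ∧
      (m : ℂ) * z ∈ Algebra.adjoin ℤ ({ζ} : Set ℂ) := by
  classical
  obtain ⟨T, hTS, hzT⟩ := IntermediateField.exists_finset_of_mem_adjoin hz
  have hT : ∀ t ∈ T, ∃ n : ℕ, ¬ p ∣ n ∧ t ^ n = 1 := fun t ht => hTS ht
  choose! o ho1 ho2 using hT
  let n := ∏ t ∈ T, o t
  have hn : ¬ p ∣ n := fun h => by
    obtain ⟨t, ht, htd⟩ := (hp.prime.dvd_finset_prod_iff _).1 h
    exact ho1 t ht htd
  have hn0 : n ≠ 0 := fun h => hn (h ▸ dvd_zero p)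
  haveI : NeZero n := ⟨hn0⟩
  refine ⟨n, hn, _, Complex.isPrimitiveRoot_exp n hn0, ?_⟩
  set ζ := Complex.exp (2 * Real.pi * Complex.I / n) with hζ
  have hζn : IsPrimitiveRoot ζ n := Complex.isPrimitiveRoot_exp n hn0
  clear hz
  induction hzT using IntermediateField.adjoin_induction with
  | mem t ht =>
    obtain ⟨k, hk⟩ : o t ∣ n := Finset.dvd_prod_of_mem _ ht
    obtain ⟨i, -, hi⟩ := hζn.eq_pow_of_pow_eq_one (show t ^ n = 1 by
      rw [hk, pow_mul, ho2 t ht, one_pow])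
    exact ⟨1, one_ne_zero, by
      rw [Nat.cast_one, one_mul, ← hi]; exact pow_mem (Algebra.self_mem_adjoin_singleton _ _) i⟩
  | algebraMap q =>
    refine ⟨q.den, q.den_nz, ?_⟩
    have : ((q.den : ℕ) : ℂ) * algebraMap ℚ ℂ q = algebraMap ℤ ℂ q.num := by
      rw [eq_ratCast, eq_intCast, mul_comm]
      exact_mod_cast congrArg (fun r : ℚ => (r : ℂ)) q.mul_den_eq_num
    rw [this]
    exact Subalgebra.algebraMap_mem _ _
  | add x y _ _ hx hy =>
    obtain ⟨a, ha, hxa⟩ := hx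
    obtain ⟨b, hb, hyb⟩ := hy
    refine ⟨a * b, mul_ne_zero ha hb, ?_⟩
    rw [show ((a * b : ℕ) : ℂ) * (x + y) = b * ((a : ℂ) * x) + a * ((b : ℂ) * y) by push_cast; ring]
    exact add_mem (mul_mem (natCast_mem _ _) hxa) (mul_mem (natCast_mem _ _) hyb)
  | inv x _ hx =>
    obtain ⟨a, ha, hxa⟩ := hx
    rcases eq_or_ne x 0 with rfl | hx0
    · exact ⟨1, one_ne_zero, by simp⟩
    set y := (a : ℂ) * x with hy
    have hy0 : y ≠ 0 := mul_ne_zero (Nat.cast_ne_zero.2 ha) hx0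
    have hint : IsIntegral ℤ y := by
      have hle : Algebra.adjoin ℤ ({ζ} : Set ℂ) ≤ integralClosure ℤ ℂ :=
        Algebra.adjoin_le (Set.singleton_subset_iff.2 (hζn.isIntegral (Nat.pos_of_ne_zero hn0)))
      exact hle hxa
    set q := minpoly ℤ y with hq
    set c0 := q.coeff 0 with hc0
    have hc0' : c0 ≠ 0 := minpoly_coeff_zero_ne_zero hint hy0
    have hroot : aeval y q = 0 := minpoly.aeval ℤ y
    have hmem : ∀ r : ℤ[X], aeval y r ∈ Algebra.adjoin ℤ ({ζ} : Set ℂ) := fun r => by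
      have hle : Algebra.adjoin ℤ ({y} : Set ℂ) ≤ Algebra.adjoin ℤ ({ζ} : Set ℂ) :=
        Algebra.adjoin_le (Set.singleton_subset_iff.2 hxa)
      exact hle (aeval_mem_adjoin_singleton ℤ y)
    have key : (c0 : ℂ) * x⁻¹ = -((a : ℂ) * aeval y q.divX) := by
      have h := congrArg (aeval y) (q.divX_mul_X_add)
      rw [hroot, map_add, map_mul, aeval_X, aeval_C, eq_intCast] at h
      have : (c0 : ℂ) = -(aeval y q.divX * y) := by linear_combination h
      rw [this, hy]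
      field_simp
    refine ⟨c0.natAbs, Int.natAbs_ne_zero.2 hc0', ?_⟩
    rcases Int.natAbs_eq c0 with h | h
    · rw [show (c0.natAbs : ℂ) = (c0 : ℂ) by rw [h]; simp, key]
      exact neg_mem (mul_mem (natCast_mem _ _) (hmem _))
    · rw [show (c0.natAbs : ℂ) = -(c0 : ℂ) by rw [h]; simp, neg_mul, key, neg_neg]
      exact mul_mem (natCast_mem _ _) (hmem _)
  | mul x y _ _ hx hy =>
    obtain ⟨a, ha, hxa⟩ := hx
    obtain ⟨b, hb, hyb⟩ := hy
    refine ⟨a * b, mul_ne_zero ha hb, ?_⟩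
    rw [show ((a * b : ℕ) : ℂ) * (x * y) = ((a : ℂ) * x) * ((b : ℂ) * y) by push_cast; ring]
    exact mul_mem hxa hyb

theorem adjoin_root_subset {n : ℕ} (hn : ¬ p ∣ n) {ζ : ℂ} (hζ : IsPrimitiveRoot ζ n) {a : ℂ}
    (ha : a ∈ Algebra.adjoin ℤ ({ζ} : Set ℂ)) : a ∈ EField p ∧ IsIntegral ℤ a := by
  have hn0 : n ≠ 0 := fun h => hn (h ▸ dvd_zero p)
  induction ha using Algebra.adjoin_induction with
  | mem x hx =>
    rw [Set.mem_singleton_iff.1 hx]
    exact ⟨mem_EField_of_mem ⟨n, hn, hζ.pow_eq_one⟩, hζ.isIntegral (Nat.pos_of_ne_zero hn0)⟩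
  | algebraMap r => exact ⟨by rw [eq_intCast]; exact intCast_mem _ r, isIntegral_algebraMap⟩
  | add x y _ _ hx hy => exact ⟨add_mem hx.1 hy.1, hx.2.add hy.2⟩
  | mul x y _ _ hx hy => exact ⟨mul_mem hx.1 hy.1, hx.2.mul hy.2⟩

/-- Frobenius on the cyclotomic integers. -/
theorem exists_frob (hp : p.Prime) {n : ℕ} (hn : ¬ p ∣ n) {ζ : ℂ} (hζ : IsPrimitiveRoot ζ n) :
    ∃ f : ℕ, 0 < f ∧ ∀ a ∈ Algebra.adjoin ℤ ({ζ} : Set ℂ),
      ∃ b ∈ Algebra.adjoin ℤ ({ζ} : Set ℂ), a ^ p ^ f = a + (p : ℂ) * b := by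
  classical
  haveI := Fact.mk hp
  have hn0 : n ≠ 0 := fun h => hn (h ▸ dvd_zero p)
  refine ⟨n.totient, Nat.totient_pos.2 (Nat.pos_of_ne_zero hn0), fun a ha => ?_⟩
  set A := Algebra.adjoin ℤ ({ζ} : Set ℂ) with hA
  set q := p ^ n.totient with hq
  have hζq : ζ ^ q = ζ := by
    have h := Nat.ModEq.pow_totient ((hp.coprime_iff_not_dvd).2 hn)
    have e : ζ ^ q = ζ ^ (1 : ℕ) := by
      rw [← pow_mod_orderOf, ← pow_mod_orderOf ζ 1, ← hζ.eq_orderOf]
      exact congrArg (ζ ^ ·) h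
    rwa [pow_one] at e
  have h := Algebra.adjoin_induction (R := ℤ) (s := ({ζ} : Set ℂ))
    (p := fun a _ => ∃ b ∈ A, a ^ q = a + (p : ℂ) * b) ?_ ?_ ?_ ?_ ha
  · exact h
  · intro x hx
    rw [Set.mem_singleton_iff.1 hx]
    exact ⟨0, zero_mem _, by rw [hζq, mul_zero, add_zero]⟩
  · intro r
    have h : (p : ℤ) ∣ r ^ q - r := by
      rw [← ZMod.intCast_zmod_eq_zero_iff_dvd, Int.cast_sub, Int.cast_pow, hq,
        ZMod.pow_card_pow, sub_self]
    obtain ⟨c, hc⟩ := h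
    refine ⟨(c : ℂ), intCast_mem _ c, ?_⟩
    have := congrArg (fun z : ℤ => (z : ℂ)) hc
    push_cast at this
    rw [eq_intCast]
    linear_combination this
  · rintro x y hx hy ⟨b, hb, hxb⟩ ⟨c, hc, hyc⟩
    obtain ⟨r, hr⟩ := exists_add_pow_prime_pow_eq hp (⟨x, hx⟩ : A) ⟨y, hy⟩ n.totient
    have hr' := congrArg Subtype.val hr
    push_cast at hr'
    refine ⟨b + c + x * y * r, add_mem (add_mem hb hc) (mul_mem (mul_mem hx hy) r.2), ?_⟩
    rw [hr', hxb, hyc]
    ring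
  · rintro x y hx hy ⟨b, hb, hxb⟩ ⟨c, hc, hyc⟩
    refine ⟨b * y + x * c + (p : ℂ) * b * c, add_mem (add_mem (mul_mem hb hy) (mul_mem hx hc))
      (mul_mem (mul_mem (natCast_mem _ _) hb) hc), ?_⟩
    rw [mul_pow, hxb, hyc]
    ring

variable [M.IsPrime]

/-- An element of the field lying in the local ring is a quotient of cyclotomic integers. -/
theorem exists_frac (hM : IsPModular p M) {z : ℂ} (hz : z ∈ EField p) (hz' : MemLocalRing M z) :
    ∃ n : ℕ, ¬ p ∣ n ∧ ∃ ζ : ℂ, IsPrimitiveRoot ζ n ∧ ∃ a u : ℂ,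
      a ∈ Algebra.adjoin ℤ ({ζ} : Set ℂ) ∧ u ∈ Algebra.adjoin ℤ ({ζ} : Set ℂ) ∧
      ¬ MemLocalIdeal M u ∧ z = a / u := by
  obtain ⟨n, hn, ζ, hζ, m, hm0, hmz⟩ := exists_root_level hM.1 hz
  refine ⟨n, hn, ζ, hζ, ?_⟩
  obtain ⟨k, m', hm', rfl⟩ := Nat.exists_eq_pow_mul_and_not_dvd hm0 p hM.1.ne_one
  set A := Algebra.adjoin ℤ ({ζ} : Set ℂ) with hA
  obtain ⟨f, hf0, hf⟩ := exists_frob hM.1 hn hζ
  have key : ∀ j : ℕ, ∀ a ∈ A, ∀ w : ℂ, MemLocalRing M w → (p : ℂ) ^ j * w = a →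
      ∃ b u : ℂ, b ∈ A ∧ u ∈ A ∧ ¬ MemLocalIdeal M u ∧ w = b / u := by
    intro j
    induction j with
    | zero =>
      intro a ha w _ h
      exact ⟨a, 1, ha, one_mem _, not_memLocalIdeal_one, by rw [← h]; simp⟩
    | succ j ih =>
      intro a ha w hw h
      have hai : MemLocalIdeal M a := by
        rw [← h, pow_succ', mul_assoc]
        exact MemLocalIdeal.mul_right ((natCast_memLocalIdeal_iff hM p).2 dvd_rfl)
          (mem_locRing.1 (mul_mem (pow_mem (natCast_mem (locRing M) p) j) hw))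
      obtain ⟨b, hb, hab⟩ := hf a ha
      set u := a ^ (p ^ f - 1) - 1 with hu
      have hq : 1 ≤ p ^ f - 1 := by
        have h1 := hM.1.two_le
        have h2 : p ^ 1 ≤ p ^ f := Nat.pow_le_pow_right hM.1.pos hf0
        rw [pow_one] at h2
        omega
      have huu : ¬ MemLocalIdeal M u := fun h1 => not_memLocalIdeal_one (M := M) (by
        have h2 : MemLocalIdeal M (a ^ (p ^ f - 1)) := by
          obtain ⟨i, hi⟩ := Nat.exists_eq_add_of_le hq
          rw [hi, pow_add, pow_one]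
          exact MemLocalIdeal.mul_right hai (mem_locRing.1 (pow_mem (MemLocalIdeal.memLocalRing hai) _))
        have h3 := MemLocalIdeal.sub h2 h1
        simpa [u] using h3)
      have hau : a * u = (p : ℂ) * b := by
        rw [hu, mul_sub, mul_one, ← pow_succ',
          Nat.sub_add_cancel (Nat.one_le_pow _ _ hM.1.pos), hab]
        ring
      have huR : MemLocalRing M u := mem_locRing.1 (mem_locRing_of_isIntegral
        (adjoin_root_subset hn hζ (sub_mem (pow_mem ha _) (one_mem A))).2)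
      obtain ⟨b', u', hb', hu', huu', hw'⟩ := ih b hb (w * u)
        (mem_locRing.1 (mul_mem hw huR)) (by
          apply mul_left_cancel₀ (Nat.cast_ne_zero.2 hM.1.ne_zero : (p : ℂ) ≠ 0)
          rw [← hau, ← h]; ring)
      refine ⟨b', u' * u, hb', mul_mem hu' (sub_mem (pow_mem ha _) (one_mem A)), fun h2 => ?_, ?_⟩
      · have h3 := MemLocalIdeal.mul_right h2 (memLocalRing_inv huR huu)
        rw [mul_inv_cancel_right₀ (fun h0 => huu (by rw [h0]; exact memLocalIdeal_zero))] at h3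
        exact huu' h3
      · rw [← div_div, ← hw', mul_div_cancel_right₀ _ (fun h0 => huu (by rw [h0]; exact memLocalIdeal_zero))]
  obtain ⟨b, u, hb, hu, huu, h⟩ := key k _ hmz ((m' : ℂ) * z)
    (mem_locRing.1 (mul_mem (natCast_mem _ _) hz')) (by push_cast; ring)
  have hm'i : ¬ MemLocalIdeal M (m' : ℂ) := fun h1 => hm' ((natCast_memLocalIdeal_iff hM m').1 h1)
  refine ⟨b, (m' : ℂ) * u, hb, mul_mem (natCast_mem _ _) hu, fun h1 => ?_, ?_⟩
  · have h3 := MemLocalIdeal.mul_left (inv_natCast_memLocalRing hM hm') h1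
    rw [inv_mul_cancel_left₀ (fun h0 => hm'i (by rw [h0]; exact memLocalIdeal_zero))] at h3
    exact huu h3
  · rw [mul_comm (m' : ℂ) u, ← div_div, ← h,
      mul_div_cancel_left₀ _ (fun h0 => hm'i (by rw [h0]; exact memLocalIdeal_zero))]

/-- `p` is a uniformiser. -/
theorem div_prime_mem (hM : IsPModular p M) {z : ℂ} (hz : z ∈ EField p) (hzi : MemLocalIdeal M z) :
    MemLocalRing M (z / p) := by
  obtain ⟨n, hn, ζ, hζ, a, u, ha, hu, huu, rfl⟩ := exists_frac hM hz (MemLocalIdeal.memLocalRing hzi)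
  obtain ⟨f, hf0, hf⟩ := exists_frob hM.1 hn hζ
  obtain ⟨b, hb, hab⟩ := hf a ha
  have hu0 : u ≠ 0 := fun h0 => huu (by rw [h0]; exact memLocalIdeal_zero)
  have haR : MemLocalRing M a := mem_locRing.1 (mem_locRing_of_isIntegral (adjoin_root_subset hn hζ ha).2)
  have huR : MemLocalRing M u := mem_locRing.1 (mem_locRing_of_isIntegral (adjoin_root_subset hn hζ hu).2)
  have hbR : MemLocalRing M b := mem_locRing.1 (mem_locRing_of_isIntegral (adjoin_root_subset hn hζ hb).2)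
  have hai : MemLocalIdeal M a := by
    have := MemLocalIdeal.mul_right hzi huR
    rwa [div_mul_cancel₀ _ hu0] at this
  set v := a ^ (p ^ f - 1) - 1 with hv
  have hq : 1 ≤ p ^ f - 1 := by
    have h1 := hM.1.two_le
    have h2 : p ^ 1 ≤ p ^ f := Nat.pow_le_pow_right hM.1.pos hf0
    rw [pow_one] at h2
    omega
  have hvv : ¬ MemLocalIdeal M v := fun h1 => not_memLocalIdeal_one (M := M) (by
    have h2 : MemLocalIdeal M (a ^ (p ^ f - 1)) := by
      obtain ⟨i, hi⟩ := Nat.exists_eq_add_of_le hq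
      rw [hi, pow_add, pow_one]
      exact MemLocalIdeal.mul_right hai (mem_locRing.1 (pow_mem haR _))
    have h3 := MemLocalIdeal.sub h2 h1
    simpa [v] using h3)
  have hv0 : v ≠ 0 := fun h0 => hvv (by rw [h0]; exact memLocalIdeal_zero)
  have e : a / u / (p : ℂ) = b * v⁻¹ * u⁻¹ := by
    have hav : a * v = (p : ℂ) * b := by
      rw [hv, mul_sub, mul_one, ← pow_succ',
        Nat.sub_add_cancel (Nat.one_le_pow _ _ hM.1.pos), hab]
      ring
    have : (p : ℂ) ≠ 0 := Nat.cast_ne_zero.2 hM.1.ne_zero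
    field_simp
    linear_combination hav
  rw [e]
  exact mem_locRing.1 (mul_mem (mul_mem hbR (memLocalRing_inv
    (mem_locRing.1 (sub_mem (pow_mem haR _) (one_mem (locRing M)))) hvv)) (memLocalRing_inv huR huu))

/-- A non-zero element is not infinitely divisible by `p`. -/
theorem eq_zero_of_divisible (hM : IsPModular p M) {z : ℂ} (hz : z ∈ EField p)
    (h : ∀ j : ℕ, MemLocalRing M (z / (p : ℂ) ^ j)) : z = 0 := by
  by_contra hz0
  obtain ⟨n, hn, ζ, hζ, a, u, ha, hu, huu, rfl⟩ :=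
    exists_frac hM hz (by simpa using h 0)
  obtain ⟨-, hai⟩ := adjoin_root_subset hn hζ ha
  obtain ⟨hu0, ha0⟩ : u ≠ 0 ∧ a ≠ 0 := by
    constructor <;> rintro rfl <;> simp at hz0
  set c0 := (minpoly ℤ a).coeff 0 with hc
  have hc0 : c0 ≠ 0 := minpoly_coeff_zero_ne_zero hai ha0
  have hfac : (c0 : ℂ) = -(aeval a (minpoly ℤ a).divX) * a := by
    have h1 := congrArg (aeval a) ((minpoly ℤ a).divX_mul_X_add)
    rw [minpoly.aeval, map_add, map_mul, aeval_X, aeval_C, eq_intCast] at h1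
    linear_combination h1
  have hg : MemLocalRing M (aeval a (minpoly ℤ a).divX) :=
    mem_locRing.1 (mem_locRing_of_isIntegral (by
      have hle : Algebra.adjoin ℤ ({a} : Set ℂ) ≤ integralClosure ℤ ℂ :=
        Algebra.adjoin_le (Set.singleton_subset_iff.2 hai)
      exact hle (aeval_mem_adjoin_singleton ℤ a)))
  have huR : MemLocalRing M u := mem_locRing.1 (mem_locRing_of_isIntegral (adjoin_root_subset hn hζ hu).2)
  set J := c0.natAbs.factorization p + 1 with hJ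
  have h2 : MemLocalRing M ((c0.natAbs : ℂ) / ((p ^ J : ℕ) : ℂ)) := by
    have h3 : MemLocalRing M ((c0 : ℂ) / (p : ℂ) ^ J) := by
      have e : (c0 : ℂ) / (p : ℂ) ^ J =
          -(aeval a (minpoly ℤ a).divX) * u * (a / u / (p : ℂ) ^ J) := by
        rw [hfac]; field_simp
      rw [e]
      exact mem_locRing.1 (mul_mem (mul_mem (neg_mem hg) huR) (h J))
    rcases Int.natAbs_eq c0 with e | e
    · rw [show (c0.natAbs : ℂ) = (c0 : ℂ) by rw [e]; simp]; push_cast; exact h3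
    · rw [show (c0.natAbs : ℂ) = -(c0 : ℂ) by rw [e]; simp, neg_div]; push_cast
      exact mem_locRing.1 (neg_mem h3)
  have h4 := (memLocalRing_natDiv_iff hM (pow_ne_zero J hM.1.ne_zero)
    (Int.natAbs_ne_zero.2 hc0)).1 h2
  rw [hM.1.factorization_pow, Finsupp.single_eq_same] at h4
  omega

end Cfsg.Agent.DefOne
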