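/-
The coefficient ring `rR`, its residue field and the action of the automorphisms moving the
`p`-th roots of unity.
-/
import Cfsg.Agent.Lib.DefOne.Field
import Mathlib.RingTheory.Polynomial.Cyclotomic.Roots

set_option linter.unusedSectionVars false
set_option linter.style.haveILetI false

namespace Cfsg.Agent.DefOne

open Cfsg Cfsg.Agent.Blocks Polynomial

variable {p : ℕ} {M : Ideal AlgInt} [M.IsPrime]

/-- The coefficient ring. -/
noncomputable def rR (p : ℕ) (M : Ideal AlgInt) [M.IsPrime] : Subring ℂ :=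
  (EField p).toSubfield.toSubring ⊓ locRing M

theorem mem_rR {z : ℂ} : z ∈ rR p M ↔ z ∈ EField p ∧ MemLocalRing M z := Iff.rfl

theorem rR_le (p : ℕ) (M : Ideal AlgInt) [M.IsPrime] : rR p M ≤ locRing M := fun _ h => h.2

/-- The inclusion in the local ring. -/
noncomputable def rIncl (p : ℕ) (M : Ideal AlgInt) [M.IsPrime] : rR p M →+* locRing M :=
  Subring.inclusion (rR_le p M)

theorem subtype_comp_rIncl : (locRing M).subtype.comp (rIncl p M) = (rR p M).subtype := rfl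

/-- The residue map. -/
noncomputable def rRes (p : ℕ) (M : Ideal AlgInt) [M.IsPrime] : rR p M →+* resField M :=
  (res M).comp (rIncl p M)

theorem rRes_eq_zero_iff {x : rR p M} : rRes p M x = 0 ↔ MemLocalIdeal M (x : ℂ) :=
  res_eq_zero_iff

theorem rRes_eq_iff {x y : rR p M} : rRes p M x = rRes p M y ↔ MemLocalIdeal M ((x : ℂ) - y) :=
  res_eq_res_iff

theorem exists_mul_prime (hM : IsPModular p M) {x : rR p M} (hx : rRes p M x = 0) :
    ∃ y : rR p M, x = (p : rR p M) * y := by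
  refine ⟨⟨(x : ℂ) / p, mem_rR.2 ⟨div_mem (mem_rR.1 x.2).1 (natCast_mem _ _),
    div_prime_mem hM (mem_rR.1 x.2).1 (rRes_eq_zero_iff.1 hx)⟩⟩, Subtype.ext ?_⟩
  have : (p : ℂ) ≠ 0 := Nat.cast_ne_zero.2 hM.1.ne_zero
  push_cast
  field_simp

theorem rRes_natCast_p (hM : IsPModular p M) : rRes p M (p : rR p M) = 0 := by
  rw [rRes_eq_zero_iff]
  push_cast
  exact (natCast_memLocalIdeal_iff hM p).2 dvd_rfl

theorem isUnit_rR_iff {x : rR p M} : IsUnit x ↔ rRes p M x ≠ 0 := by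
  constructor
  · intro h
    exact (h.map (rRes p M)).ne_zero
  · intro h
    have hn : ¬ MemLocalIdeal M (x : ℂ) := fun h1 => h (rRes_eq_zero_iff.2 h1)
    refine IsUnit.of_mul_eq_one ⟨(x : ℂ)⁻¹, mem_rR.2 ⟨inv_mem (mem_rR.1 x.2).1,
      memLocalRing_inv (mem_rR.1 x.2).2 hn⟩⟩ (Subtype.ext ?_)
    exact mul_inv_cancel₀ fun h0 => hn (by rw [h0]; exact memLocalIdeal_zero)

theorem natCast_p_ne_zero (hM : IsPModular p M) : (p : rR p M) ≠ 0 := fun h =>
  (Nat.cast_ne_zero.2 hM.1.ne_zero : (p : ℂ) ≠ 0) (by simpa using congrArg Subtype.val h)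

theorem exists_associated_pow (hM : IsPModular p M) {x : rR p M} (hx : x ≠ 0) :
    ∃ n : ℕ, Associated ((p : rR p M) ^ n) x := by
  classical
  have hp0 : (p : ℂ) ≠ 0 := Nat.cast_ne_zero.2 hM.1.ne_zero
  have hex : ∃ j : ℕ, ¬ MemLocalRing M ((x : ℂ) / (p : ℂ) ^ j) := by
    by_contra h
    push Not at h
    exact hx (Subtype.ext (eq_zero_of_divisible hM (mem_rR.1 x.2).1 h))
  obtain ⟨j, hj⟩ : ∃ j, Nat.find hex = j + 1 := Nat.exists_eq_succ_of_ne_zero fun h => by
    have := Nat.find_spec hex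
    rw [h, pow_zero, div_one] at this
    exact this (mem_rR.1 x.2).2
  have h1 : MemLocalRing M ((x : ℂ) / (p : ℂ) ^ j) :=
    not_not.1 (Nat.find_min hex (show j < Nat.find hex by omega))
  let y : rR p M := ⟨(x : ℂ) / (p : ℂ) ^ j,
    mem_rR.2 ⟨div_mem (mem_rR.1 x.2).1 (pow_mem (natCast_mem _ _) _), h1⟩⟩
  have hxy : (p : rR p M) ^ j * y = x := Subtype.ext (by
    show ((p : rR p M) ^ j : ℂ) * ((x : ℂ) / (p : ℂ) ^ j) = x
    push_cast
    field_simp)
  have hu : IsUnit y := isUnit_rR_iff.2 fun h0 => by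
    refine Nat.find_spec hex ?_
    obtain ⟨z, hz⟩ := exists_mul_prime hM h0
    have hz' : (x : ℂ) / (p : ℂ) ^ j = (p : ℂ) * z := by simpa [y] using congrArg Subtype.val hz
    rw [hj, pow_succ, ← div_div, hz', mul_div_cancel_left₀ _ hp0]
    exact (mem_rR.1 z.2).2
  exact ⟨j, hu.unit, by rw [IsUnit.unit_spec, hxy]⟩

theorem irreducible_natCast (hM : IsPModular p M) : Irreducible (p : rR p M) := by
  refine ⟨fun h => isUnit_rR_iff.1 h (rRes_natCast_p hM), fun a b hab => ?_⟩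
  by_contra h
  push Not at h
  obtain ⟨a', rfl⟩ := exists_mul_prime hM (not_not.1 fun h' => h.1 (isUnit_rR_iff.2 h'))
  obtain ⟨b', rfl⟩ := exists_mul_prime hM (not_not.1 fun h' => h.2 (isUnit_rR_iff.2 h'))
  refine isUnit_rR_iff.1 (IsUnit.of_mul_eq_one (a' * b') ?_) (rRes_natCast_p hM)
  apply mul_left_cancel₀ (natCast_p_ne_zero hM)
  rw [mul_one]
  conv_rhs => rw [hab]
  ring

theorem isDiscreteValuationRing_rR (hM : IsPModular p M) : IsDiscreteValuationRing (rR p M) :=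
  IsDiscreteValuationRing.ofHasUnitMulPowIrreducibleFactorization
    ⟨p, irreducible_natCast hM, fun hx => exists_associated_pow hM hx⟩

theorem isPrincipalIdealRing_rR (hM : IsPModular p M) : IsPrincipalIdealRing (rR p M) :=
  (isDiscreteValuationRing_rR hM).toIsPrincipalIdealRing

theorem pRoot_mem_rR (hM : IsPModular p M) {w : ℂ} (h : w ∈ pRoots p) : w ∈ rR p M := by
  refine mem_rR.2 ⟨mem_EField_of_mem h, mem_locRing.1 (mem_locRing_of_isIntegral ?_)⟩
  obtain ⟨n, hn, hw⟩ := h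
  exact IsIntegral.of_pow (Nat.pos_of_ne_zero fun h0 : n = 0 => hn (by rw [h0]; exact dvd_zero p))
    (by rw [hw]; exact isIntegral_one)

theorem rRes_surjective (hM : IsPModular p M) : Function.Surjective (rRes p M) := by
  intro c
  obtain ⟨⟨z, hz⟩, rfl⟩ := res_surjective (M := M) c
  obtain ⟨a, b, hb, hab⟩ := id (mem_locRing.1 hz)
  have key : ∀ a : AlgInt, ∃ x : rR p M, MemLocalIdeal M ((x : ℂ) - (a : ℂ)) := by
    intro a
    by_cases ha : a ∈ M
    · exact ⟨0, by simpa using MemLocalIdeal.neg ((memLocalIdeal_coe_iff a).2 ha)⟩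
    · obtain ⟨ε, hε, hεM⟩ := exists_root_congr hM ha
      refine ⟨⟨(ε : ℂ), pRoot_mem_rR hM hε⟩, ?_⟩
      simpa using MemLocalIdeal.neg ((memLocalIdeal_coe_iff (M := M) _).2 hεM)
  obtain ⟨x, hx⟩ := key a
  obtain ⟨y, hy⟩ := key b
  have hbC : MemLocalRing M (b : ℂ) := memLocalRing_coe b
  have hyu : ¬ MemLocalIdeal M (y : ℂ) := fun h => hb ((memLocalIdeal_coe_iff b).1 (by
    simpa using MemLocalIdeal.sub h hy))
  have hy0 : (y : ℂ) ≠ 0 := fun h0 => hyu (by rw [h0]; exact memLocalIdeal_zero)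
  refine ⟨⟨(x : ℂ) / y, mem_rR.2 ⟨div_mem (mem_rR.1 x.2).1 (mem_rR.1 y.2).1, by
    rw [div_eq_mul_inv]
    exact mem_locRing.1 (mul_mem (mem_rR.1 x.2).2 (memLocalRing_inv (mem_rR.1 y.2).2 hyu))⟩⟩, ?_⟩
  refine res_eq_res_iff.2 ?_
  show MemLocalIdeal M ((x : ℂ) / y - z)
  have e : (x : ℂ) / y - z = ((x : ℂ) - (a : ℂ)) * (y : ℂ)⁻¹ - z * ((y : ℂ) - b) * (y : ℂ)⁻¹ := by
    have := coe_ne_zero_of_notMem hb
    rw [← hab]
    field_simp
    ring
  rw [e]
  exact MemLocalIdeal.sub (MemLocalIdeal.mul_right hx (memLocalRing_inv (mem_rR.1 y.2).2 hyu))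
    (MemLocalIdeal.mul_right (MemLocalIdeal.mul_left (mem_locRing.1 hz) hy)
      (memLocalRing_inv (mem_rR.1 y.2).2 hyu))

/-- The local ring is integrally closed. -/
theorem mem_locRing_of_root {P : (locRing M)[X]} (hP : P.Monic) {z : ℂ}
    (hz : P.eval₂ (locRing M).subtype z = 0) : z ∈ locRing M := by
  classical
  have hden : ∀ c : locRing M, ∃ b : AlgInt, b ∉ M ∧ IsIntegral ℤ ((b : ℂ) * c) := fun c => by
    obtain ⟨a, b, hb, hab⟩ := mem_locRing.1 c.2
    exact ⟨b, hb, by rw [← hab, mul_div_cancel₀ _ (coe_ne_zero_of_notMem hb)]; exact a.2⟩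
  choose d hd1 hd2 using hden
  let b : AlgInt := ∏ i ∈ Finset.range P.natDegree, d (P.coeff i)
  have hb : b ∉ M := fun h => by
    obtain ⟨i, -, hi⟩ := (Ideal.IsPrime.prod_mem_iff).1 h
    exact hd1 _ hi
  let Q : ℂ[X] := (P.map (locRing M).subtype).scaleRoots (b : ℂ)
  have hQm : Q.Monic := (monic_scaleRoots_iff _).2 (hP.map _)
  have hQc : ∀ i, Q.coeff i ∈ integralClosure ℤ ℂ := by
    intro i
    rw [coeff_scaleRoots, hP.natDegree_map, coeff_map]
    show IsIntegral ℤ ((P.coeff i : ℂ) * (b : ℂ) ^ (P.natDegree - i))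
    rcases lt_trichotomy i P.natDegree with hi | hi | hi
    · obtain ⟨r, hr⟩ : d (P.coeff i) ∣ b := Finset.dvd_prod_of_mem _ (Finset.mem_range.2 hi)
      obtain ⟨j, hj⟩ : ∃ j, P.natDegree - i = j + 1 := ⟨P.natDegree - i - 1, by omega⟩
      have : (P.coeff i : ℂ) * (b : ℂ) ^ (j + 1) =
          ((d (P.coeff i) : ℂ) * (P.coeff i : ℂ)) * ((r : ℂ) * (b : ℂ) ^ j) := by
        rw [show (b : ℂ) = (d (P.coeff i) : ℂ) * r by rw [hr]; rfl]; ring
      rw [hj, this]
      exact (hd2 _).mul (r.2.mul (b.2.pow j))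
    · rw [hi, Nat.sub_self, pow_zero, mul_one, hP.coeff_natDegree]
      exact isIntegral_one
    · rw [coeff_eq_zero_of_natDegree_lt hi]
      simp [isIntegral_zero]
  have hroot : Q.eval₂ (RingHom.id ℂ) ((b : ℂ) * z) = 0 := by
    have h1 : (P.map (locRing M).subtype).eval₂ (RingHom.id ℂ) z = 0 := by
      rw [eval₂_map]; exact hz
    exact scaleRoots_eval₂_eq_zero (RingHom.id ℂ) h1
  have hint : IsIntegral ℤ ((b : ℂ) * z) := by
    have hl : Q ∈ lifts (algebraMap AlgInt ℂ) :=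
      (lifts_iff_coeff_lifts _).2 fun i => ⟨⟨_, hQc i⟩, rfl⟩
    obtain ⟨Q', hQ', -, hQ'm⟩ := lifts_and_degree_eq_and_monic hl hQm
    have h1 : IsIntegral AlgInt ((b : ℂ) * z) := ⟨Q', hQ'm, by
      rw [← hQ', eval₂_map, RingHom.id_comp] at hroot; exact hroot⟩
    exact isIntegral_trans _ h1
  exact mem_locRing.2 ⟨⟨_, hint⟩, b, hb, by
    show ((b : ℂ) * z) / (b : ℂ) = z
    rw [mul_div_cancel_left₀ _ (coe_ne_zero_of_notMem hb)]⟩

theorem isAlgClosed_resField : IsAlgClosed (resField M) := by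
  refine IsAlgClosed.of_exists_root _ fun q hq hirr => ?_
  have hl : q ∈ lifts (res M) := (lifts_iff_coeff_lifts _).2 fun i => res_surjective _
  obtain ⟨P, hP, hPd, hPm⟩ := lifts_and_degree_eq_and_monic hl hq
  have hdeg : (P.map (locRing M).subtype).degree ≠ 0 := by
    rw [hPm.degree_map, hPd]
    exact (degree_pos_of_irreducible hirr).ne'
  obtain ⟨z, hz⟩ := IsAlgClosed.exists_root _ hdeg
  have hz' : P.eval₂ (locRing M).subtype z = 0 := by
    rw [← eval_map]; exact hz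
  refine ⟨res M ⟨z, mem_locRing_of_root hPm hz'⟩, ?_⟩
  rw [← hP, eval_map, eval₂_hom, ← map_zero (res M)]
  congr 1
  refine Subtype.ext ?_
  show (locRing M).subtype (P.eval ⟨z, mem_locRing_of_root hPm hz'⟩) = 0
  rw [← eval₂_hom]
  exact hz'

/-! ## The `p`-th roots of unity over the coefficient field -/

theorem pi_pow_eq (hM : IsPModular p M) {ζ : ℂ} (hζ : IsPrimitiveRoot ζ p) :
    ∃ w : ℂ, MemLocalRing M w ∧ (p : ℂ) = (ζ - 1) ^ (p - 1) * w ∧
      MemLocalRing M w⁻¹ := by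
  obtain ⟨n, hn⟩ : ∃ n, p = n + 1 := ⟨p - 1, by have := hM.1.pos; omega⟩
  have h := IsPrimitiveRoot.prod_pow_sub_one_eq_order (show IsPrimitiveRoot ζ (n + 1) by rwa [← hn])
  have hζR : MemLocalRing M ζ := mem_locRing.1 (mem_locRing_of_isIntegral (hζ.isIntegral hM.1.pos))
  have hζI : MemLocalIdeal M (ζ - 1) :=
    memLocalIdeal_sub_one_of_pow_eq_one hM (k := 1) (by rw [pow_one]; exact hζ.pow_eq_one)
  let g : ℕ → ℂ := fun k => ∑ i ∈ Finset.range (k + 1), ζ ^ i
  have hg : ∀ k, MemLocalRing M (g k) := fun k =>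
    memLocalRing_sum _ _ fun i _ => mem_locRing.1 (pow_mem hζR i)
  have hgu : ∀ k, k < n → ¬ MemLocalIdeal M (g k) := by
    intro k hk hI
    have h1 : MemLocalIdeal M (g k - ((k + 1 : ℕ) : ℂ)) := by
      have : g k - ((k + 1 : ℕ) : ℂ) = ∑ i ∈ Finset.range (k + 1), (ζ ^ i - 1) := by
        rw [Finset.sum_sub_distrib]; simp [g]
      rw [this]
      exact memLocalIdeal_sum _ _ fun i _ => memLocalIdeal_sub_one_of_pow_eq_one hM (k := 1)
        (by rw [pow_one, ← pow_mul, mul_comm, pow_mul, hζ.pow_eq_one, one_pow])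
    have h2 := MemLocalIdeal.sub hI h1
    rw [sub_sub_cancel, natCast_memLocalIdeal_iff hM] at h2
    have := Nat.le_of_dvd (Nat.succ_pos k) h2
    omega
  refine ⟨(-1) ^ n * ∏ k ∈ Finset.range n, g k,
    mem_locRing.1 (mul_mem (pow_mem (neg_mem (one_mem (locRing M))) n)
      (prod_mem fun k _ => hg k)), ?_, ?_⟩
  · have hgeom : ∀ k, ζ ^ (k + 1) - 1 = (ζ - 1) * g k := fun k => (mul_geom_sum ζ (k + 1)).symm
    simp only [hgeom, Finset.prod_mul_distrib, Finset.prod_const, Finset.card_range] at h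
    rw [show p - 1 = n by omega, hn]
    push_cast
    rw [← h]
    ring
  · rw [mul_inv, ← inv_pow, inv_neg_one, ← Finset.prod_inv_distrib]
    exact mem_locRing.1 (mul_mem (pow_mem (neg_mem (one_mem (locRing M))) n)
      (prod_mem fun k hk => memLocalRing_inv (hg k) (hgu k (Finset.mem_range.1 hk))))

theorem coeff_mem_of_expansion (hM : IsPModular p M) {ζ : ℂ} (hζ : IsPrimitiveRoot ζ p)
    {a : ℕ → ℂ} (ha : ∀ i, a i ∈ EField p)
    (hz : MemLocalRing M (∑ i ∈ Finset.range (p - 1), a i * (ζ - 1) ^ i)) :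
    ∀ i < p - 1, MemLocalRing M (a i) := by
  classical
  obtain ⟨w, hw, hpw, hwi⟩ := pi_pow_eq hM hζ
  set π := ζ - 1 with hπdef
  have hπ0 : π ≠ 0 := sub_ne_zero.2 (hζ.ne_one hM.1.one_lt)
  have hπI : MemLocalIdeal M π :=
    memLocalIdeal_sub_one_of_pow_eq_one hM (k := 1) (by rw [pow_one]; exact hζ.pow_eq_one)
  have hπR : MemLocalRing M π := MemLocalIdeal.memLocalRing hπI
  have hp0 : (p : ℂ) ≠ 0 := Nat.cast_ne_zero.2 hM.1.ne_zero
  obtain ⟨k, hk⟩ : ∃ k : ℕ, ∀ i < p - 1, MemLocalRing M ((p : ℂ) ^ k * a i) := by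
    have hden : ∀ i, ∃ k : ℕ, MemLocalRing M ((p : ℂ) ^ k * a i) := fun i => by
      obtain ⟨n, hn, ξ, hξ, m, hm0, hm⟩ := exists_root_level hM.1 (ha i)
      obtain ⟨k, m', hm', rfl⟩ := Nat.exists_eq_pow_mul_and_not_dvd hm0 p hM.1.ne_one
      refine ⟨k, ?_⟩
      have : (p : ℂ) ^ k * a i = (m' : ℂ)⁻¹ * (((p ^ k * m' : ℕ) : ℂ) * a i) := by
        have : (m' : ℂ) ≠ 0 := Nat.cast_ne_zero.2 fun h0 => hm' (h0 ▸ dvd_zero p)
        push_cast; field_simp
      rw [this]
      exact mem_locRing.1 (mul_mem (inv_natCast_memLocalRing hM hm')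
        (mem_locRing_of_isIntegral (adjoin_root_subset hn hξ hm).2))
    choose e he using hden
    refine ⟨∑ i ∈ Finset.range (p - 1), e i, fun i hi => ?_⟩
    obtain ⟨c, hc⟩ := Nat.exists_eq_add_of_le
      (Finset.single_le_sum (fun j _ => Nat.zero_le (e j)) (Finset.mem_range.2 hi))
    rw [hc, pow_add, mul_right_comm]
    exact mem_locRing.1 (mul_mem (he i) (pow_mem (natCast_mem _ _) c))
  suffices key : ∀ k, (∀ i < p - 1, MemLocalRing M ((p : ℂ) ^ k * a i)) →
      ∀ i < p - 1, MemLocalRing M (a i) from key k hk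
  intro k
  induction k with
  | zero => intro h i hi; simpa using h i hi
  | succ k ih =>
    intro h
    refine ih ?_
    intro i
    induction i using Nat.strong_induction_on with
    | _ i ihi =>
    intro hi
    have hsplit : (p : ℂ) ^ (k + 1) * a i * π ^ i =
        (p : ℂ) ^ (k + 1) * (∑ j ∈ Finset.range (p - 1), a j * π ^ j) -
          ∑ j ∈ (Finset.range (p - 1)).erase i, (p : ℂ) ^ (k + 1) * a j * π ^ j := by
      rw [eq_sub_iff_add_eq, Finset.mul_sum,
        ← Finset.add_sum_erase (s := Finset.range (p - 1)) (a := i) _ (Finset.mem_range.2 hi)]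
      simp only [mul_assoc]
    have hdiv : MemLocalRing M ((p : ℂ) ^ (k + 1) * a i / π) := by
      have e1 : (p : ℂ) ^ (k + 1) * a i / π = (p : ℂ) ^ (k + 1) * a i * π ^ i / π ^ (i + 1) := by
        rw [pow_succ]; field_simp; ring
      rw [e1, hsplit, sub_div, Finset.sum_div]
      refine mem_locRing.1 (sub_mem ?_ (sum_mem fun j hj => ?_))
      · obtain ⟨c, hc⟩ := Nat.exists_eq_add_of_le (show i + 1 ≤ p - 1 by omega)
        have : (p : ℂ) ^ (k + 1) * (∑ j ∈ Finset.range (p - 1), a j * π ^ j) / π ^ (i + 1) =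
            π ^ c * w * ((p : ℂ) ^ k * ∑ j ∈ Finset.range (p - 1), a j * π ^ j) := by
          rw [eq_comm, eq_div_iff (pow_ne_zero _ hπ0), pow_succ' (p : ℂ) k]
          nth_rw 2 [hpw]
          rw [hc, pow_add]
          ring
        rw [this]
        exact mul_mem (mul_mem (pow_mem hπR c) hw) (mul_mem (pow_mem (natCast_mem _ _) k) hz)
      · obtain ⟨hji, hj'⟩ := Finset.mem_erase.1 hj
        rw [Finset.mem_range] at hj'
        rcases lt_or_gt_of_ne hji with hlt | hgt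
        · obtain ⟨c, hc⟩ := Nat.exists_eq_add_of_le (show i + 1 ≤ p - 1 + j by omega)
          have : (p : ℂ) ^ (k + 1) * a j * π ^ j / π ^ (i + 1) =
              π ^ c * w * ((p : ℂ) ^ k * a j) := by
            rw [eq_comm, eq_div_iff (pow_ne_zero _ hπ0), pow_succ' (p : ℂ) k]
            nth_rw 2 [hpw]
            calc π ^ c * w * ((p : ℂ) ^ k * a j) * π ^ (i + 1)
                = π ^ (i + 1 + c) * w * ((p : ℂ) ^ k * a j) := by rw [pow_add]; ring
              _ = _ := by rw [← hc, pow_add]; ring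
          rw [this]
          exact mul_mem (mul_mem (pow_mem hπR c) hw) (ihi j hlt hj')
        · obtain ⟨c, hc⟩ := Nat.exists_eq_add_of_le (show i + 1 ≤ j by omega)
          have : (p : ℂ) ^ (k + 1) * a j * π ^ j / π ^ (i + 1) = (p : ℂ) ^ (k + 1) * a j * π ^ c := by
            rw [div_eq_iff (pow_ne_zero _ hπ0), hc, pow_add]; ring
          rw [this]
          exact mul_mem (h j hj') (pow_mem hπR c)
    have hI : MemLocalIdeal M ((p : ℂ) ^ (k + 1) * a i) := by
      have := MemLocalIdeal.mul_left hdiv hπI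
      rwa [div_mul_cancel₀ _ hπ0] at this
    have := div_prime_mem hM (mul_mem (pow_mem (natCast_mem _ _) _) (ha i)) hI
    rwa [pow_succ', mul_assoc, mul_div_cancel_left₀ _ hp0] at this

theorem linearIndependent_pi (hM : IsPModular p M) {ζ : ℂ} (hζ : IsPrimitiveRoot ζ p)
    {a : ℕ → ℂ} (ha : ∀ i, a i ∈ EField p)
    (hz : ∑ i ∈ Finset.range (p - 1), a i * (ζ - 1) ^ i = 0) : ∀ i < p - 1, a i = 0 := by
  intro i hi
  refine eq_zero_of_divisible hM (ha i) fun j => ?_
  refine coeff_mem_of_expansion hM hζ (a := fun l => a l / (p : ℂ) ^ j)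
    (fun l => div_mem (ha l) (pow_mem (natCast_mem _ _) j)) ?_ i hi
  rw [show ∑ l ∈ Finset.range (p - 1), a l / (p : ℂ) ^ j * (ζ - 1) ^ l =
    (∑ l ∈ Finset.range (p - 1), a l * (ζ - 1) ^ l) / (p : ℂ) ^ j by
      rw [Finset.sum_div]; exact Finset.sum_congr rfl fun l _ => by ring, hz, zero_div]
  exact mem_locRing.1 (zero_mem _)

theorem expansion_of_poly (hM : IsPModular p M) {ζ : ℂ} (hζ : IsPrimitiveRoot ζ p)
    (g : (EField p)[X]) (hg : g.degree < ((p - 1 : ℕ) : WithBot ℕ)) :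
    ∃ a : ℕ → ℂ, (∀ i, a i ∈ EField p) ∧ ((∀ i < p - 1, a i = 0) → g = 0) ∧
      aeval ζ g = ∑ i ∈ Finset.range (p - 1), a i * (ζ - 1) ^ i := by
  refine ⟨fun i => ((g.comp (X + 1)).coeff i : ℂ), fun i => Subtype.coe_prop _, fun h => ?_, ?_⟩
  all_goals rcases eq_or_ne g 0 with rfl | hg0
  · rfl
  rotate_left
  · simp
  all_goals
    have hd : (g.comp (X + 1)).natDegree < p - 1 := by
      rw [natDegree_comp, show (X + 1 : (EField p)[X]).natDegree = 1 by
        rw [← map_one C]; exact natDegree_X_add_C 1, mul_one]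
      exact (natDegree_lt_iff_degree_lt hg0).2 hg
  · have h1 : aeval (ζ - 1) (g.comp (X + 1)) = aeval ζ g := by
      rw [aeval_comp]; simp
    rw [← h1, aeval_eq_sum_range' hd]
    exact Finset.sum_congr rfl fun i _ => by rw [Algebra.smul_def]; rfl
  · have h1 : g.comp (X + 1) = 0 := Polynomial.ext fun i => by
      rw [coeff_zero]
      by_cases hi : i < p - 1
      · exact Subtype.ext (h i hi)
      · exact coeff_eq_zero_of_natDegree_lt (by omega)
    rw [← map_one C] at h1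
    exact comp_X_add_C_eq_zero_iff.1 h1

theorem isIntegral_root (hM : IsPModular p M) {ζ : ℂ} (hζ : IsPrimitiveRoot ζ p) :
    IsIntegral (EField p) ζ := (hζ.isIntegral hM.1.pos).tower_top

set_option maxHeartbeats 1000000 in
theorem minpoly_eq_cyclotomic (hM : IsPModular p M) {ζ : ℂ} (hζ : IsPrimitiveRoot ζ p) :
    minpoly (EField p) ζ = cyclotomic p (EField p) := by
  haveI := Fact.mk hM.1
  have hint := isIntegral_root hM hζ
  have hle : p - 1 ≤ (minpoly (EField p) ζ).natDegree := by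
    by_contra h
    push Not at h
    obtain ⟨a, ha, ha0, he⟩ := expansion_of_poly hM hζ (minpoly (EField p) ζ)
      ((natDegree_lt_iff_degree_lt (minpoly.ne_zero hint)).1 h)
    rw [minpoly.aeval] at he
    exact minpoly.ne_zero hint (ha0 (linearIndependent_pi hM hζ ha he.symm))
  have hroot : aeval ζ (cyclotomic p (EField p)) = 0 := by
    rw [aeval_def, eval₂_eq_eval_map, map_cyclotomic]
    exact hζ.isRoot_cyclotomic hM.1.pos
  exact (eq_of_monic_of_dvd_of_natDegree_le (minpoly.monic hint) (cyclotomic.monic p _)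
    (minpoly.dvd _ _ hroot) (by rwa [natDegree_cyclotomic, Nat.totient_prime hM.1])).symm

set_option maxHeartbeats 1000000 in
/-- The Galois automorphisms moving the `p`-th roots of unity. -/
theorem exists_sigma (hM : IsPModular p M) {k : ℕ} (hk : ¬ p ∣ k) :
    ∃ σ : ℂ ≃+* ℂ, FixesP p σ ∧ ∀ z : ℂ, z ^ p = 1 → σ z = z ^ k := by
  haveI := Fact.mk hM.1
  haveI : IsAlgClosure ℚ (algebraicClosure ℚ ℂ) := algebraicClosure.isAlgClosure ℚ ℂ
  haveI : Normal ℚ (algebraicClosure ℚ ℂ) := IsAlgClosure.normal ℚ _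
  let Ab := algebraicClosure ℚ ℂ
  have hle : EField p ≤ Ab := IntermediateField.adjoin_le_iff.2 fun w hw =>
    (mem_algebraicClosure_iff).2 (isAlgebraic_pRoot hM.1.ne_zero hw)
  let E0 : IntermediateField ℚ Ab := (EField p).comap Ab.val
  let ψ : EField p →+* E0 :=
    { toFun := fun x => ⟨⟨(x : ℂ), hle x.2⟩, x.2⟩
      map_one' := rfl
      map_mul' := fun _ _ => rfl
      map_zero' := rfl
      map_add' := fun _ _ => rfl }
  haveI : Normal E0 Ab := Normal.tower_top_of_normal ℚ E0 Ab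
  obtain ⟨ζ, hζ⟩ : ∃ ζ : ℂ, IsPrimitiveRoot ζ p := ⟨_, Complex.isPrimitiveRoot_exp p hM.1.ne_zero⟩
  let ζ' : Ab := ⟨ζ, (mem_algebraicClosure_iff).2
    ((hζ.isIntegral hM.1.pos).tower_top).isAlgebraic⟩
  have hζ'a : IsAlgebraic E0 ζ' := Algebra.IsAlgebraic.isAlgebraic _
  have hcyc : minpoly E0 ζ' = cyclotomic p E0 := by
    refine (minpoly.eq_of_irreducible_of_monic ?_ ?_ (cyclotomic.monic p _)).symm
    · let χ : EField p ≃+* E0 := RingEquiv.ofBijective ψ
        ⟨ψ.injective, fun x => ⟨⟨_, x.2⟩, rfl⟩⟩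
      have hirr : Irreducible (cyclotomic p (EField p)) :=
        minpoly_eq_cyclotomic hM hζ ▸ minpoly.irreducible (isIntegral_root hM hζ)
      have h2 := (MulEquiv.irreducible_iff (f := Polynomial.mapEquiv χ)).2 hirr
      rwa [mapEquiv_apply, map_cyclotomic] at h2
    · refine Subtype.val_injective ?_
      show Ab.val (aeval ζ' (cyclotomic p E0)) = Ab.val 0
      rw [map_zero, aeval_def, eval₂_eq_eval_map, map_cyclotomic]
      have hr : IsRoot (cyclotomic p ℂ) ζ := hζ.isRoot_cyclotomic hM.1.pos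
      rw [show Ab.val ((cyclotomic p Ab).eval ζ') = (cyclotomic p ℂ).eval ζ by
        rw [← map_cyclotomic p Ab.val.toRingHom, eval_map]
        exact (hom_eval₂ (cyclotomic p Ab) (RingHom.id Ab) Ab.val.toRingHom ζ')]
      exact hr
  have hev : aeval (ζ' ^ k) (minpoly E0 ζ') = 0 := by
    rw [hcyc, aeval_def, eval₂_eq_eval_map, map_cyclotomic]
    refine IsPrimitiveRoot.isRoot_cyclotomic hM.1.pos ?_
    exact (IsPrimitiveRoot.of_map_of_injective (f := Ab.val) hζ Subtype.val_injective).pow_of_coprime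
      k ((hM.1.coprime_iff_not_dvd.2 hk).symm)
  obtain ⟨τ, hτ⟩ := minpoly.exists_algEquiv_of_root' hζ'a hev
  obtain ⟨σ, hσ⟩ := CharGalois.exists_aut_extending τ.toRingEquiv
  refine ⟨σ, fun w hw => ?_, fun z hz => ?_⟩
  · have h1 := hσ ⟨w, hle (mem_EField_of_mem hw)⟩
    rw [show τ.toRingEquiv _ = τ _ from rfl,
      show τ ⟨w, hle (mem_EField_of_mem hw)⟩ = ⟨w, hle (mem_EField_of_mem hw)⟩ from
        τ.commutes ⟨⟨w, hle (mem_EField_of_mem hw)⟩, mem_EField_of_mem hw⟩] at h1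
    exact h1
  · have h1 := hσ ζ'
    rw [show τ.toRingEquiv ζ' = τ ζ' from rfl, hτ] at h1
    have h2 : σ ζ = ζ ^ k := by simpa using h1
    obtain ⟨i, -, rfl⟩ := hζ.eq_pow_of_pow_eq_one hz
    rw [map_pow, h2, ← pow_mul, ← pow_mul, mul_comm]

/-- Automorphisms fixing the coefficient field act trivially modulo `M` on the local part of the
field with the `p`-th roots of unity adjoined. -/
theorem sigma_congr (hM : IsPModular p M) {ζ : ℂ} (hζ : IsPrimitiveRoot ζ p) {z : ℂ}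
    (halg : IsAlgebraic ℚ z) (hfix : ∀ σ : ℂ ≃+* ℂ, FixesP p σ → σ ζ = ζ → σ z = z)
    (hz : MemLocalRing M z) {σ : ℂ ≃+* ℂ} (hσ : FixesP p σ) : MemLocalIdeal M (σ z - z) := by
  have hint := isIntegral_root hM hζ
  have hmem : z ∈ IntermediateField.adjoin ℚ (pRoots p ∪ {ζ}) := by
    refine mem_adjoin_of_fixed _ ?_ halg fun τ hτ => hfix τ (fun w hw => hτ w (Or.inl hw))
      (hτ ζ (Or.inr rfl))
    rintro s (hs | hs)
    · exact isAlgebraic_pRoot hM.1.ne_zero hs
    · rw [Set.mem_singleton_iff.1 hs]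
      exact ((hζ.isIntegral hM.1.pos).tower_top).isAlgebraic
  rw [← IntermediateField.adjoin_adjoin_left, IntermediateField.mem_restrictScalars] at hmem
  replace hmem : z ∈ IntermediateField.adjoin (EField p) ({ζ} : Set ℂ) := hmem
  rw [← IntermediateField.mem_toSubalgebra,
    IntermediateField.adjoin_simple_toSubalgebra_of_isAlgebraic hint.isAlgebraic,
    Algebra.adjoin_singleton_eq_range_aeval] at hmem
  obtain ⟨g, hg⟩ := hmem
  haveI := Fact.mk hM.1
  have hdeg : (g %ₘ minpoly (EField p) ζ).degree < ((p - 1 : ℕ) : WithBot ℕ) := by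
    refine lt_of_lt_of_le (degree_modByMonic_lt g (minpoly.monic hint)) ?_
    rw [minpoly_eq_cyclotomic hM hζ, degree_cyclotomic, Nat.totient_prime hM.1]
  obtain ⟨a, ha, -, he⟩ := expansion_of_poly hM hζ _ hdeg
  rw [aeval_modByMonic_eq_self_of_root (minpoly.aeval _ _)] at he
  rw [← show aeval ζ g = z from hg, he] at hz ⊢
  have haR := coeff_mem_of_expansion hM hζ ha hz
  have hπI : MemLocalIdeal M (ζ - 1) :=
    memLocalIdeal_sub_one_of_pow_eq_one hM (k := 1) (by rw [pow_one]; exact hζ.pow_eq_one)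
  have hπ'I : MemLocalIdeal M (σ ζ - 1) :=
    memLocalIdeal_sub_one_of_pow_eq_one hM (k := 1) (by
      rw [pow_one, ← map_pow, hζ.pow_eq_one, map_one])
  rw [map_sum, ← Finset.sum_sub_distrib]
  refine memLocalIdeal_sum _ _ fun i hi => ?_
  rw [map_mul, map_pow, hσ.apply (ha i), map_sub, map_one, ← mul_sub]
  refine MemLocalIdeal.mul_left (haR i (Finset.mem_range.1 hi)) ?_
  cases i with
  | zero => simpa using memLocalIdeal_zero
  | succ i =>
    refine MemLocalIdeal.sub ?_ ?_ <;> rw [pow_succ]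
    · exact MemLocalIdeal.mul_left (mem_locRing.1 (pow_mem (MemLocalIdeal.memLocalRing hπ'I) i)) hπ'I
    · exact MemLocalIdeal.mul_left (mem_locRing.1 (pow_mem (MemLocalIdeal.memLocalRing hπI) i)) hπI

end Cfsg.Agent.DefOne
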