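/-
Groups with a Sylow subgroup of prime order: the generalised decomposition numbers at the
non-identity elements of the Sylow subgroup and their orthogonality relations.
-/
import Cfsg.Agent.Lib.Char.CCSylow
import Cfsg.Agent.Lib.Char.Galois
import Mathlib.GroupTheory.Transfer
import Mathlib.GroupTheory.SchurZassenhaus

set_option linter.unusedSectionVars false
set_option linter.style.haveILetI false

namespace Cfsg.Agent.DefOne

open Cfsg Cfsg.Agent.Char Cfsg.Agent.CCSylow
open scoped ComplexConjugate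

universe u

variable {G : Type u} [Group G] [Fintype G]

/-- A Sylow subgroup `P` of prime order with `C_G(P) = P × V` and `N = N_G(P)`. -/
structure Conf (p : ℕ) (P V N : Subgroup G) (e : ℕ) : Prop where
  D : CCSylow.Data P V N e
  hp : p.Prime
  hP : Nat.card P = p
  hV : ¬ p ∣ Nat.card V
  hC : ∀ x, x ∈ Subgroup.centralizer (P : Set G) ↔ ∃ y ∈ P, ∃ v ∈ V, y * v = x
  hN : N = Subgroup.normalizer (P : Set G)
  hsq : ¬ p ^ 2 ∣ Nat.card G

theorem centralizer_singleton_eq {p : ℕ} (hp : p.Prime) {P : Subgroup G} (hP : Nat.card P = p)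
    {y : G} (hy : y ∈ P) (hy1 : y ≠ 1) :
    Subgroup.centralizer ({y} : Set G) = Subgroup.centralizer (P : Set G) := by
  haveI := Fact.mk hp
  refine le_antisymm (fun g hg => Subgroup.mem_centralizer_iff.2 fun t ht => ?_)
    (Subgroup.centralizer_le (by simpa using hy))
  obtain ⟨i, hi⟩ := Subgroup.mem_zpowers_iff.1
    (mem_zpowers_of_prime_card hP (g := (⟨y, hy⟩ : P)) (g' := ⟨t, ht⟩)
      fun h => hy1 (congrArg Subtype.val h))
  have hi' : y ^ i = t := by simpa using congrArg Subtype.val hi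
  rw [← hi']
  exact ((show Commute y g from Subgroup.mem_centralizer_iff.1 hg y rfl).zpow_left i).eq

theorem exists_conf {p : ℕ} (hp : p.Prime) (P : Sylow p G) (hP : Nat.card P = p) :
    ∃ (V : Subgroup G) (e : ℕ),
      Conf p (P : Subgroup G) V (Subgroup.normalizer ((P : Subgroup G) : Set G)) e ∧
      e = (Subgroup.centralizer ((P : Subgroup G) : Set G)).relIndex
        (Subgroup.normalizer ((P : Subgroup G) : Set G)) := by
  classical
  haveI := Fact.mk hp
  set Q : Subgroup G := (P : Subgroup G) with hQdef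
  set C := Subgroup.centralizer (Q : Set G) with hC
  set N := Subgroup.normalizer (Q : Set G) with hN
  have hcyc : ∀ a ∈ Q, ∀ b ∈ Q, a * b = b * a := by
    intro a ha b hb
    haveI : IsCyclic Q := isCyclic_of_prime_card hP
    letI := IsCyclic.commGroup (α := Q)
    exact congrArg Subtype.val (mul_comm (⟨a, ha⟩ : Q) ⟨b, hb⟩)
  have hQC : Q ≤ C := fun x hx => Subgroup.mem_centralizer_iff.2 fun t ht => hcyc t ht x hx
  have hpi : ¬ p ∣ Q.index := P.not_dvd_index
  have hcopQ : (Nat.card (Q.subgroupOf C)).Coprime (Q.subgroupOf C).index := by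
    rw [Nat.card_congr (Subgroup.subgroupOfEquivOfLe hQC).toEquiv, show Nat.card Q = p from hP]
    exact hp.coprime_iff_not_dvd.2 fun h => hpi
      (h.trans ⟨C.index, (Subgroup.relIndex_mul_index hQC).symm⟩)
  haveI : (Q.subgroupOf C).Normal := ⟨fun x hx g => by
    have h : (x : G) * g = g * x := Subgroup.mem_centralizer_iff.1 g.2 _ hx
    show (g : G) * x * (g : G)⁻¹ ∈ Q
    rw [← h, mul_inv_cancel_right]
    exact hx⟩
  obtain ⟨V', hV'⟩ := Subgroup.exists_right_complement'_of_coprime hcopQ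
  let V := V'.map C.subtype
  have hVC : V ≤ C := Subgroup.map_subtype_le _
  have hpv : ∀ y ∈ Q, ∀ v ∈ V, y * v = v * y := fun y hy v hv =>
    Subgroup.mem_centralizer_iff.1 (hVC hv) y hy
  have hcV : Nat.card V = Nat.card V' := Subgroup.card_map_of_injective C.subtype_injective
  have hcC : Nat.card C = Nat.card Q * Nat.card V := by
    rw [hcV, ← hV'.card_mul_card, Nat.card_congr (Subgroup.subgroupOfEquivOfLe hQC).toEquiv]
  have hcop : (Nat.card Q).Coprime (Nat.card V) := by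
    rw [hcV, ← hV'.symm.index_eq_card]
    rwa [Nat.card_congr (Subgroup.subgroupOfEquivOfLe hQC).toEquiv] at hcopQ
  have hdec : ∀ x ∈ C, ∃ y ∈ Q, ∃ v ∈ V, x = y * v := fun x hx => by
    obtain ⟨⟨a, b⟩, hab⟩ := hV'.2 ⟨x, hx⟩
    exact ⟨(a : C), a.2, (b : C), ⟨(b : C), b.2, rfl⟩, (congrArg Subtype.val hab).symm⟩
  have honeP : ∀ y ∈ Q, y ^ Nat.card Q = 1 := fun y hy =>
    congrArg Subtype.val (pow_card_eq_one' (x := (⟨y, hy⟩ : Q)))
  have honeV : ∀ v ∈ V, v ^ Nat.card V = 1 := fun v hv =>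
    congrArg Subtype.val (pow_card_eq_one' (x := (⟨v, hv⟩ : V)))
  have hcharV : ∀ x ∈ C, x ^ Nat.card V = 1 → x ∈ V := by
    intro x hx h
    obtain ⟨y, hy, v, hv, rfl⟩ := hdec x hx
    rw [(show Commute y v from hpv y hy v hv).mul_pow, honeV v hv, mul_one] at h
    rwa [CharExtend.eq_one_of_pow_coprime (honeP y hy) h hcop, one_mul]
  have hCN : C ≤ N := Subgroup.centralizer_le_normalizer _
  have hNP : ∀ w ∈ N, ∀ y ∈ Q, w * y * w⁻¹ ∈ Q := fun w hw y hy =>
    (Subgroup.mem_normalizer_iff.1 hw y).1 hy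
  have hNC : ∀ w ∈ N, ∀ x ∈ C, w * x * w⁻¹ ∈ C := by
    intro w hw x hx
    refine Subgroup.mem_centralizer_iff.2 fun t ht => ?_
    have h1 : w⁻¹ * t * w ∈ Q := by
      have := hNP _ (inv_mem hw) t ht
      rwa [inv_inv] at this
    have h2 := Subgroup.mem_centralizer_iff.1 hx _ h1
    calc t * (w * x * w⁻¹) = w * ((w⁻¹ * t * w) * x) * w⁻¹ := by group
      _ = w * (x * (w⁻¹ * t * w)) * w⁻¹ := by rw [h2]
      _ = w * x * w⁻¹ * t := by group
  have D : Data Q V N (C.subgroupOf N).index :=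
    { comm := hcyc
      pv := hpv
      cop := hcop
      hNP := hNP
      hNV := fun w hw v hv => hcharV _ (hNC w hw v (hVC hv))
        (by rw [conj_pow, honeV v hv, mul_one, mul_inv_cancel])
      hTI := by
        intro y hy hy1 w hwy
        have hne : w * y * w⁻¹ ≠ 1 := fun h => hy1 (conj_eq_one_iff.1 h)
        rw [hN, Subgroup.mem_normalizer_iff]
        intro z
        have hQz : ∀ {a : G}, a ∈ Q → a ≠ 1 → ∀ {b : G}, b ∈ Q → ∃ i : ℤ, a ^ i = b := by
          intro a ha ha1 b hb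
          obtain ⟨i, hi⟩ := Subgroup.mem_zpowers_iff.1
            (mem_zpowers_of_prime_card hP (g := (⟨a, ha⟩ : Q)) (g' := ⟨b, hb⟩)
              fun h => ha1 (congrArg Subtype.val h))
          exact ⟨i, by simpa using congrArg Subtype.val hi⟩
        constructor
        · intro hz
          obtain ⟨i, rfl⟩ := hQz hy hy1 hz
          rw [← conj_zpow]
          exact Q.zpow_mem hwy i
        · intro hz
          obtain ⟨i, hi⟩ := hQz hwy hne hz
          rw [conj_zpow] at hi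
          rw [← mul_left_cancel (mul_right_cancel hi)]
          exact Q.zpow_mem hy i
      hcard := by
        rw [← hcC, ← Subgroup.card_mul_index (C.subgroupOf N), mul_comm,
          Nat.card_congr (Subgroup.subgroupOfEquivOfLe hCN).toEquiv]
      hsemi := fun w _ y hy hy1 h y' hy' => by
        have hw : w ∈ Subgroup.centralizer ({y} : Set G) := by
          refine Subgroup.mem_centralizer_iff.2 fun t ht => ?_
          rw [Set.mem_singleton_iff.1 ht]
          exact (mul_inv_eq_iff_eq_mul.1 h).symm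
        rw [centralizer_singleton_eq hp hP hy hy1, Subgroup.mem_centralizer_iff] at hw
        exact mul_inv_eq_iff_eq_mul.2 (hw y' hy').symm
      he := rfl }
  refine ⟨V, _, ⟨D, hp, hP, fun h => ?_, fun x => ⟨fun hx => ?_, ?_⟩, rfl, fun h => ?_⟩, rfl⟩
  · exact hp.coprime_iff_not_dvd.1 ((show Nat.card Q = p from hP) ▸ hcop) h
  · obtain ⟨y, hy, v, hv, rfl⟩ := hdec x hx
    exact ⟨y, hy, v, hv, rfl⟩
  · rintro ⟨y, hy, v, hv, rfl⟩
    exact C.mul_mem (hQC hy) (hVC hv)
  · refine hpi ?_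
    have h1 := Q.card_mul_index
    rw [show Nat.card Q = p from hP] at h1
    rw [← h1, pow_two] at h
    exact Nat.dvd_of_mul_dvd_mul_left hp.pos h

variable {p : ℕ} {P V N : Subgroup G} {e : ℕ} (K : Conf p P V N e)
  [Fintype P] [Fintype V] [Fintype N] [Fintype (P →* ℂˣ)]

/-- The `b`-component of `c ↦ f (y c)`. -/
noncomputable def phi (f : G → ℂ) (b : IrrCharacter V) (y : P) : ℂ :=
  (Nat.card V : ℂ)⁻¹ * ∑ v : V, f ((y : G) * v) * conj ((b : V → ℂ) v)

include K

/-- The decomposition number attached to `l`. -/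
noncomputable def acoef (χ : IrrCharacter G) (b : IrrCharacter V) (l : P →* ℂˣ) : ℤ :=
  (nco K.D (IsIrrCharacter.isCharacter χ.2) 1 b : ℤ) - nco K.D (IsIrrCharacter.isCharacter χ.2) l b

theorem acoef_eq (χ : IrrCharacter G) (b : IrrCharacter V) (l : P →* ℂˣ) :
    ((acoef K χ b l : ℤ) : ℂ) = co K.D (χ : G → ℂ) 1 b - co K.D (χ : G → ℂ) l b := by
  simp [acoef, co_eq K.D (IsIrrCharacter.isCharacter χ.2)]

theorem acoef_one (χ : IrrCharacter G) (b : IrrCharacter V) : acoef K χ b 1 = 0 := sub_self _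

theorem co_eq_phi (f : G → ℂ) (l : P →* ℂˣ) (b : IrrCharacter V) :
    co K.D f l b = (p : ℂ)⁻¹ * ∑ y : P, phi f b y * conj ((l y : ℂˣ) : ℂ) := by
  rw [co_eq_sum]
  simp only [phi, Finset.mul_sum, Finset.sum_mul]
  rw [Finset.sum_comm, K.hP]
  exact Finset.sum_congr rfl fun y _ => Finset.sum_congr rfl fun v _ => by ring

theorem phi_eq_sum (f : G → ℂ) (b : IrrCharacter V) (y : P) :
    phi f b y = ∑ l : P →* ℂˣ, co K.D f l b * (l y : ℂ) := by
  classical
  simp only [co_eq_phi K, Finset.mul_sum, Finset.sum_mul]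
  rw [Finset.sum_comm, Finset.sum_eq_single y]
  · rw [Finset.sum_congr rfl fun l _ => show _ = (p : ℂ)⁻¹ * phi f b y by
      rw [mul_assoc, mul_assoc, conj_linear, ← Units.val_mul, ← map_mul, inv_mul_cancel, map_one,
        Units.val_one, mul_one], Finset.sum_const, Finset.card_univ, card_dual K.D, K.hP,
      nsmul_eq_mul, ← mul_assoc, mul_inv_cancel₀ (Nat.cast_ne_zero.2 K.hp.ne_zero), one_mul]
  · intro z _ hz
    have h0 : ∑ l : P →* ℂˣ, conj ((l z : ℂˣ) : ℂ) * (l y : ℂ) = 0 := by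
      rw [Finset.sum_congr rfl fun l _ => by rw [conj_linear, ← Units.val_mul, ← map_mul],
        sum_linear K.D, if_neg fun h => hz (inv_mul_eq_one.1 h)]
    calc _ = (p : ℂ)⁻¹ * phi f b z * ∑ l : P →* ℂˣ, conj ((l z : ℂˣ) : ℂ) * (l y : ℂ) := by
          rw [Finset.mul_sum]; exact Finset.sum_congr rfl fun l _ => by ring
      _ = 0 := by rw [h0, mul_zero]
  · exact fun h => absurd (Finset.mem_univ _) h

theorem phi_eq_acoef (χ : IrrCharacter G) (b : IrrCharacter V) {y : P} (hy : y ≠ 1) :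
    phi (χ : G → ℂ) b y = -∑ l : P →* ℂˣ, (acoef K χ b l : ℂ) * (l y : ℂ) := by
  simp only [acoef_eq, sub_mul]
  rw [Finset.sum_sub_distrib, ← Finset.mul_sum, sum_linear K.D, if_neg hy, mul_zero, zero_sub,
    neg_neg, phi_eq_sum K]

theorem acoef_eq_phi (χ : IrrCharacter G) (b : IrrCharacter V) (l : P →* ℂˣ) :
    ((acoef K χ b l : ℤ) : ℂ) =
      (p : ℂ)⁻¹ * ∑ y : P, phi (χ : G → ℂ) b y * (1 - conj ((l y : ℂˣ) : ℂ)) := by
  rw [acoef_eq, co_eq_phi K, co_eq_phi K, ← mul_sub, ← Finset.sum_sub_distrib]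
  congr 1
  exact Finset.sum_congr rfl fun y _ => by simp only [MonoidHom.one_apply, Units.val_one, map_one]; ring

theorem exists_pow_eq {y : P} (hy : y ≠ 1) (z : P) : ∃ i : ℕ, y ^ i = z := by
  haveI := Fact.mk K.hp
  exact Submonoid.mem_powers_iff _ _ |>.1 (mem_powers_of_prime_card K.hP hy)

theorem linear_eq_one_iff {l : P →* ℂˣ} (hl : l ≠ 1) (y : P) : l y = 1 ↔ y = 1 := by
  refine ⟨fun h => ?_, fun h => by rw [h, map_one]⟩
  by_contra hy
  refine hl (MonoidHom.ext fun z => ?_)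
  obtain ⟨i, rfl⟩ := exists_pow_eq K hy z
  rw [map_pow, h, one_pow, MonoidHom.one_apply]

theorem linear_pow_p (l : P →* ℂˣ) (y : P) : ((l y : ℂˣ) : ℂ) ^ p = 1 := by
  rw [← Units.val_pow_eq_pow_val, ← map_pow, ← K.hP, pow_card_eq_one', map_one, Units.val_one]

theorem exists_dual_ne_one : ∃ l : P →* ℂˣ, l ≠ 1 := by
  by_contra h
  push Not at h
  haveI : Subsingleton (P →* ℂˣ) := ⟨fun a b => by rw [h a, h b]⟩
  have h1 := card_dual K.D
  rw [K.hP] at h1
  have := Fintype.card_le_one_iff_subsingleton.2 (inferInstance : Subsingleton (P →* ℂˣ))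
  have := K.hp.two_le
  omega

/-- The non-trivial linear characters are the powers of any one of them. -/
theorem exists_dual_pow {l m : P →* ℂˣ} (hl : l ≠ 1) (hm : m ≠ 1) :
    ∃ k : ℕ, ¬ p ∣ k ∧ l ^ k = m := by
  obtain ⟨y, hy⟩ : ∃ y : P, y ≠ 1 := by
    by_contra h
    push Not at h
    exact hl (MonoidHom.ext fun z => by rw [h z, map_one, map_one])
  have hprim : IsPrimitiveRoot ((l y : ℂˣ) : ℂ) p := by
    rw [IsPrimitiveRoot.iff_orderOf]
    haveI := Fact.mk K.hp
    refine orderOf_eq_prime (linear_pow_p K l y) fun h => hy ((linear_eq_one_iff K hl y).1 ?_)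
    exact Units.ext (by simpa using h)
  haveI : NeZero p := ⟨K.hp.ne_zero⟩
  obtain ⟨k, hk, hke⟩ := hprim.eq_pow_of_pow_eq_one (linear_pow_p K m y)
  have heq : l ^ k = m := MonoidHom.ext fun z => by
    obtain ⟨i, rfl⟩ := exists_pow_eq K hy z
    rw [map_pow, map_pow, MonoidHom.pow_apply]
    exact Units.ext (by push_cast; rw [hke])
  refine ⟨k, fun h => hm ?_, heq⟩
  rcases Nat.eq_zero_or_pos k with rfl | hk0
  · rw [← heq]; exact MonoidHom.ext fun z => by simp [MonoidHom.pow_apply]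
  · exact absurd (Nat.le_of_dvd hk0 h) (by omega)

/-- The stabiliser of `b` in `N`. -/
noncomputable def stabB (b : IrrCharacter V) : Subgroup G where
  carrier := {x | ∃ hx : x ∈ N, bT K.D ⟨x, hx⟩ b = b}
  one_mem' := ⟨one_mem N, Subtype.ext (funext fun v => congrArg (b : V → ℂ) (Subtype.ext (by
    show (1 : G) * (v : G) * (1 : G)⁻¹ = v
    group)))⟩
  mul_mem' := by
    rintro x y ⟨hx, hxb⟩ ⟨hy, hyb⟩
    refine ⟨mul_mem hx hy, Subtype.ext (funext fun v => ?_)⟩
    have h1 := congrFun (congrArg Subtype.val hxb)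
      ⟨y * v * y⁻¹, K.D.hNV y hy v v.2⟩
    have h2 := congrFun (congrArg Subtype.val hyb) v
    refine Eq.trans ?_ ((h1.trans ?_))
    · exact congrArg (b : V → ℂ) (Subtype.ext (by
        show (x * y) * (v : G) * (x * y)⁻¹ = x * (y * v * y⁻¹) * x⁻¹
        group))
    · exact h2
  inv_mem' := by
    rintro x ⟨hx, hxb⟩
    refine ⟨inv_mem hx, Subtype.ext (funext fun v => ?_)⟩
    have h1 := congrFun (congrArg Subtype.val hxb) ⟨x⁻¹ * v * x⁻¹⁻¹, K.D.hNV _ (inv_mem hx) v v.2⟩
    refine Eq.trans ?_ (h1.symm.trans ?_)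
    · rfl
    · exact congrArg (b : V → ℂ) (Subtype.ext (by
        show x * (x⁻¹ * v * x⁻¹⁻¹) * x⁻¹ = v
        group))

theorem stabB_le (b : IrrCharacter V) : stabB K b ≤ N := fun _ h => h.1

theorem centralizer_le_stabB (b : IrrCharacter V) :
    Subgroup.centralizer (P : Set G) ≤ stabB K b := by
  intro x hx
  obtain ⟨y, hy, v, hv, rfl⟩ := (K.hC x).1 hx
  have hxN : y * v ∈ N := by rw [K.hN]; exact Subgroup.centralizer_le_normalizer _ hx
  refine ⟨hxN, Subtype.ext (funext fun w => ?_)⟩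
  show (b : V → ℂ) _ = _
  refine Eq.trans (congrArg (b : V → ℂ) (Subtype.ext ?_))
    (IsCharacter.isClassFunction (IsIrrCharacter.isCharacter b.2) w ⟨v, hv⟩)
  show y * v * (w : G) * (y * v)⁻¹ = v * w * v⁻¹
  have h2 : y * (v * w * v⁻¹) = v * w * v⁻¹ * y :=
    K.D.pv y hy _ (V.mul_mem (V.mul_mem hv w.2) (V.inv_mem hv))
  calc y * v * (w : G) * (y * v)⁻¹ = y * (v * w * v⁻¹) * y⁻¹ := by group
    _ = v * w * v⁻¹ := by rw [h2, mul_inv_cancel_right]

open scoped Classical in
theorem phi_gram (b : IrrCharacter V) {y z : P} (hy : y ≠ 1) :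
    ∑ χ : IrrCharacter G, phi (χ : G → ℂ) b y * conj (phi (χ : G → ℂ) b z) =
      (Nat.card V : ℂ)⁻¹ *
        ((Finset.univ.filter fun x : N => (x : G) ∈ stabB K b ∧
          (x : G) * z * (x : G)⁻¹ = y).card : ℂ) := by
  obtain ⟨k, hk1, hk2⟩ := Nat.chineseRemainder K.D.cop 1 0
  have hpw : ∀ (y : P) (v : V), ((y : G) * v) ^ k = y := by
    intro y v
    rw [(show Commute (y : G) v from K.D.pv _ y.2 _ v.2).mul_pow,
      show (v : G) ^ k = 1 from orderOf_dvd_iff_pow_eq_one.1 (by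
        rw [Subgroup.orderOf_coe]
        exact (orderOf_dvd_natCard v).trans (Nat.modEq_zero_iff_dvd.1 hk2)),
      mul_one]
    conv_rhs => rw [← pow_one (y : G)]
    refine pow_eq_pow_iff_modEq.2 (hk1.of_dvd ?_)
    rw [Subgroup.orderOf_coe]
    exact orderOf_dvd_natCard y
  have hVinv : (Nat.card V : ℂ) ≠ 0 := Nat.cast_ne_zero.2 Nat.card_pos.ne'
  have e1 : ∑ χ : IrrCharacter G, phi (χ : G → ℂ) b y * conj (phi (χ : G → ℂ) b z) =
      (Nat.card V : ℂ)⁻¹ * (Nat.card V : ℂ)⁻¹ * ∑ v : V, ∑ w : V,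
        conj ((b : V → ℂ) v) * (b : V → ℂ) w *
          ∑ x : G, if x * ((z : G) * w) * x⁻¹ = (y : G) * v then (1 : ℂ) else 0 := by
    have hcount : ∀ v w : V, (∑ x : G, if x * ((z : G) * w) * x⁻¹ = (y : G) * v then (1 : ℂ) else 0) =
        ∑ χ : IrrCharacter G, (χ : G → ℂ) ((y : G) * v) * conj ((χ : G → ℂ) ((z : G) * w)) := by
      intro v w
      rw [column_orth_count, Finset.natCast_card_filter]
    simp only [hcount, phi, map_mul, map_sum, map_inv₀, map_natCast, Complex.conj_conj,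
      Finset.mul_sum, Finset.sum_mul]
    rw [Finset.sum_comm, Finset.sum_comm (s := (Finset.univ : Finset V)) (t := (Finset.univ : Finset V))]
    refine Finset.sum_congr rfl fun w _ => ?_
    rw [Finset.sum_comm]
    exact Finset.sum_congr rfl fun v _ => Finset.sum_congr rfl fun χ _ => by ring
  have e2 : ∀ v : V, ∑ w : V, (b : V → ℂ) w *
      (∑ x : G, if x * ((z : G) * w) * x⁻¹ = (y : G) * v then (1 : ℂ) else 0) =
      ∑ x : N, if (x : G) * z * (x : G)⁻¹ = y then
        (b : V → ℂ) ⟨(x : G)⁻¹ * v * (x : G)⁻¹⁻¹, K.D.hNV _ (inv_mem x.2) v v.2⟩ else 0 := by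
    intro v
    simp only [Finset.mul_sum, mul_ite, mul_one, mul_zero]
    rw [Finset.sum_comm]
    have hkey : ∀ (x : G) (w : V), x * ((z : G) * w) * x⁻¹ = (y : G) * v →
        x * z * x⁻¹ = y ∧ x ∈ N ∧ x * w * x⁻¹ = v := by
      intro x w h
      have h1 : x * (z : G) * x⁻¹ = y := by
        have := congrArg (· ^ k) h
        simpa only [conj_pow, hpw] using this
      have hz1 : (z : G) ≠ 1 := fun h2 => hy (Subtype.ext (by
        rw [← h1, h2, mul_one, mul_inv_cancel]; rfl))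
      refine ⟨h1, K.D.hTI _ z.2 hz1 x (by rw [h1]; exact y.2), ?_⟩
      rw [← conj_mul, h1] at h
      exact mul_left_cancel h
    rw [← Finset.sum_filter_add_sum_filter_not (Finset.univ : Finset G) (fun x => x ∈ N)]
    rw [Finset.sum_eq_zero (s := Finset.univ.filter fun x => ¬ x ∈ N) fun x hx =>
      Finset.sum_eq_zero fun w _ => if_neg fun h => (Finset.mem_filter.1 hx).2 (hkey x w h).2.1,
      add_zero, Finset.sum_subtype (Finset.univ.filter fun x => x ∈ N) (p := fun x => x ∈ N)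
        (fun x => by simp)]
    refine Finset.sum_congr rfl fun x _ => ?_
    by_cases hxz : (x : G) * z * (x : G)⁻¹ = y
    · rw [if_pos hxz,
        Finset.sum_eq_single (⟨(x : G)⁻¹ * v * (x : G)⁻¹⁻¹, K.D.hNV _ (inv_mem x.2) v v.2⟩ : V),
        if_pos]
      · show (x : G) * ((z : G) * ((x : G)⁻¹ * v * (x : G)⁻¹⁻¹)) * (x : G)⁻¹ = y * v
        rw [← hxz]; group
      · intro w _ hw
        refine if_neg fun h => hw (Subtype.ext ?_)
        show (w : G) = (x : G)⁻¹ * (v : G) * (x : G)⁻¹⁻¹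
        obtain ⟨-, -, h3⟩ := hkey x w h
        calc (w : G) = (x : G)⁻¹ * ((x : G) * w * (x : G)⁻¹) * (x : G)⁻¹⁻¹ := by group
          _ = _ := by rw [h3]
      · exact fun h => absurd (Finset.mem_univ _) h
    · rw [if_neg hxz]
      exact Finset.sum_eq_zero fun w _ => if_neg fun h => hxz (hkey x w h).1
  have e3 : ∀ v : V, (∑ w : V, conj ((b : V → ℂ) v) * (b : V → ℂ) w *
      ∑ x : G, if x * ((z : G) * w) * x⁻¹ = (y : G) * v then (1 : ℂ) else 0) =
      conj ((b : V → ℂ) v) * ∑ x : N, if (x : G) * z * (x : G)⁻¹ = y then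
        (b : V → ℂ) ⟨(x : G)⁻¹ * v * (x : G)⁻¹⁻¹, K.D.hNV _ (inv_mem x.2) v v.2⟩ else 0 := by
    intro v
    rw [← e2 v, Finset.mul_sum]
    exact Finset.sum_congr rfl fun w _ => by ring
  rw [e1, Finset.sum_congr rfl fun v _ => e3 v]
  simp only [Finset.mul_sum, mul_ite, mul_zero]
  rw [Finset.sum_comm, Finset.natCast_card_filter, Finset.mul_sum]
  refine Finset.sum_congr rfl fun x _ => ?_
  by_cases hxz : (x : G) * z * (x : G)⁻¹ = y
  swap
  · rw [if_neg (fun h => hxz h.2)]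
    simp [hxz]
  have h1 := classInner_irr (bT K.D x⁻¹ b).2 b.2
  unfold classInner at h1
  simp only [if_pos hxz, ← Finset.mul_sum]
  rw [show ∑ v : V, conj ((b : V → ℂ) v) *
      (b : V → ℂ) ⟨(x : G)⁻¹ * v * (x : G)⁻¹⁻¹, K.D.hNV _ (inv_mem x.2) v v.2⟩ =
      ∑ v : V, (bT K.D x⁻¹ b : V → ℂ) v * conj ((b : V → ℂ) v) from
    Finset.sum_congr rfl fun v _ => mul_comm _ _, mul_assoc, h1]
  have hiff : ((bT K.D x⁻¹ b : IrrCharacter V) : V → ℂ) = (b : V → ℂ) ↔ (x : G) ∈ stabB K b := by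
    constructor
    · intro h
      have h2 : (x : G)⁻¹ ∈ stabB K b := ⟨inv_mem x.2, Subtype.ext h⟩
      simpa using inv_mem h2
    · intro h
      obtain ⟨_, h2⟩ := inv_mem h
      exact congrArg Subtype.val h2
  by_cases hs : (x : G) ∈ stabB K b
  · rw [if_pos (hiff.2 hs), if_pos ⟨hs, hxz⟩]
  · rw [if_neg (mt hiff.1 hs), if_neg fun h => hs h.1]

open scoped Classical in
/-- The orthogonality relations of the decomposition numbers. -/
theorem acoef_gram (b : IrrCharacter V) {l m : P →* ℂˣ} (hl : l ≠ 1) (hm : m ≠ 1) :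
    ((Nat.card P * Nat.card V : ℕ) : ℂ) *
      ∑ χ : IrrCharacter G, ((acoef K χ b l : ℤ) : ℂ) * (acoef K χ b m : ℤ) =
      ((Finset.univ.filter fun x : N => (x : G) ∈ stabB K b).card : ℂ) +
        ((Finset.univ.filter fun x : N => (x : G) ∈ stabB K b ∧ lT K.D x l = m).card : ℂ) := by
  have hp0 : (p : ℂ) ≠ 0 := Nat.cast_ne_zero.2 K.hp.ne_zero
  have hV0 : (Nat.card V : ℂ) ≠ 0 := Nat.cast_ne_zero.2 Nat.card_pos.ne'
  set H : Finset N := Finset.univ.filter fun x : N => (x : G) ∈ stabB K b with hH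
  have hconj : ∀ χ : IrrCharacter G, ((acoef K χ b m : ℤ) : ℂ) =
      (p : ℂ)⁻¹ * ∑ z : P, conj (phi (χ : G → ℂ) b z) * (1 - (m z : ℂ)) := by
    intro χ
    conv_lhs => rw [← map_intCast (starRingEnd ℂ), acoef_eq_phi K]
    simp only [map_mul, map_sum, map_sub, map_one, map_inv₀, map_natCast, Complex.conj_conj]
  have e1 : ∑ χ : IrrCharacter G, ((acoef K χ b l : ℤ) : ℂ) * (acoef K χ b m : ℤ) =
      (p : ℂ)⁻¹ * (p : ℂ)⁻¹ * ∑ y : P, ∑ z : P,
        (1 - conj ((l y : ℂˣ) : ℂ)) * (1 - (m z : ℂ)) *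
          ∑ χ : IrrCharacter G, phi (χ : G → ℂ) b y * conj (phi (χ : G → ℂ) b z) := by
    simp only [acoef_eq_phi K _ b l, hconj, Finset.mul_sum, Finset.sum_mul]
    rw [Finset.sum_comm (s := (Finset.univ : Finset (IrrCharacter G)))]
    rw [Finset.sum_comm (s := (Finset.univ : Finset P)) (t := (Finset.univ : Finset P))]
    refine Finset.sum_congr rfl fun z _ => ?_
    rw [Finset.sum_comm]
    exact Finset.sum_congr rfl fun y _ => Finset.sum_congr rfl fun χ _ => by ring
  have e2 : ∀ y z : P, (1 - conj ((l y : ℂˣ) : ℂ)) * (1 - (m z : ℂ)) *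
      ∑ χ : IrrCharacter G, phi (χ : G → ℂ) b y * conj (phi (χ : G → ℂ) b z) =
      (Nat.card V : ℂ)⁻¹ * ∑ x ∈ H, if (x : G) * z * (x : G)⁻¹ = y then
        (1 - conj ((l y : ℂˣ) : ℂ)) * (1 - (m z : ℂ)) else 0 := by
    intro y z
    by_cases hy : y = 1
    · subst hy
      simp
    rw [phi_gram K b hy, hH, Finset.sum_filter, Finset.natCast_card_filter]
    simp only [Finset.mul_sum]
    refine Finset.sum_congr rfl fun x _ => ?_
    by_cases h1 : (x : G) ∈ stabB K b <;> by_cases h2 : (x : G) * z * (x : G)⁻¹ = y <;>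
      simp [h1, h2] <;> ring
  have e3 : ∀ x : N, ∑ y : P, ∑ z : P, (if (x : G) * z * (x : G)⁻¹ = y then
      (1 - conj ((l y : ℂˣ) : ℂ)) * (1 - (m z : ℂ)) else 0) =
      (p : ℂ) + if lT K.D x l = m then (p : ℂ) else 0 := by
    intro x
    rw [Finset.sum_comm]
    have hz : ∀ z : P, ∑ y : P, (if (x : G) * z * (x : G)⁻¹ = y then
        (1 - conj ((l y : ℂˣ) : ℂ)) * (1 - (m z : ℂ)) else 0) =
        1 - conj ((lT K.D x l z : ℂˣ) : ℂ) - (m z : ℂ) +
          (m z : ℂ) * conj ((lT K.D x l z : ℂˣ) : ℂ) := by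
      intro z
      rw [Finset.sum_eq_single ⟨(x : G) * z * (x : G)⁻¹, K.D.hNP x x.2 z z.2⟩, if_pos rfl, lT_apply]
      · ring
      · exact fun y _ hy => if_neg fun h => hy (Subtype.ext h.symm)
      · exact fun h => absurd (Finset.mem_univ _) h
    rw [Finset.sum_congr rfl fun z _ => hz z, Finset.sum_add_distrib, Finset.sum_sub_distrib,
      Finset.sum_sub_distrib, orth K.D, Finset.sum_const, Finset.card_univ,
      ← Nat.card_eq_fintype_card, K.hP, nsmul_eq_mul, mul_one]
    have h1 : ∀ n : P →* ℂˣ, n ≠ 1 → ∑ z : P, ((n z : ℂˣ) : ℂ) = 0 := by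
      intro n hn
      have := orth K.D n 1
      simpa [if_neg hn] using this
    have h2 : ∑ z : P, conj ((lT K.D x l z : ℂˣ) : ℂ) = 0 := by
      rw [← map_sum, h1 _ (fun h => hl ((lT_eq_one_iff K.D x l).1 h)), map_zero]
    rw [h2, h1 m hm, sub_zero, sub_zero]
    congr 1
    simp [eq_comm]
  rw [e1]
  simp only [e2, ← Finset.mul_sum]
  rw [Finset.sum_congr rfl fun y _ => Finset.sum_comm, Finset.sum_comm]
  simp only [e3, Finset.sum_add_distrib, Finset.sum_const, nsmul_eq_mul, Nat.cast_mul, K.hP]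
  have hf : (Finset.univ.filter fun x : N => (x : G) ∈ stabB K b ∧ lT K.D x l = m) =
      H.filter fun x => lT K.D x l = m := by
    rw [hH, Finset.filter_filter]
  rw [hf, ← Finset.sum_filter, Finset.sum_const, nsmul_eq_mul]
  field_simp

/-- The decomposition numbers are orthogonal to the `p`-regular columns. -/
theorem acoef_regular (b : IrrCharacter V) (l : P →* ℂˣ) {g : G} (hg : ¬ p ∣ orderOf g) :
    ∑ χ : IrrCharacter G, ((acoef K χ b l : ℤ) : ℂ) * (χ : G → ℂ) g = 0 := by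
  classical
  have key : ∑ χ : IrrCharacter G, ((acoef K χ b l : ℤ) : ℂ) * conj ((χ : G → ℂ) g) = 0 := by
    simp only [acoef_eq_phi K, Finset.mul_sum, Finset.sum_mul]
    rw [Finset.sum_comm]
    refine Finset.sum_eq_zero fun y _ => ?_
    by_cases hy : y = 1
    · subst hy
      simp
    have e : ∀ v : V, ∑ χ : IrrCharacter G, (χ : G → ℂ) ((y : G) * v) * conj ((χ : G → ℂ) g) = 0 := by
      intro v
      refine column_orth_of_not_isConj fun h => hg ?_
      obtain ⟨c, hc⟩ := isConj_iff.1 h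
      have h2 : orderOf ((y : G) * v) = orderOf g := by
        rw [← hc, ← MulAut.conj_apply]
        exact (orderOf_injective (MulAut.conj c).toMonoidHom (MulAut.conj c).injective _).symm
      rw [← h2]
      have hoy : orderOf (y : G) = p := by
        haveI := Fact.mk K.hp
        rw [Subgroup.orderOf_coe]
        exact (K.hp.eq_one_or_self_of_dvd _ (K.hP ▸ orderOf_dvd_natCard y)).resolve_left
          (fun h1 => hy (orderOf_eq_one_iff.1 h1))
      have hov : orderOf (v : G) ∣ Nat.card V := by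
        rw [Subgroup.orderOf_coe]; exact orderOf_dvd_natCard v
      rw [(show Commute (y : G) v from K.D.pv _ y.2 _ v.2).orderOf_mul_eq_mul_orderOf_of_coprime
        (by rw [hoy]; exact K.hp.coprime_iff_not_dvd.2 fun h1 => K.hV (h1.trans hov)), hoy]
      exact dvd_mul_right p _
    calc _ = (p : ℂ)⁻¹ * (1 - conj ((l y : ℂˣ) : ℂ)) * (Nat.card V : ℂ)⁻¹ *
          ∑ v : V, conj ((b : V → ℂ) v) *
            ∑ χ : IrrCharacter G, (χ : G → ℂ) ((y : G) * v) * conj ((χ : G → ℂ) g) := by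
          simp only [phi, Finset.mul_sum, Finset.sum_mul]
          rw [Finset.sum_comm]
          exact Finset.sum_congr rfl fun v _ => Finset.sum_congr rfl fun χ _ => by ring
      _ = 0 := by simp [e]
  have h := congrArg (starRingEnd ℂ) key
  simpa [map_sum] using h

end Cfsg.Agent.DefOne
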