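/-
The automorphisms fixing the roots of unity of order prime to `p`, acting on the irreducible
characters and on the decomposition numbers.
-/
import Cfsg.Agent.Lib.DefOne.Setup
import Cfsg.Agent.Lib.DefOne.Ring

set_option linter.unusedSectionVars false
set_option linter.style.haveILetI false

namespace Cfsg.Agent.DefOne

open Cfsg Cfsg.Agent.Char Cfsg.Agent.CCSylow
open scoped ComplexConjugate

universe u

variable {G : Type u} [Group G] [Fintype G]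

/-- The conjugate character. -/
noncomputable def galT (σ : ℂ ≃+* ℂ) (χ : IrrCharacter G) : IrrCharacter G :=
  ⟨fun g => σ ((χ : G → ℂ) g), CharGalois.IsIrrCharacter.twist χ.2 σ⟩

theorem galT_apply (σ : ℂ ≃+* ℂ) (χ : IrrCharacter G) (g : G) :
    (galT σ χ : G → ℂ) g = σ ((χ : G → ℂ) g) := rfl

theorem galT_trans (σ τ : ℂ ≃+* ℂ) (χ : IrrCharacter G) :
    galT (σ.trans τ) χ = galT τ (galT σ χ) := rfl

theorem galT_refl (χ : IrrCharacter G) : galT (RingEquiv.refl ℂ) χ = χ := rfl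

theorem galT_symm (σ : ℂ ≃+* ℂ) (χ : IrrCharacter G) : galT σ.symm (galT σ χ) = χ :=
  Subtype.ext (funext fun g => σ.symm_apply_apply _)

theorem galT_injective (σ : ℂ ≃+* ℂ) : Function.Injective (galT (G := G) σ) :=
  Function.LeftInverse.injective (galT_symm σ)

theorem galT_one (σ : ℂ ≃+* ℂ) (χ : IrrCharacter G) :
    (galT σ χ : G → ℂ) 1 = (χ : G → ℂ) 1 := by
  obtain ⟨d, -, hd⟩ := IsIrrCharacter.exists_degree χ.2
  rw [galT_apply, hd, map_natCast]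

variable {p : ℕ}

theorem FixesP.refl : FixesP p (RingEquiv.refl ℂ) := fun _ _ => rfl

theorem FixesP.trans {σ τ : ℂ ≃+* ℂ} (h : FixesP p σ) (h' : FixesP p τ) :
    FixesP p (σ.trans τ) := fun w hw => by rw [RingEquiv.trans_apply, h w hw, h' w hw]

theorem FixesP.symm {σ : ℂ ≃+* ℂ} (h : FixesP p σ) : FixesP p σ.symm := fun w hw => by
  rw [RingEquiv.symm_apply_eq, h w hw]

theorem eq_on_roots (hp : p.Prime) {σ τ : ℂ ≃+* ℂ} (hσ : FixesP p σ) (hτ : FixesP p τ) {ζ : ℂ}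
    (hζ : IsPrimitiveRoot ζ p) (h : σ ζ = τ ζ) {N : ℕ} (hN : ¬ p ^ 2 ∣ N) {z : ℂ}
    (hz : z ^ N = 1) : σ z = τ z := by
  by_cases hpN : p ∣ N
  swap
  · rw [hσ z ⟨N, hpN, hz⟩, hτ z ⟨N, hpN, hz⟩]
  obtain ⟨m, rfl⟩ := hpN
  have hm : ¬ p ∣ m := fun hd => hN (by rw [pow_two]; exact mul_dvd_mul_left p hd)
  have hz0 : z ≠ 0 := fun h0 => by
    have hm0 : p * m ≠ 0 := mul_ne_zero hp.ne_zero fun h1 => hm (h1 ▸ dvd_zero p)
    rw [h0, zero_pow hm0] at hz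
    exact zero_ne_one hz
  have hne : τ z ≠ 0 := fun h0 => hz0 (τ.injective (by rw [h0, map_zero]))
  have hroots : ∀ w : ℂ, w ^ p = 1 → σ w = τ w := fun w hw => by
    haveI : NeZero p := ⟨hp.ne_zero⟩
    obtain ⟨i, -, rfl⟩ := hζ.eq_pow_of_pow_eq_one hw
    rw [map_pow, map_pow, h]
  set r := σ z / τ z with hr
  have h1 : r ^ m = 1 := by
    rw [hr, div_pow, ← map_pow, ← map_pow, hroots (z ^ m) (by rw [← pow_mul, mul_comm, hz]),
      div_self]
    rw [map_pow]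
    exact pow_ne_zero _ hne
  have h2 : r ^ p = 1 := by
    rw [hr, div_pow, ← map_pow, ← map_pow,
      hσ (z ^ p) ⟨m, hm, by rw [← pow_mul, hz]⟩, hτ (z ^ p) ⟨m, hm, by rw [← pow_mul, hz]⟩,
      div_self]
    exact pow_ne_zero _ hz0
  have h3 : r ^ Nat.gcd p m = 1 := pow_gcd_eq_one.2 ⟨h2, h1⟩
  rw [show Nat.gcd p m = 1 from hp.coprime_iff_not_dvd.2 hm, pow_one] at h3
  exact (div_eq_one_iff_eq hne).1 h3

theorem galT_eq_of_eq (hp : p.Prime) (hsq : ¬ p ^ 2 ∣ Nat.card G) {σ τ : ℂ ≃+* ℂ}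
    (hσ : FixesP p σ) (hτ : FixesP p τ) {ζ : ℂ} (hζ : IsPrimitiveRoot ζ p) (h : σ ζ = τ ζ)
    (χ : IrrCharacter G) : galT σ χ = galT τ χ := by
  obtain ⟨k, -, hk⟩ := CharGalois.exists_exponent σ.toRingHom (Nat.card_pos (α := G)).ne'
  refine Subtype.ext (funext fun g => ?_)
  show σ.toRingHom ((χ : G → ℂ) g) = τ.toRingHom ((χ : G → ℂ) g)
  rw [CharGalois.map_char (IsIrrCharacter.isCharacter χ.2) _ hk,
    CharGalois.map_char (IsIrrCharacter.isCharacter χ.2) τ.toRingHom (k := k) fun z hz => ?_]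
  rw [← hk z hz]
  exact (eq_on_roots hp hσ hτ hζ h hsq hz).symm

theorem galT_eq_self (hp : p.Prime) (hsq : ¬ p ^ 2 ∣ Nat.card G) {σ : ℂ ≃+* ℂ}
    (hσ : FixesP p σ) {ζ : ℂ} (hζ : IsPrimitiveRoot ζ p) (h : σ ζ = ζ) (χ : IrrCharacter G) :
    galT σ χ = χ := galT_eq_of_eq hp hsq hσ FixesP.refl hζ h χ

theorem irr_fixed {H : Type u} [Group H] [Fintype H] (hH : ¬ p ∣ Nat.card H) {σ : ℂ ≃+* ℂ}
    (hσ : FixesP p σ) (b : IrrCharacter H) (h : H) : σ ((b : H → ℂ) h) = (b : H → ℂ) h := by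
  have h1 := CharGalois.map_char (IsIrrCharacter.isCharacter b.2) σ.toRingHom (k := 1)
    (fun z hz => by rw [pow_one]; exact hσ z ⟨_, hH, hz⟩) h
  rwa [pow_one] at h1

variable {P V N : Subgroup G} {e : ℕ} (K : Conf p P V N e)
  [Fintype P] [Fintype V] [Fintype N] [Fintype (P →* ℂˣ)]

include K

theorem co_sigma {σ : ℂ ≃+* ℂ} (hσ : FixesP p σ) {k : ℕ}
    (hk : ∀ z : ℂ, z ^ p = 1 → σ z = z ^ k) (χ : IrrCharacter G) (l : P →* ℂˣ)
    (b : IrrCharacter V) :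
    co K.D (galT σ χ : G → ℂ) (l ^ k) b = σ (co K.D (χ : G → ℂ) l b) := by
  rw [co_eq_sum, co_eq_sum]
  simp only [map_mul, map_inv₀, map_natCast, map_sum]
  refine congrArg _ (Finset.sum_congr rfl fun v _ => ?_)
  congr 1
  · refine congrArg _ (Finset.sum_congr rfl fun y _ => ?_)
    rw [galT_apply, conj_linear, conj_linear, hk _ (linear_pow_p K l _), MonoidHom.pow_apply,
      Units.val_pow_eq_pow_val]
  · rw [← IsCharacter.inv (IsIrrCharacter.isCharacter b.2), irr_fixed K.hV hσ]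

theorem acoef_sigma {σ : ℂ ≃+* ℂ} (hσ : FixesP p σ) {k : ℕ}
    (hk : ∀ z : ℂ, z ^ p = 1 → σ z = z ^ k) (χ : IrrCharacter G) (l : P →* ℂˣ)
    (b : IrrCharacter V) : acoef K (galT σ χ) b (l ^ k) = acoef K χ b l := by
  have h1 : ((acoef K (galT σ χ) b (l ^ k) : ℤ) : ℂ) = σ ((acoef K χ b l : ℤ) : ℂ) := by
    rw [acoef_eq, acoef_eq, map_sub, ← co_sigma K hσ hk, ← co_sigma K hσ hk]
    congr 2
    exact (MonoidHom.ext fun y => by simp [MonoidHom.pow_apply]).symm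
  rw [map_intCast] at h1
  exact_mod_cast h1

end Cfsg.Agent.DefOne
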