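/-
Elementary facts on the complex group algebra: characters on it, traces of left multiplications,
idempotents coming from a subgroup.
-/
import Cfsg.Agent.Lib.Blocks.Center
import Cfsg.Agent.Lib.Char.Complete
import Mathlib.Algebra.MonoidAlgebra.Module

set_option linter.unusedSectionVars false
set_option linter.style.haveILetI false

namespace Cfsg.Agent.DefOne

open Cfsg Cfsg.Agent.Char Cfsg.Agent.Blocks MonoidAlgebra
open scoped ComplexConjugate

universe u

variable {G : Type u} [Group G] [Fintype G]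

/-- A character extended to the group algebra. -/
noncomputable def chiExt (χ : G → ℂ) (x : MonoidAlgebra ℂ G) : ℂ := ∑ g : G, x.coeff g * χ g

theorem trace_asAlgebraHom {n : ℕ} (ρ : Representation ℂ G (Fin n → ℂ)) (x : MonoidAlgebra ℂ G) :
    LinearMap.trace ℂ _ (ρ.asAlgebraHom x) = chiExt ρ.character x := by
  rw [asAlgebraHom_eq_sum, map_sum]
  simp only [map_smul, smul_eq_mul]
  rfl

theorem chiExt_of (χ : G → ℂ) (g : G) : chiExt χ (of ℂ G g) = χ g := by
  classical
  simp [chiExt, Finsupp.single_apply]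

theorem chiExt_add (χ : G → ℂ) (x y : MonoidAlgebra ℂ G) :
    chiExt χ (x + y) = chiExt χ x + chiExt χ y := by
  simp [chiExt, add_mul, Finset.sum_add_distrib]

theorem chiExt_smul (χ : G → ℂ) (c : ℂ) (x : MonoidAlgebra ℂ G) :
    chiExt χ (c • x) = c * chiExt χ x := by
  simp [chiExt, mul_assoc, Finset.mul_sum]

theorem chiExt_sum {ι : Type*} (χ : G → ℂ) (s : Finset ι) (f : ι → MonoidAlgebra ℂ G) :
    chiExt χ (∑ i ∈ s, f i) = ∑ i ∈ s, chiExt χ (f i) :=
  map_sum (AddMonoidHom.mk' (chiExt χ) (chiExt_add χ)) f s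

theorem chiExt_mul_central (χ : IrrCharacter G) (x : MonoidAlgebra ℂ G) {z : MonoidAlgebra ℂ G}
    (hz : IsClassElt z) : chiExt (χ : G → ℂ) (x * z) = omega χ z * chiExt (χ : G → ℂ) x := by
  obtain ⟨n, ρ, hρ, h⟩ := χ.2
  have hchi : χ = ⟨ρ.character, n, ρ, hρ, rfl⟩ := Subtype.ext h.symm
  rw [← h, ← trace_asAlgebraHom, ← trace_asAlgebraHom, map_mul,
    asAlgebraHom_classElt ρ hρ hz, ← hchi, mul_smul_comm, map_smul, smul_eq_mul,
    ← Module.End.one_eq_id, mul_one]

/-- The coefficient at the identity. -/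
theorem card_mul_coeff_one (x : MonoidAlgebra ℂ G) :
    (Nat.card G : ℂ) * x.coeff 1 =
      ∑ χ : IrrCharacter G, (χ : G → ℂ) 1 * chiExt (χ : G → ℂ) x := by
  classical
  simp only [chiExt, Finset.mul_sum]
  rw [Finset.sum_comm, Finset.sum_eq_single (1 : G)]
  · have h := congrFun (leftRegular_eq_sum (G := G)) 1
    rw [Finset.sum_apply, character_leftRegular, if_pos rfl] at h
    rw [h, Finset.sum_mul]
    exact Finset.sum_congr rfl fun χ _ => by simp only [Pi.smul_apply, smul_eq_mul]; ring
  · intro g _ hg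
    have h := congrFun (leftRegular_eq_sum (G := G)) g
    rw [Finset.sum_apply, character_leftRegular, if_neg hg] at h
    rw [← mul_zero (x.coeff g), h, Finset.mul_sum]
    exact Finset.sum_congr rfl fun χ _ => by simp only [Pi.smul_apply, smul_eq_mul]; ring
  · exact fun h => absurd (Finset.mem_univ _) h

/-- An element killed by every irreducible representation is zero. -/
theorem eq_zero_of_forall_rep {x : MonoidAlgebra ℂ G}
    (h : ∀ (n : ℕ) (ρ : Representation ℂ G (Fin n → ℂ)), ρ.IsIrreducible → ρ.asAlgebraHom x = 0) :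
    x = 0 := by
  classical
  refine gaExt fun g => ?_
  have key := card_mul_coeff_one (x * of ℂ G g⁻¹)
  rw [Finset.sum_eq_zero fun χ _ => by
    obtain ⟨n, ρ, hρ, hχ⟩ := χ.2
    rw [← hχ, ← trace_asAlgebraHom, map_mul, h n ρ hρ, zero_mul, map_zero, mul_zero]] at key
  have e : (x * of ℂ G g⁻¹).coeff 1 = x.coeff g := by
    rw [coeff_mul_univ, Finset.sum_eq_single g]
    · simp [Finsupp.single_apply]
    · intro a _ ha
      simp [Finsupp.single_apply, ha, Ne.symm ha]
    · exact fun h => absurd (Finset.mem_univ _) h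
  rw [e] at key
  exact (mul_eq_zero.1 key).resolve_left (Nat.cast_ne_zero.2 Nat.card_pos.ne')

/-- The trace of a left multiplication. -/
theorem trace_mulLeft (x : MonoidAlgebra ℂ G) :
    LinearMap.trace ℂ (MonoidAlgebra ℂ G) (LinearMap.mulLeft ℂ x) = (Nat.card G : ℂ) * x.coeff 1 := by
  classical
  let b : Module.Basis G ℂ (MonoidAlgebra ℂ G) := MonoidAlgebra.basis G ℂ
  have hb : ∀ g, b g = of ℂ G g := fun g => by simp [b, MonoidAlgebra.of_apply]
  rw [LinearMap.trace_eq_matrix_trace ℂ b, Matrix.trace]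
  have hd : ∀ g : G, (LinearMap.toMatrix b b (LinearMap.mulLeft ℂ x)).diag g = x.coeff 1 := by
    intro g
    rw [Matrix.diag_apply, LinearMap.toMatrix_apply, hb, LinearMap.mulLeft_apply]
    show (x * of ℂ G g).coeff g = x.coeff 1
    rw [coeff_mul_univ, Finset.sum_eq_single 1]
    · simp [Finsupp.single_apply]
    · intro a _ ha
      simp [Finsupp.single_apply, ha]
    · exact fun h => absurd (Finset.mem_univ _) h
  rw [Finset.sum_congr rfl fun g _ => hd g, Finset.sum_const, Finset.card_univ,
    ← Nat.card_eq_fintype_card, nsmul_eq_mul]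

theorem trace_mulLeft' (x : MonoidAlgebra ℂ G) :
    LinearMap.trace ℂ (MonoidAlgebra ℂ G) (LinearMap.mulLeft ℂ x) =
      ∑ χ : IrrCharacter G, (χ : G → ℂ) 1 * chiExt (χ : G → ℂ) x := by
  rw [trace_mulLeft, card_mul_coeff_one]

/-! ## Idempotents of a subgroup -/

variable (H : Subgroup G)

/-- The inclusion of the group algebra of a subgroup. -/
noncomputable def subEmb : MonoidAlgebra ℂ H →ₐ[ℂ] MonoidAlgebra ℂ G :=
  MonoidAlgebra.lift ℂ (MonoidAlgebra ℂ G) H ((of ℂ G).comp H.subtype)

variable [Fintype H]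

theorem subEmb_eq_sum (x : MonoidAlgebra ℂ H) :
    subEmb H x = ∑ h : H, x.coeff h • of ℂ G (h : G) := by
  rw [subEmb, MonoidAlgebra.lift_apply, Finsupp.sum_fintype _ _ (by simp)]
  rfl

theorem coeff_subEmb_coe (x : MonoidAlgebra ℂ H) (h : H) : (subEmb H x).coeff (h : G) = x.coeff h := by
  classical
  rw [subEmb_eq_sum, MonoidAlgebra.coeff_sum, Finset.sum_apply', Finset.sum_eq_single h]
  · simp
  · intro b _ hb
    simp [Finsupp.single_apply]
    exact fun e => absurd e hb
  · exact fun h' => absurd (Finset.mem_univ _) h'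

/-- The idempotent of an irreducible character of a subgroup. -/
noncomputable def subIdem (b : IrrCharacter H) : MonoidAlgebra ℂ G :=
  subEmb H (blockElt {b})

theorem subIdem_idem (b : IrrCharacter H) : subIdem H b * subIdem H b = subIdem H b := by
  rw [subIdem, ← map_mul, blockElt_idem]

theorem subIdem_mul_of_ne {b b' : IrrCharacter H} (h : b ≠ b') :
    subIdem H b * subIdem H b' = 0 := by
  rw [subIdem, subIdem, ← map_mul, blockElt_mul_of_disjoint (by simpa using h), map_zero]

theorem subIdem_comm (b : IrrCharacter H) (x : MonoidAlgebra ℂ H) :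
    subIdem H b * subEmb H x = subEmb H x * subIdem H b := by
  rw [subIdem, ← map_mul, ← map_mul, IsClassElt.comm (isClassElt_blockElt _)]

theorem coeff_blockElt_singleton (b : IrrCharacter H) (h : H) :
    (blockElt ({b} : Set (IrrCharacter H))).coeff h =
      (Nat.card H : ℂ)⁻¹ * ((b : H → ℂ) 1 * conj ((b : H → ℂ) h)) := by
  classical
  rw [coeff_blockElt, blockCoeff_eq_sum]
  simp [Finset.filter_eq']

theorem subIdem_eq_sum (b : IrrCharacter H) :
    subIdem H b = ∑ h : H,
      ((Nat.card H : ℂ)⁻¹ * ((b : H → ℂ) 1 * conj ((b : H → ℂ) h))) • of ℂ G (h : G) := by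
  rw [subIdem, subEmb_eq_sum]
  exact Finset.sum_congr rfl fun h _ => by rw [coeff_blockElt_singleton]

/-- A class element of `H` is scalar on the idempotent. -/
theorem subEmb_mul_subIdem (b : IrrCharacter H) {x : MonoidAlgebra ℂ H} (hx : IsClassElt x) :
    subEmb H x * subIdem H b = omega b x • subIdem H b := by
  classical
  rw [subIdem, ← map_mul, ← map_smul]
  congr 1
  refine classElt_ext (IsClassElt.mul hx (isClassElt_blockElt _))
    (IsClassElt.smul (isClassElt_blockElt _) _) fun χ => ?_
  rw [omega_mul χ hx (isClassElt_blockElt _), omega_smul, omega_blockElt]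
  by_cases h : χ ∈ ({b} : Set (IrrCharacter H))
  · rw [if_pos h, Set.mem_singleton_iff.1 h]
  · rw [if_neg h, mul_zero, mul_zero]

end Cfsg.Agent.DefOne
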