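/-
Lattices cut out by idempotents of the group algebra, and the characteristic polynomials of an
element on a Galois orbit of irreducible characters.
-/
import Cfsg.Agent.Lib.DefOne.Galois
import Cfsg.Agent.Lib.DefOne.GroupAlg
import Mathlib.LinearAlgebra.FreeModule.PID
import Mathlib.LinearAlgebra.Charpoly.BaseChange
import Mathlib.LinearAlgebra.Eigenspace.Minpoly
import Mathlib.LinearAlgebra.Eigenspace.Charpoly
import Mathlib.Algebra.Polynomial.Lifts

set_option linter.unusedSectionVars false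
set_option linter.style.haveILetI false

namespace Cfsg.Agent.DefOne

open Cfsg Cfsg.Agent.Char Cfsg.Agent.Blocks MonoidAlgebra Polynomial
open scoped ComplexConjugate

universe u

variable {G : Type u} [Group G] [Fintype G] {p : ℕ} {M : Ideal AlgInt} [M.IsPrime]

/-- The group ring over the coefficient ring, inside the complex group algebra. -/
noncomputable def RG (p : ℕ) (M : Ideal AlgInt) [M.IsPrime] (G : Type u) [Group G] :
    Submodule (rR p M) (MonoidAlgebra ℂ G) :=
  Submodule.span (rR p M) (Set.range fun g : G => of ℂ G g)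

theorem rsmul_def (c : rR p M) (x : MonoidAlgebra ℂ G) : c • x = (c : ℂ) • x := rfl

theorem of_mem_RG (g : G) : of ℂ G g ∈ RG p M G := Submodule.subset_span ⟨g, rfl⟩

theorem eq_sum_of (x : MonoidAlgebra ℂ G) : x = ∑ g : G, x.coeff g • of ℂ G g := by
  classical
  refine gaExt fun h => ?_
  rw [MonoidAlgebra.coeff_sum, Finset.sum_apply', Finset.sum_eq_single h]
  · simp
  · intro g _ hg
    simp [Finsupp.single_apply, hg]
  · exact fun h' => absurd (Finset.mem_univ _) h'

theorem mem_RG {x : MonoidAlgebra ℂ G} (h : ∀ g, x.coeff g ∈ rR p M) : x ∈ RG p M G := by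
  rw [eq_sum_of x]
  exact Submodule.sum_mem _ fun g _ => by
    have := (RG p M G).smul_mem ⟨x.coeff g, h g⟩ (of_mem_RG g)
    rwa [rsmul_def] at this

theorem coeff_mem_of_mem_RG {x : MonoidAlgebra ℂ G} (h : x ∈ RG p M G) (g : G) :
    x.coeff g ∈ rR p M := by
  classical
  induction h using Submodule.span_induction with
  | mem x hx =>
    obtain ⟨a, rfl⟩ := hx
    simp only [MonoidAlgebra.of_apply, MonoidAlgebra.coeff_single, Finsupp.single_apply]
    split_ifs
    · exact one_mem _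
    · exact zero_mem _
  | zero => simp
  | add x y _ _ hx hy => simpa using add_mem hx hy
  | smul c x _ hx => simpa [rsmul_def] using mul_mem c.2 hx

theorem one_mem_RG : (1 : MonoidAlgebra ℂ G) ∈ RG p M G := by
  rw [← map_one (of ℂ G)]
  exact of_mem_RG 1

theorem mul_mem_RG {x y : MonoidAlgebra ℂ G} (hx : x ∈ RG p M G) (hy : y ∈ RG p M G) :
    x * y ∈ RG p M G :=
  mem_RG fun g => by
    rw [coeff_mul_univ]
    exact sum_mem fun a _ => mul_mem (coeff_mem_of_mem_RG hx a) (coeff_mem_of_mem_RG hy _)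

/-- The lattice of an idempotent. -/
noncomputable def latE (p : ℕ) (M : Ideal AlgInt) [M.IsPrime] (e : MonoidAlgebra ℂ G) :
    Submodule (rR p M) (MonoidAlgebra ℂ G) :=
  (RG p M G).map (LinearMap.mulLeft (rR p M) e)

theorem mem_latE {e x : MonoidAlgebra ℂ G} : x ∈ latE p M e ↔ ∃ r ∈ RG p M G, e * r = x :=
  Submodule.mem_map

theorem fixed_of_mem_latE {e x : MonoidAlgebra ℂ G} (he : e * e = e) (h : x ∈ latE p M e) :
    e * x = x := by
  obtain ⟨r, -, rfl⟩ := mem_latE.1 h
  rw [← mul_assoc, he]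

theorem mul_mem_latE {e a x : MonoidAlgebra ℂ G} (ha : a ∈ RG p M G) (hae : a * e = e * a)
    (h : x ∈ latE p M e) : a * x ∈ latE p M e := by
  obtain ⟨r, hr, rfl⟩ := mem_latE.1 h
  exact mem_latE.2 ⟨a * r, mul_mem_RG ha hr, by rw [← mul_assoc, ← mul_assoc, hae]⟩

theorem mul_mem_latE_right {e u x : MonoidAlgebra ℂ G} (hu : u ∈ RG p M G)
    (h : x ∈ latE p M e) : x * u ∈ latE p M e := by
  obtain ⟨r, hr, rfl⟩ := mem_latE.1 h
  exact mem_latE.2 ⟨r * u, mul_mem_RG hr hu, (mul_assoc _ _ _).symm⟩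

theorem latE_finite (e : MonoidAlgebra ℂ G) : Module.Finite (rR p M) (latE p M e) := by
  haveI : Module.Finite (rR p M) (RG p M G) := Module.Finite.span_of_finite _ (Set.finite_range _)
  exact Module.Finite.map _ _

theorem latE_free (hM : IsPModular p M) (e : MonoidAlgebra ℂ G) :
    Module.Free (rR p M) (latE p M e) := by
  haveI := isPrincipalIdealRing_rR hM
  haveI := latE_finite (p := p) (M := M) e
  haveI : Module.IsTorsionFree (rR p M) (MonoidAlgebra ℂ G) :=
    ⟨fun c hc x y hxy => by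
      have hc0 : (c : ℂ) ≠ 0 := fun h => hc.ne_zero (Subtype.ext h)
      have h2 : (c : ℂ) • x = (c : ℂ) • y := hxy
      exact smul_right_injective _ hc0 h2⟩
  exact Module.free_of_finite_type_torsion_free'

/-- Left multiplication on the lattice. -/
noncomputable def lmE (p : ℕ) (M : Ideal AlgInt) [M.IsPrime] (e a : MonoidAlgebra ℂ G)
    (h : ∀ x ∈ latE p M e, a * x ∈ latE p M e) : Module.End (rR p M) (latE p M e) :=
  (LinearMap.mulLeft (rR p M) a).restrict h

theorem lmE_apply (e a : MonoidAlgebra ℂ G) (h : ∀ x ∈ latE p M e, a * x ∈ latE p M e)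
    (x : latE p M e) : (lmE p M e a h x : MonoidAlgebra ℂ G) = a * x := rfl

/-- Traces on the lattice of an idempotent. -/
theorem trace_lmE (hM : IsPModular p M) {e a : MonoidAlgebra ℂ G} (he : e * e = e) {m : ℕ}
    (hm : m ≠ 0) (hme : (m : ℂ) • e ∈ RG p M G) (h : ∀ x ∈ latE p M e, a * x ∈ latE p M e) :
    ((LinearMap.trace (rR p M) (latE p M e) (lmE p M e a h) : rR p M) : ℂ) =
      ∑ χ : IrrCharacter G, (χ : G → ℂ) 1 * chiExt (χ : G → ℂ) (a * e) := by
  classical
  haveI := isPrincipalIdealRing_rR hM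
  haveI := latE_finite (p := p) (M := M) e
  haveI := latE_free hM e
  let b := Module.Free.chooseBasis (rR p M) (latE p M e)
  set T : Matrix _ _ ℂ := (LinearMap.toMatrix b b (lmE p M e a h)).map (rR p M).subtype with hT
  have hmem : ∀ r ∈ RG p M G, e * r ∈ latE p M e := fun r hr => mem_latE.2 ⟨r, hr, rfl⟩
  let bW : Module.Basis G ℂ (MonoidAlgebra ℂ G) := MonoidAlgebra.basis G ℂ
  let B : (Module.Free.ChooseBasisIndex (rR p M) (latE p M e) → ℂ) →ₗ[ℂ] MonoidAlgebra ℂ G :=
    Fintype.linearCombination ℂ fun i => (b i : MonoidAlgebra ℂ G)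
  let Q : MonoidAlgebra ℂ G →ₗ[ℂ] (Module.Free.ChooseBasisIndex (rR p M) (latE p M e) → ℂ) :=
    bW.constr ℂ fun g i => ((b.repr ⟨_, hmem _ (of_mem_RG g)⟩ i : rR p M) : ℂ)
  have hQ : ∀ (r : MonoidAlgebra ℂ G) (hr : r ∈ RG p M G) (i),
      Q r i = ((b.repr ⟨_, hmem r hr⟩ i : rR p M) : ℂ) := by
    intro r hr
    induction hr using Submodule.span_induction with
    | mem x hx =>
      obtain ⟨g, rfl⟩ := hx
      intro i
      have hg : of ℂ G g = bW g := by simp [bW, MonoidAlgebra.of_apply]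
      conv_lhs => rw [show (fun g => of ℂ G g) g = bW g from hg]
      simp only [Q, Module.Basis.constr_basis]
    | zero =>
      intro i
      simp only [map_zero, Pi.zero_apply]
      rw [show (⟨e * 0, hmem 0 (zero_mem _)⟩ : latE p M e) = 0 from Subtype.ext (mul_zero e),
        map_zero]
      simp
    | add x y hx hy ihx ihy =>
      intro i
      rw [map_add, Pi.add_apply, ihx, ihy,
        show (⟨e * (x + y), hmem _ (add_mem hx hy)⟩ : latE p M e) =
          ⟨e * x, hmem x hx⟩ + ⟨e * y, hmem y hy⟩ from Subtype.ext (mul_add e x y),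
        map_add, Finsupp.add_apply, Subring.coe_add]
    | smul c x hx ihx =>
      intro i
      have h1 : Q (c • x) i = (c : ℂ) * Q x i := by
        show Q ((c : ℂ) • x) i = _
        rw [map_smul, Pi.smul_apply, smul_eq_mul]
      rw [h1, ihx, show (⟨e * (c • x), hmem _ ((RG p M G).smul_mem c hx)⟩ : latE p M e) =
          c • ⟨e * x, hmem x hx⟩ from Subtype.ext (mul_smul_comm c e x),
        map_smul, Finsupp.smul_apply, smul_eq_mul, Subring.coe_mul]
  have hQB : Q.comp B = LinearMap.id := by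
    refine (Pi.basisFun ℂ _).ext fun j => ?_
    rw [LinearMap.comp_apply, Pi.basisFun_apply]
    have hB : B (Pi.single j 1) = (b j : MonoidAlgebra ℂ G) := by
      simp [B, Fintype.linearCombination_apply_single]
    rw [hB, LinearMap.id_apply]
    funext i
    have hmb : (m : ℂ) • (b j : MonoidAlgebra ℂ G) ∈ RG p M G := by
      obtain ⟨r, hr, hrb⟩ := mem_latE.1 (b j).2
      rw [← hrb, ← smul_mul_assoc]
      exact mul_mem_RG hme hr
    have h1 := hQ _ hmb i
    rw [map_smul, Pi.smul_apply, smul_eq_mul,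
      show (⟨e * ((m : ℂ) • (b j : MonoidAlgebra ℂ G)), hmem _ hmb⟩ : latE p M e) =
        (m : rR p M) • b j from Subtype.ext (by
          show e * ((m : ℂ) • (b j : MonoidAlgebra ℂ G)) =
            ((m : rR p M) : ℂ) • (b j : MonoidAlgebra ℂ G)
          rw [mul_smul_comm, fixed_of_mem_latE he (b j).2]
          congr 1),
      map_smul, Finsupp.smul_apply, smul_eq_mul, Subring.coe_mul] at h1
    have hm' : (((m : rR p M)) : ℂ) = (m : ℂ) := by simp
    rw [hm'] at h1
    rw [mul_left_cancel₀ (Nat.cast_ne_zero.2 hm) h1, Module.Basis.repr_self, Finsupp.single_apply,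
      Pi.single_apply]
    by_cases hij : i = j
    · rw [if_pos hij, if_pos hij.symm]; rfl
    · rw [if_neg hij, if_neg (Ne.symm hij)]; rfl
  have hMa : LinearMap.mulLeft ℂ (a * e) = (B.comp (Matrix.toLin' T)).comp Q := by
    refine bW.ext fun g => ?_
    rw [show bW g = of ℂ G g by simp [bW, MonoidAlgebra.of_apply], LinearMap.mulLeft_apply,
      LinearMap.comp_apply, LinearMap.comp_apply]
    have h1 : Q (of ℂ G g) = fun i => ((b.repr ⟨_, hmem _ (of_mem_RG g)⟩ i : rR p M) : ℂ) :=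
      funext (hQ _ (of_mem_RG g))
    set v : latE p M e := ⟨_, hmem _ (of_mem_RG g)⟩ with hv
    rw [h1, Matrix.toLin'_apply]
    have h2 : T.mulVec (fun i => ((b.repr v i : rR p M) : ℂ)) =
        fun i => ((b.repr (lmE p M e a h v) i : rR p M) : ℂ) := funext fun i => by
      rw [← LinearMap.toMatrix_mulVec_repr b b (lmE p M e a h) v, hT]
      exact ((rR p M).subtype.map_mulVec (LinearMap.toMatrix b b (lmE p M e a h)) (b.repr v) i).symm
    rw [h2]
    show _ = ∑ i, ((b.repr (lmE p M e a h v) i : rR p M) : ℂ) • (b i : MonoidAlgebra ℂ G)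
    have h3 := congrArg Subtype.val (b.sum_repr (lmE p M e a h v))
    simp only [AddSubmonoidClass.coe_finset_sum, SetLike.val_smul, rsmul_def] at h3
    rw [h3, lmE_apply, mul_assoc]
  rw [← trace_mulLeft', hMa, LinearMap.trace_comp_comm', ← LinearMap.comp_assoc, hQB,
    LinearMap.id_comp, Matrix.trace_toLin'_eq, hT, LinearMap.trace_eq_matrix_trace _ b]
  exact AddMonoidHom.map_trace (rR p M).subtype.toAddMonoidHom _

/-! ## Characteristic polynomials -/

/-- A realisation of a character. -/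
noncomputable def repOf (χ : IrrCharacter G) :
    Representation ℂ G (Fin (χ.2.choose) → ℂ) := χ.2.choose_spec.choose

theorem repOf_irr (χ : IrrCharacter G) : (repOf χ).IsIrreducible := χ.2.choose_spec.choose_spec.1

theorem repOf_char (χ : IrrCharacter G) : (repOf χ).character = (χ : G → ℂ) :=
  χ.2.choose_spec.choose_spec.2

theorem repOf_dim (χ : IrrCharacter G) : (χ.2.choose : ℂ) = (χ : G → ℂ) 1 := by
  have h := Representation.char_one (repOf χ)
  rw [repOf_char χ] at h
  simpa using h.symm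

/-- The characteristic polynomial of `u` in the representation of `χ`. -/
noncomputable def opPoly (χ : IrrCharacter G) (u : MonoidAlgebra ℂ G) : ℂ[X] :=
  ((repOf χ).asAlgebraHom u).charpoly

theorem opPoly_natDegree (χ : IrrCharacter G) (u : MonoidAlgebra ℂ G) :
    ((opPoly χ u).natDegree : ℂ) = (χ : G → ℂ) 1 := by
  rw [opPoly, LinearMap.charpoly_natDegree, ← repOf_dim, Module.finrank_pi, Fintype.card_fin]

theorem opPoly_eq_of_rep {n : ℕ} (ρ : Representation ℂ G (Fin n → ℂ)) (χ : IrrCharacter G)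
    (h : ρ.character = (χ : G → ℂ)) (u : MonoidAlgebra ℂ G) :
    (ρ.asAlgebraHom u).charpoly = opPoly χ u := by
  obtain ⟨φ⟩ := nonempty_equiv_of_char_eq ρ (repOf χ) (h.trans (repOf_char χ).symm)
  have e : (repOf χ).asAlgebraHom u = φ.toLinearEquiv.conj (ρ.asAlgebraHom u) := by
    rw [asAlgebraHom_eq_sum, asAlgebraHom_eq_sum, map_sum]
    refine Finset.sum_congr rfl fun g _ => ?_
    rw [map_smul]
    congr 1
    refine LinearMap.ext fun x => ?_
    have h1 := LinearMap.congr_fun (φ.isIntertwining' g) (φ.toLinearEquiv.symm x)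
    simp only [LinearEquiv.conj_apply, LinearMap.comp_apply, LinearEquiv.coe_coe] at h1 ⊢
    refine Eq.trans ?_ h1.symm
    show _ = (repOf χ) g (φ.toLinearEquiv (φ.toLinearEquiv.symm x))
    rw [LinearEquiv.apply_symm_apply]
  rw [opPoly, e, LinearEquiv.charpoly_conj]

theorem map_opPoly (σ : ℂ ≃+* ℂ) (χ : IrrCharacter G) {u : MonoidAlgebra ℂ G}
    (hu : ∀ g, σ (u.coeff g) = u.coeff g) :
    (opPoly χ u).map σ.toRingHom = opPoly (galT σ χ) u := by
  classical
  rw [← opPoly_eq_of_rep (CharGalois.twistRep σ (repOf χ)) (galT σ χ)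
    (funext fun g => by rw [CharGalois.character_twistRep, repOf_char]; rfl) u]
  rw [opPoly, ← LinearMap.charpoly_toMatrix _ (Pi.basisFun ℂ _),
    ← LinearMap.charpoly_toMatrix _ (Pi.basisFun ℂ _), ← Matrix.charpoly_map]
  congr 1
  funext i j
  rw [Matrix.map_apply, LinearMap.toMatrix_apply, LinearMap.toMatrix_apply, Pi.basisFun_apply,
    Pi.basisFun_repr, Pi.basisFun_repr]
  simp only [asAlgebraHom_eq_sum, LinearMap.sum_apply, LinearMap.smul_apply, Finset.sum_apply,
    Pi.smul_apply, smul_eq_mul, map_sum, map_mul]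
  refine Finset.sum_congr rfl fun g _ => ?_
  rw [CharGalois.twistRep_apply]
  show σ _ * σ _ = _
  rw [hu]
  have hs : (fun k => σ.symm ((Pi.single j (1 : ℂ) : Fin _ → ℂ) k)) = Pi.single j 1 := by
    funext k
    by_cases hk : k = j
    · subst hk; simp
    · simp [hk]
  rw [hs]

theorem aeval_opPoly (χ : IrrCharacter G) (u : MonoidAlgebra ℂ G) {n : ℕ}
    (ρ : Representation ℂ G (Fin n → ℂ)) (h : ρ.character = (χ : G → ℂ)) :
    aeval (ρ.asAlgebraHom u) (opPoly χ u) = 0 := by
  rw [← opPoly_eq_of_rep ρ χ h u]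
  exact LinearMap.aeval_self_charpoly _

theorem opPoly_coeff_mem (hM : IsPModular p M) (χ : IrrCharacter G) {u : MonoidAlgebra ℂ G}
    (hu : u ∈ RG p M G) : opPoly χ u ∈ lifts (locRing M).subtype := by
  classical
  haveI : Module.Finite (rR p M) (RG p M G) := Module.Finite.span_of_finite _ (Set.finite_range _)
  have hint : IsIntegral (rR p M) u :=
    IsIntegral.of_mem_of_fg ((RG p M G).toSubalgebra one_mem_RG fun _ _ => mul_mem_RG)
      (by simpa using! (Submodule.fg_span (Set.finite_range fun g : G => of ℂ G g) :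
        (RG p M G).FG)) u hu
  obtain ⟨Pu, hPm, hPu⟩ := hint
  have hroots : ∀ μ ∈ (opPoly χ u).roots, μ ∈ locRing M := by
    intro μ hμ
    obtain ⟨v, hv⟩ := ((Module.End.hasEigenvalue_iff_isRoot_charpoly _ μ).2
      (isRoot_of_mem_roots hμ)).exists_hasEigenvector
    refine mem_locRing_of_root (P := Pu.map (rIncl p M)) (hPm.map _) ?_
    rw [eval₂_map]
    rw [subtype_comp_rIncl, ← eval_map]
    have h0 : aeval ((repOf χ).asAlgebraHom u) (Pu.map (rR p M).subtype) = 0 := by
      rw [aeval_algHom_apply]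
      have : aeval u (Pu.map (rR p M).subtype) = aeval u Pu :=
        aeval_map_algebraMap (A := ℂ) u Pu
      rw [this, aeval_def, hPu, map_zero]
    have h1 := Module.End.aeval_apply_of_hasEigenvector (p := Pu.map (rR p M).subtype) hv
    rw [h0, LinearMap.zero_apply] at h1
    exact (smul_eq_zero.1 h1.symm).resolve_right hv.2
  rw [(IsAlgClosed.splits (opPoly χ u)).eq_prod_roots_of_monic (LinearMap.charpoly_monic _)]
  rw [lifts_iff_liftsRing]
  exact multiset_prod_mem _ fun f hf => by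
    obtain ⟨μ, hμ, rfl⟩ := Multiset.mem_map.1 hf
    rw [← lifts_iff_liftsRing]
    exact ⟨X - C (⟨μ, hroots μ hμ⟩ : locRing M), by simp⟩

theorem isAlgebraic_of_memLocalRing {z : ℂ} (hz : MemLocalRing M z) : IsAlgebraic ℚ z := by
  obtain ⟨a, b, -, rfl⟩ := hz
  have ha : IsAlgebraic ℚ (a : ℂ) := ((isIntegral_coe a).tower_top).isAlgebraic
  have hb : IsAlgebraic ℚ (b : ℂ) := ((isIntegral_coe b).tower_top).isAlgebraic
  rw [div_eq_mul_inv]
  exact ha.mul hb.inv

/-- The annihilating polynomial of an element on a Galois orbit. -/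
theorem exists_orbit_poly (hM : IsPModular p M) (hsq : ¬ p ^ 2 ∣ Nat.card G)
    (Y : Finset (IrrCharacter G)) (hst : ∀ σ, FixesP p σ → ∀ ψ ∈ Y, galT σ ψ ∈ Y)
    (htr : ∀ ψ ∈ Y, ∀ ψ' ∈ Y, ∃ σ, FixesP p σ ∧ galT σ ψ = ψ') {ψ0 : IrrCharacter G}
    (hψ0 : ψ0 ∈ Y) {u : MonoidAlgebra ℂ G} (hu : u ∈ RG p M G) :
    ∃ (Q : (rR p M)[X]) (F : (resField M)[X]), F ≠ 0 ∧
      (F.natDegree : ℂ) = (ψ0 : G → ℂ) 1 ∧
      aeval u Q * blockElt (↑Y : Set (IrrCharacter G)) = 0 ∧
      Q.map (rRes p M) = F ^ Y.card := by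
  classical
  obtain ⟨ζ, hζ⟩ : ∃ ζ : ℂ, IsPrimitiveRoot ζ p := ⟨_, Complex.isPrimitiveRoot_exp p hM.1.ne_zero⟩
  have hfix : ∀ σ, FixesP p σ → ∀ g, σ (u.coeff g) = u.coeff g := fun σ hσ g =>
    hσ.apply (mem_rR.1 (coeff_mem_of_mem_RG hu g)).1
  have hlift : ∀ ψ : IrrCharacter G, ∃ F0 : (locRing M)[X],
      F0.map (locRing M).subtype = opPoly ψ u ∧ F0.Monic := fun ψ => by
    obtain ⟨F0, h1, -, h2⟩ := lifts_and_degree_eq_and_monic (opPoly_coeff_mem hM ψ hu)
      (LinearMap.charpoly_monic _)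
    exact ⟨F0, h1, h2⟩
  choose F0 hF0 hF0m using hlift
  have hres : ∀ ψ ∈ Y, (F0 ψ).map (res M) = (F0 ψ0).map (res M) := by
    intro ψ hψ
    obtain ⟨σ, hσ, rfl⟩ := htr ψ0 hψ0 ψ hψ
    refine Polynomial.ext fun i => ?_
    rw [Polynomial.coeff_map, Polynomial.coeff_map, res_eq_res_iff]
    have h1 : ((F0 (galT σ ψ0)).coeff i : ℂ) = σ ((F0 ψ0).coeff i : ℂ) := by
      have e1 := congrArg (fun q : ℂ[X] => q.coeff i) (hF0 (galT σ ψ0))
      have e2 := congrArg (fun q : ℂ[X] => σ (q.coeff i)) (hF0 ψ0)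
      have e3 := congrArg (fun q : ℂ[X] => q.coeff i) (map_opPoly σ ψ0 (hfix σ hσ))
      simp only [Polynomial.coeff_map] at e1 e2 e3
      exact e1.trans (e3.symm.trans e2.symm)
    rw [h1]
    refine sigma_congr hM hζ (isAlgebraic_of_memLocalRing (mem_locRing.1 ((F0 ψ0).coeff i).2))
      (fun τ hτ hτζ => ?_) (mem_locRing.1 ((F0 ψ0).coeff i).2) hσ
    have e2 := congrArg (fun q : ℂ[X] => q.coeff i) (hF0 ψ0)
    have e3 := congrArg (fun q : ℂ[X] => q.coeff i) (map_opPoly τ ψ0 (hfix τ hτ))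
    rw [galT_eq_self hM.1 hsq hτ hζ hτζ] at e3
    simp only [Polynomial.coeff_map] at e2 e3
    rw [← e2] at e3
    exact e3
  have hC : ∀ n, (∏ ψ ∈ Y, opPoly ψ u).coeff n ∈ rR p M := by
    intro n
    have e : ∏ ψ ∈ Y, opPoly ψ u = (∏ ψ ∈ Y, F0 ψ).map (locRing M).subtype := by
      rw [Polynomial.map_prod]
      exact Finset.prod_congr rfl fun ψ _ => (hF0 ψ).symm
    have hloc : (∏ ψ ∈ Y, opPoly ψ u).coeff n ∈ locRing M := by
      rw [e, Polynomial.coeff_map]; exact Subtype.coe_prop _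
    refine mem_rR.2 ⟨mem_EField_of_fixed hM.1.ne_zero
      (isAlgebraic_of_memLocalRing (mem_locRing.1 hloc)) fun σ hσ => ?_, hloc⟩
    have hperm : (∏ ψ ∈ Y, opPoly ψ u).map σ.toRingHom = ∏ ψ ∈ Y, opPoly ψ u := by
      rw [Polynomial.map_prod, Finset.prod_congr rfl fun ψ _ => map_opPoly σ ψ (hfix σ hσ)]
      exact Finset.prod_nbij' (galT σ) (galT σ.symm) (fun ψ h => hst σ hσ ψ h)
        (fun ψ h => hst _ hσ.symm ψ h) (fun ψ _ => galT_symm σ ψ)
        (fun ψ _ => by simpa using galT_symm σ.symm ψ) (fun ψ _ => rfl)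
    have := congrArg (fun q : ℂ[X] => q.coeff n) hperm
    simp only [Polynomial.coeff_map] at this
    exact this
  obtain ⟨Q, hQ⟩ : ∏ ψ ∈ Y, opPoly ψ u ∈ lifts (rR p M).subtype :=
    (lifts_iff_coeff_lifts _).2 fun n => ⟨⟨_, hC n⟩, rfl⟩
  refine ⟨Q, (F0 ψ0).map (res M), ((hF0m ψ0).map _).ne_zero, ?_, ?_, ?_⟩
  · rw [(hF0m ψ0).natDegree_map, ← opPoly_natDegree ψ0 u, ← hF0 ψ0, (hF0m ψ0).natDegree_map]
  · refine eq_zero_of_forall_rep fun n ρ hρ => ?_
    let χ : IrrCharacter G := ⟨ρ.character, n, ρ, hρ, rfl⟩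
    rw [map_mul, asAlgebraHom_classElt ρ hρ (isClassElt_blockElt _), omega_blockElt]
    split_ifs with hχY
    · have h1 : aeval u Q = aeval u (∏ ψ ∈ Y, opPoly ψ u) := by
        rw [← hQ]; exact (aeval_map_algebraMap (A := ℂ) u Q).symm
      rw [h1, ← aeval_algHom_apply, ← Finset.mul_prod_erase Y _ (Finset.mem_coe.1 hχY), map_mul,
        aeval_opPoly χ u ρ rfl, zero_mul, zero_mul]
    · rw [zero_smul, mul_zero]
  · have hincl : Q.map (rIncl p M) = ∏ ψ ∈ Y, F0 ψ := by
      refine Polynomial.map_injective _ (locRing M).subtype_injective ?_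
      rw [Polynomial.map_map, Polynomial.map_prod, subtype_comp_rIncl]
      exact hQ.trans (Finset.prod_congr rfl fun ψ _ => (hF0 ψ).symm)
    rw [rRes, ← Polynomial.map_map, hincl, Polynomial.map_prod,
      Finset.prod_congr rfl hres, Finset.prod_const]

end Cfsg.Agent.DefOne
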