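/-
Estimates used for the bound on the degree of a faithful character.
-/
import Mathlib

namespace Cfsg.Agent.DefOne

/-- Many equal values `k` near `c`. -/
theorem majority_bound {p f k c s : ℝ} (hf : f = 2 ∧ 11 ≤ p ∨ 3 ≤ f ∧ 4 * f + 3 ≤ p) (hk : 1 ≤ k)
    (hs : p - f ≤ s) (h : s * (k - c) ^ 2 < f) : k * f ^ 2 ≤ c * p * (f - 1) := by
  by_contra hlt
  push Not at hlt
  have hf2 : 2 ≤ f := by rcases hf with ⟨e, -⟩ | ⟨e, -⟩ <;> linarith
  have hp : 4 * f + 3 ≤ p := by rcases hf with ⟨e, e'⟩ | ⟨-, e'⟩ <;> linarith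
  have hP : 0 < p * (f - 1) := mul_pos (by linarith) (by linarith)
  set m := p * (f - 1) - f ^ 2 with hm
  have hm0 : 0 < m := by nlinarith
  have h1 : k * m < (k - c) * (p * (f - 1)) := by nlinarith
  have h2 : m < (k - c) * (p * (f - 1)) := lt_of_le_of_lt (le_mul_of_one_le_left hm0.le hk) h1
  have h3 : m ^ 2 < ((k - c) * (p * (f - 1))) ^ 2 := pow_lt_pow_left₀ h2 hm0.le two_ne_zero
  have h4 : (p - f) * (k - c) ^ 2 < f :=
    lt_of_le_of_lt (mul_le_mul_of_nonneg_right hs (sq_nonneg _)) h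
  have h5 : (p - f) * m ^ 2 < f * (p * (f - 1)) ^ 2 :=
    calc (p - f) * m ^ 2 ≤ (p - f) * ((k - c) * (p * (f - 1))) ^ 2 :=
          mul_le_mul_of_nonneg_left h3.le (by linarith)
      _ = ((p - f) * (k - c) ^ 2) * (p * (f - 1)) ^ 2 := by ring
      _ < f * (p * (f - 1)) ^ 2 := mul_lt_mul_of_pos_right h4 (by positivity)
  rcases hf with ⟨rfl, hp11⟩ | ⟨hf3, -⟩
  · nlinarith [mul_nonneg (sub_nonneg.2 hp11) (sub_nonneg.2 hp11),
      mul_nonneg (mul_nonneg (sub_nonneg.2 hp11) (sub_nonneg.2 hp11)) (sub_nonneg.2 hp11)]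
  · have h7 : (f - 1) * (p - 3 / 2 * f) ≤ m := by rw [hm]; nlinarith
    have h8 : 0 ≤ (f - 1) * (p - 3 / 2 * f) := mul_nonneg (by linarith) (by linarith)
    have h9 : (p - f) * (p - 3 / 2 * f) ^ 2 * (f - 1) ^ 2 < f * p ^ 2 * (f - 1) ^ 2 :=
      calc (p - f) * (p - 3 / 2 * f) ^ 2 * (f - 1) ^ 2
          = (p - f) * ((f - 1) * (p - 3 / 2 * f)) ^ 2 := by ring
        _ ≤ (p - f) * m ^ 2 := mul_le_mul_of_nonneg_left (pow_le_pow_left₀ h8 h7 2) (by linarith)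
        _ < _ := by linarith [h5, show f * (p * (f - 1)) ^ 2 = f * p ^ 2 * (f - 1) ^ 2 by ring]
    have h10 := lt_of_mul_lt_mul_right h9 (sq_nonneg _)
    obtain ⟨t, ht, rfl⟩ : ∃ t, 0 ≤ t ∧ p = 4 * f + t := ⟨p - 4 * f, by linarith, by ring⟩
    have hf0 : 0 ≤ f := by linarith
    nlinarith [pow_nonneg ht 3, mul_nonneg hf0 (sq_nonneg t), mul_nonneg (sq_nonneg f) ht,
      pow_nonneg hf0 3]

/-- All but one value equal to `k`, the other one `k + 1`. -/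
theorem plus_bound {p f k c : ℝ} (hf : 3 ≤ f) (hp : 4 * f + 3 ≤ p) (hk : 1 ≤ k)
    (h : (k + 1 - c) ^ 2 + (p - 1) * (k - c) ^ 2 < f) :
    (k + 1) * f ^ 2 ≤ c * p * (f - 1) := by
  suffices hc : k * (2 * f + 3) ≤ c * p by
    have h1 : k * (2 * f + 3) * (f - 1) ≤ c * p * (f - 1) :=
      mul_le_mul_of_nonneg_right hc (by linarith)
    have h2 : (k + 1) * f ^ 2 ≤ k * (2 * f + 3) * (f - 1) := by
      nlinarith [mul_nonneg (sub_nonneg.2 hk) (sq_nonneg f), mul_nonneg (by linarith : 0 ≤ k)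
        (by linarith : 0 ≤ f - 3)]
    linarith
  by_contra hlt
  push Not at hlt
  have hq : 0 < p - 2 * f - 3 := by linarith
  have h1 : p - 2 * f - 3 ≤ k * (p - 2 * f - 3) := le_mul_of_one_le_left hq.le hk
  have h2 : k * (p - 2 * f - 3) < (k - c) * p := by linarith
  have hu : 0 < k - c := pos_of_mul_pos_left (lt_of_lt_of_le hq (h1.trans h2.le)) (by linarith)
  have h3 : p * (k - c) ^ 2 + 1 < f := by nlinarith
  have h4 : (p - 2 * f - 3) ^ 2 < ((k - c) * p) ^ 2 :=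
    pow_lt_pow_left₀ (lt_of_le_of_lt h1 h2) hq.le two_ne_zero
  have h5 : (p - 2 * f - 3) ^ 2 < p * (f - 1) := by
    have : p * (p * (k - c) ^ 2) < p * (f - 1) := mul_lt_mul_of_pos_left (by linarith) (by linarith)
    nlinarith
  obtain ⟨t, ht, rfl⟩ : ∃ t, 0 ≤ t ∧ p = 4 * f + 3 + t := ⟨p - 4 * f - 3, by linarith, by ring⟩
  nlinarith [sq_nonneg t, mul_nonneg (by linarith : 0 ≤ f) ht]

/-- The exceptional constituent. -/
theorem exceptional_bound {p f b w x : ℝ} (hf : f = 2 ∨ 3 ≤ f) (hb : 1 ≤ b) (hd : 2 * (f * b) + 3 ≤ p)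
    (hp : 4 * f + 3 ≤ p) (hw : b ^ 2 ≤ w) (hx0 : 0 ≤ x) (hx : p * w * (p + 1 - f) < x ^ 2) :
    f ^ 2 * b ^ 2 ≤ (f - 1) * x := by
  have hf1 : 1 ≤ f - 1 := by rcases hf with e | e <;> linarith
  refine le_of_pow_le_pow_left₀ two_ne_zero (mul_nonneg (by linarith) hx0) ?_
  have hfb : 0 ≤ f * b := mul_nonneg (by linarith) (by linarith)
  have h1 : 4 * (f * b) ^ 2 ≤ (p - 3) ^ 2 := by nlinarith
  have h2 : f ^ 2 * (p - 3) ^ 2 ≤ 4 * (f - 1) ^ 2 * (p * (p + 1 - f)) := by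
    rcases hf with rfl | hf3
    · nlinarith
    · have h3 : 4 * f ^ 2 ≤ 9 * (f - 1) ^ 2 := by nlinarith
      have h4 : 9 * (p - 3) ^ 2 ≤ 16 * (p * (p + 1 - f)) := by nlinarith
      nlinarith [mul_le_mul h3 h4 (by positivity) (by positivity)]
  have h5 : (f ^ 2 * b ^ 2) ^ 2 ≤ (f - 1) ^ 2 * (p * (p + 1 - f)) * b ^ 2 := by
    nlinarith [mul_le_mul_of_nonneg_left h1 (by positivity : (0 : ℝ) ≤ f ^ 2 * b ^ 2),
      mul_le_mul_of_nonneg_left h2 (sq_nonneg b)]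
  calc (f ^ 2 * b ^ 2) ^ 2 ≤ (f - 1) ^ 2 * (p * (p + 1 - f)) * b ^ 2 := h5
    _ ≤ (f - 1) ^ 2 * (p * (p + 1 - f)) * w :=
        mul_le_mul_of_nonneg_left hw (mul_nonneg (sq_nonneg _) (mul_nonneg (by linarith) (by linarith)))
    _ = (f - 1) ^ 2 * (p * w * (p + 1 - f)) := by ring
    _ ≤ (f - 1) ^ 2 * x ^ 2 := mul_le_mul_of_nonneg_left hx.le (sq_nonneg _)
    _ = ((f - 1) * x) ^ 2 := by ring

end Cfsg.Agent.DefOne
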