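/-
Integer matrices with the Gram matrix and the symmetry of the decomposition numbers of a block of
defect one.
-/
import Mathlib

set_option linter.unusedSectionVars false

namespace Cfsg.Agent.DefOne

section Row

variable {A : Type*} [CommGroup A] [Fintype A] [DecidableEq A]

/-- The total squared variation of a row. -/
def spread (f : A → ℤ) : ℤ := ∑ i, ∑ j, (f i - f j) ^ 2

/-- The periods of a row. -/
def periods (f : A → ℤ) : Subgroup A where
  carrier := {s | ∀ j, f (s * j) = f j}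
  one_mem' j := by rw [one_mul]
  mul_mem' {s t} hs ht j := by rw [mul_assoc, hs, ht]
  inv_mem' {s} hs j := by rw [← hs (s⁻¹ * j), mul_inv_cancel_left]

theorem mem_periods {f : A → ℤ} {s : A} : s ∈ periods f ↔ ∀ j, f (s * j) = f j := Iff.rfl

theorem spread_nonneg (f : A → ℤ) : 0 ≤ spread f :=
  Finset.sum_nonneg fun _ _ => Finset.sum_nonneg fun _ _ => sq_nonneg _

theorem eq_of_spread_eq_zero {f : A → ℤ} (h : spread f = 0) (i j : A) : f i = f j := by
  have h1 := (Finset.sum_eq_zero_iff_of_nonneg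
    fun i _ => Finset.sum_nonneg fun j _ => sq_nonneg (f i - f j)).1 h i (Finset.mem_univ _)
  have h2 := (Finset.sum_eq_zero_iff_of_nonneg fun j _ => sq_nonneg (f i - f j)).1 h1 j
    (Finset.mem_univ _)
  exact sub_eq_zero.1 (pow_eq_zero_iff two_ne_zero |>.1 h2)

/-- The level set of the largest value. -/
theorem spread_analysis (f : A → ℤ) {i0 j0 : A} (hne : f i0 ≠ f j0) :
    ∃ v : ℤ, ∃ K : Finset A, (∀ j, j ∈ K ↔ f j = v) ∧
      Nat.card (periods f) ≤ K.card ∧ Nat.card (periods f) ≤ Kᶜ.card ∧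
      2 * ((K.card : ℤ) * Kᶜ.card) ≤ spread f ∧
      (spread f = 2 * ((K.card : ℤ) * Kᶜ.card) → ∀ j ∉ K, f j = v - 1) := by
  classical
  obtain ⟨m, -, hm⟩ := Finset.exists_max_image (Finset.univ : Finset A) f Finset.univ_nonempty
  refine ⟨f m, Finset.univ.filter fun j => f j = f m, by simp, ?_⟩
  set K : Finset A := Finset.univ.filter fun j => f j = f m with hK
  have hper : ∀ (s : periods f) (j : A), f ((s : A) * j) = f j := fun s j => s.2 j
  have hsz : ∀ (S : Finset A) (j : A), (∀ s : periods f, (s : A) * j ∈ S) →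
      Nat.card (periods f) ≤ S.card := fun S j hS => by
    rw [Nat.card_eq_fintype_card]
    exact Finset.card_le_card_of_injOn (fun s : periods f => (s : A) * j) (fun s _ => hS s)
      (fun s _ t _ h => Subtype.ext (mul_right_cancel h))
  have hKc : ∀ j, j ∈ Kᶜ ↔ f j ≠ f m := fun j => by simp [hK]
  refine ⟨hsz K m fun s => by simp [hK, hper], ?_, ?_⟩
  · obtain ⟨j, hj⟩ : ∃ j, f j ≠ f m := by
      by_cases h : f i0 = f m
      · exact ⟨j0, fun h' => hne (h.trans h'.symm)⟩
      · exact ⟨i0, h⟩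
    exact hsz Kᶜ j fun s => by rw [hKc, hper]; exact hj
  have hd : ∀ i ∈ K, ∀ j ∈ Kᶜ, (1 : ℤ) ≤ (f i - f j) ^ 2 := fun i hi j hj => by
    rw [hKc] at hj
    have hi' : f i = f m := by simpa [hK] using hi
    have := hm j (Finset.mem_univ _)
    nlinarith [lt_of_le_of_ne this hj]
  have hsplit : spread f = 2 * (∑ i ∈ K, ∑ j ∈ Kᶜ, (f i - f j) ^ 2) +
      ((∑ i ∈ K, ∑ j ∈ K, (f i - f j) ^ 2) + ∑ i ∈ Kᶜ, ∑ j ∈ Kᶜ, (f i - f j) ^ 2) := by
    have e : ∀ i, ∑ j, (f i - f j) ^ 2 =
        ∑ j ∈ K, (f i - f j) ^ 2 + ∑ j ∈ Kᶜ, (f i - f j) ^ 2 := fun i =>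
      (Finset.sum_add_sum_compl K _).symm
    have e2 : ∑ i ∈ Kᶜ, ∑ j ∈ K, (f i - f j) ^ 2 = ∑ i ∈ K, ∑ j ∈ Kᶜ, (f i - f j) ^ 2 := by
      rw [Finset.sum_comm]
      exact Finset.sum_congr rfl fun i _ => Finset.sum_congr rfl fun j _ => by ring
    simp only [spread, e]
    rw [← Finset.sum_add_sum_compl K, Finset.sum_add_distrib, Finset.sum_add_distrib, e2]
    ring
  have hone : ∑ i ∈ K, ∑ _j ∈ Kᶜ, (1 : ℤ) = (K.card : ℤ) * Kᶜ.card := by simp
  have hle := Finset.sum_le_sum fun i hi => Finset.sum_le_sum fun j hj => hd i hi j hj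
  rw [hone] at hle
  have hrest : 0 ≤ (∑ i ∈ K, ∑ j ∈ K, (f i - f j) ^ 2) + ∑ i ∈ Kᶜ, ∑ j ∈ Kᶜ, (f i - f j) ^ 2 :=
    add_nonneg (Finset.sum_nonneg fun _ _ => Finset.sum_nonneg fun _ _ => sq_nonneg _)
      (Finset.sum_nonneg fun _ _ => Finset.sum_nonneg fun _ _ => sq_nonneg _)
  refine ⟨by linarith, fun heq j hj => ?_⟩
  have heq' : ∑ i ∈ K, ∑ j ∈ Kᶜ, (f i - f j) ^ 2 = ∑ i ∈ K, ∑ _j ∈ Kᶜ, (1 : ℤ) := by
    rw [hone]; linarith
  have hm' : m ∈ K := by simp [hK]
  have hj' : j ∈ Kᶜ := Finset.mem_compl.2 hj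
  have h1 := (Finset.sum_eq_sum_iff_of_le fun i hi => Finset.sum_le_sum (hd i hi)).1 heq'.symm m hm'
  have h2 := (Finset.sum_eq_sum_iff_of_le (hd m hm')).1 h1 j hj'
  have h3 := (hKc j).1 hj'
  have h4 := hm j (Finset.mem_univ _)
  have h5 : (f m - f j) * (f m - f j) = 1 := by rw [← pow_two]; exact h2.symm
  rcases mul_self_eq_one_iff.1 h5 with h | h <;> omega

end Row

section Matrix

variable {A : Type*} [CommGroup A] [Fintype A] [DecidableEq A] {ι : Type*} [Fintype ι]
  [DecidableEq ι] [MulAction A ι] (U : Subgroup A) [DecidablePred (· ∈ U)] (a : ι → A → ℤ)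
  (heq : ∀ (k : A) x j, a (k • x) (k * j) = a x j)
  (hgram : ∀ i j, ∑ x, a x i * a x j = (Nat.card U : ℤ) + if j / i ∈ U then 1 else 0)

include hgram

theorem sum_sq_diff (i j : A) :
    ∑ x, (a x i - a x j) ^ 2 = 2 - 2 * if j / i ∈ U then 1 else 0 := by
  have h : ∀ x, (a x i - a x j) ^ 2 = a x i * a x i + a x j * a x j - 2 * (a x i * a x j) :=
    fun x => by ring
  simp only [h, Finset.sum_sub_distrib, Finset.sum_add_distrib, ← Finset.mul_sum, hgram, div_self',
    U.one_mem, if_true]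
  ring

theorem periodic (x : ι) : U ≤ periods (a x) := fun u hu j => by
  have h := sum_sq_diff U a hgram j (u * j)
  rw [if_pos (by rwa [mul_div_assoc, div_self', mul_one])] at h
  have h2 := (Finset.sum_eq_zero_iff_of_nonneg fun y _ => sq_nonneg (a y j - a y (u * j))).1
    (by simpa using h) x (Finset.mem_univ _)
  exact (sub_eq_zero.1 (pow_eq_zero_iff two_ne_zero |>.1 h2)).symm

theorem total_spread : ∑ x, spread (a x) =
    2 * (Fintype.card A : ℤ) * ((Fintype.card A : ℤ) - Nat.card U) := by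
  simp only [spread]
  rw [Finset.sum_comm]
  simp only [Finset.sum_comm (γ := ι), sum_sq_diff U a hgram]
  have hrow : ∀ i : A, ∑ j : A, (if j / i ∈ U then (1 : ℤ) else 0) = Nat.card U := by
    intro i
    rw [Fintype.sum_equiv (Equiv.divRight i) (fun j => if j / i ∈ U then (1 : ℤ) else 0)
      (fun j => if j ∈ U then 1 else 0) fun j => rfl, Finset.sum_boole, Nat.card_eq_fintype_card,
      Fintype.card_subtype]
  simp only [Finset.sum_sub_distrib, ← Finset.mul_sum, hrow, Finset.sum_const, Finset.card_univ,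
    nsmul_eq_mul]
  ring

include heq

omit hgram in
theorem row_smul (k : A) (x : ι) (j : A) : a (k • x) j = a x (k⁻¹ * j) := by
  conv_lhs => rw [← mul_inv_cancel_left k j]
  exact heq k x _

omit hgram in
theorem spread_smul (k : A) (x : ι) : spread (a (k • x)) = spread (a x) :=
  Fintype.sum_equiv (Equiv.mulLeft k⁻¹) _ _ fun i => Fintype.sum_equiv (Equiv.mulLeft k⁻¹) _ _
    fun j => by simp [row_smul a heq]

omit hgram in
theorem stab_le_periods (x : ι) : MulAction.stabilizer A x ≤ periods (a x) := fun s hs j => by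
  have := heq s x j
  rwa [MulAction.mem_stabilizer_iff.1 hs] at this

omit hgram in
theorem sum_row_smul (k : A) (x : ι) : ∑ j, a (k • x) j = ∑ j, a x j :=
  Fintype.sum_equiv (Equiv.mulLeft k⁻¹) _ _ fun j => by simp [row_smul a heq]

/-- The orbit as a finite set. -/
def orb (A : Type*) [CommGroup A] [Fintype A] {ι : Type*} [DecidableEq ι] [MulAction A ι] (x : ι) :
    Finset ι := Finset.univ.image fun k : A => k • x

omit hgram heq in
theorem mem_orb {x y : ι} : y ∈ orb A x ↔ ∃ k : A, k • x = y := by simp [orb]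

omit hgram heq in
theorem card_orb_mul (x : ι) :
    (orb A x).card * Nat.card (MulAction.stabilizer A x) = Fintype.card A := by
  have h : ((orb A x : Finset ι) : Set ι) = MulAction.orbit A x := by
    ext y; simp [orb, MulAction.mem_orbit_iff]
  rw [← Set.ncard_coe_finset, h, ← MulAction.index_stabilizer, mul_comm,
    Subgroup.card_mul_index, Nat.card_eq_fintype_card]

variable (hbound : ∀ x, |∑ y ∈ orb A x, ∑ j, a y j| ≤ (Fintype.card A : ℤ))

include hbound

omit hgram in
theorem orb_card_mul_le (x : ι) :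
    ((orb A x).card : ℤ) * |∑ j, a x j| ≤ Fintype.card A := by
  refine le_trans (le_of_eq ?_) (hbound x)
  rw [Finset.sum_congr rfl fun y hy => show ∑ j, a y j = ∑ j, a x j by
      obtain ⟨k, rfl⟩ := mem_orb.1 hy; exact sum_row_smul a heq k x,
    Finset.sum_const, nsmul_eq_mul, abs_mul, Nat.abs_cast]

omit hgram in
theorem const_row {x : ι} {c : ℤ} (hc : ∀ j, a x j = c) (h0 : c ≠ 0) :
    (c = 1 ∨ c = -1) ∧ ∀ k : A, k • x = x := by
  have h := orb_card_mul_le a heq hbound x
  simp only [hc, Finset.sum_const, Finset.card_univ, nsmul_eq_mul, abs_mul, Nat.abs_cast] at h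
  have hn : (0 : ℤ) < Fintype.card A := by exact_mod_cast Fintype.card_pos
  have hx : x ∈ orb A x := mem_orb.2 ⟨1, one_smul A x⟩
  have ho : 1 ≤ (orb A x).card := Finset.card_pos.2 ⟨x, hx⟩
  have hc1 : 1 ≤ |c| := Int.one_le_abs h0
  have h1 : ((orb A x).card : ℤ) * |c| ≤ 1 := by
    refine le_of_mul_le_mul_right ?_ hn
    linarith
  have hc2 : |c| = 1 := by nlinarith
  refine ⟨(abs_eq zero_le_one).1 hc2, fun k => ?_⟩
  have h2 : (orb A x).card = 1 := by rw [hc2, mul_one] at h1; omega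
  exact Finset.card_le_one.1 h2.le _ (mem_orb.2 ⟨k, rfl⟩) _ hx

/-- A family of rows carrying an indicator function of a coset of `U`. -/
theorem exists_exceptional :
    ∃ (Y : Finset ι) (δ : ℤ), (δ = 1 ∨ δ = -1) ∧ Y.Nonempty ∧
      Y.card * Nat.card U = Fintype.card A ∧
      (∀ θ ∈ Y, ∃ j0, ∀ j, a θ j = if j / j0 ∈ U then δ else 0) ∧
      (∀ θ ∈ Y, orb A θ = Y) ∧ ∀ x ∉ Y, ∀ i j, a x i = a x j := by
  classical
  set n := Fintype.card A with hn
  set e := Nat.card U with he
  have htot := total_spread U a hgram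
  rw [← hn, ← he] at htot
  have hn0 : 0 < n := Fintype.card_pos
  have he0 : 0 < e := Nat.card_pos
  have hen : e ∣ n := by rw [hn, ← Nat.card_eq_fintype_card]; exact Subgroup.card_subgroup_dvd_card U
  by_cases hU : U = ⊤
  · -- all rows are constant
    have hcard : e = n := by rw [he, hU, Subgroup.card_top, hn, Nat.card_eq_fintype_card]
    have hconst : ∀ x i j, a x i = a x j := by
      intro x
      refine eq_of_spread_eq_zero ((Finset.sum_eq_zero_iff_of_nonneg fun y _ => spread_nonneg _).1 ?_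
        x (Finset.mem_univ _))
      rw [htot, hcard]; ring
    have h11 := hgram 1 1
    rw [div_self', if_pos U.one_mem] at h11
    obtain ⟨x, -, hx⟩ : ∃ x ∈ Finset.univ, a x 1 * a x 1 ≠ 0 :=
      Finset.exists_ne_zero_of_sum_ne_zero (by rw [h11]; omega)
    obtain ⟨hc, hfix⟩ := const_row a heq hbound (fun j => hconst x j 1)
      fun h => hx (by rw [h, mul_zero])
    refine ⟨{x}, a x 1, hc, Finset.singleton_nonempty x, by simp [hcard], fun θ hθ => ?_,
      fun θ hθ => ?_, fun y _ => hconst y⟩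
    · rw [Finset.mem_singleton.1 hθ]
      exact ⟨1, fun j => by rw [if_pos (hU ▸ Subgroup.mem_top _)]; exact hconst x j 1⟩
    · rw [Finset.mem_singleton.1 hθ]
      exact Finset.eq_singleton_iff_unique_mem.2 ⟨mem_orb.2 ⟨1, one_smul A x⟩, fun y hy => by
        obtain ⟨k, rfl⟩ := mem_orb.1 hy; exact hfix k⟩
  have hproper : ∀ H : Subgroup A, H ≠ ⊤ → 2 * Nat.card H ≤ n := by
    intro H hH
    have h := Subgroup.card_mul_index H
    rw [Nat.card_eq_fintype_card (α := A), ← hn] at h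
    have h1 : H.index ≠ 1 := fun h1 => hH (Subgroup.index_eq_one.1 h1)
    have h0 : H.index ≠ 0 := Subgroup.index_ne_zero_of_finite
    nlinarith [Nat.card_pos (α := H), show 2 ≤ H.index by omega]
  have he2 : 2 * e ≤ n := hproper U hU
  -- a nonconstant row
  obtain ⟨x0, -, hx0⟩ : ∃ x ∈ Finset.univ, spread (a x) ≠ 0 :=
    Finset.exists_ne_zero_of_sum_ne_zero (by
      rw [htot]
      have h1 : (2 : ℤ) * e ≤ n := by exact_mod_cast he2
      have h2 : (0 : ℤ) < e := by exact_mod_cast he0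
      exact mul_ne_zero (by positivity) (by linarith))
  have hnc : ∀ x, spread (a x) ≠ 0 → periods (a x) ≠ ⊤ := fun x hx htop => hx (by
    have : ∀ i, a x i = a x 1 := fun i => by
      have := (htop ▸ Subgroup.mem_top i : i ∈ periods (a x)) 1
      rwa [mul_one] at this
    simp [spread, this])
  have hne' : ∀ x, spread (a x) ≠ 0 → ∃ i j, a x i ≠ a x j := fun x hx => by
    by_contra h
    push Not at h
    exact hx (by simp [spread, h _ 1])
  have horbspread : ∀ x, ∑ y ∈ orb A x, spread (a y) = ((orb A x).card : ℤ) * spread (a x) :=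
    fun x => by
      rw [Finset.sum_congr rfl fun y hy => show spread (a y) = spread (a x) by
        obtain ⟨k, rfl⟩ := mem_orb.1 hy; exact spread_smul a heq k x, Finset.sum_const, nsmul_eq_mul]
  -- every nonconstant orbit is large
  have hlarge : ∀ x, spread (a x) ≠ 0 →
      (n : ℤ) * n ≤ ((orb A x).card : ℤ) * spread (a x) := by
    intro x hx
    obtain ⟨i, j, hij⟩ := hne' x hx
    obtain ⟨v, K, -, h1, h2, h3, -⟩ := spread_analysis (a x) hij
    have h4 : Nat.card (MulAction.stabilizer A x) ≤ Nat.card (periods (a x)) :=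
      Subgroup.card_le_of_le (stab_le_periods a heq x)
    have h5 := hproper _ (hnc x hx)
    have h6 : (orb A x).card * Nat.card (MulAction.stabilizer A x) = n := card_orb_mul x
    have h7 : K.card + Kᶜ.card = n := Finset.card_add_card_compl K
    zify at h1 h2 h4 h5 h6 h7
    set o : ℤ := ((orb A x).card : ℤ)
    set h : ℤ := (Nat.card (periods (a x)) : ℤ)
    have ho : 0 ≤ o := Int.natCast_nonneg _
    have hh : 0 ≤ h := Int.natCast_nonneg _
    have e1 : h * ((n : ℤ) - h) ≤ (K.card : ℤ) * Kᶜ.card := by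
      rw [← h7]; linarith only [mul_nonneg (sub_nonneg.2 h1) (sub_nonneg.2 h2)]
    have e2 : (n : ℤ) ≤ o * h := h6 ▸ mul_le_mul_of_nonneg_left h4 ho
    calc (n : ℤ) * n ≤ 2 * (n : ℤ) * ((n : ℤ) - h) := by
          rw [mul_comm 2 (n : ℤ), mul_assoc]
          exact mul_le_mul_of_nonneg_left (by linarith) (Int.natCast_nonneg n)
      _ ≤ 2 * (o * h) * ((n : ℤ) - h) :=
          mul_le_mul_of_nonneg_right (by linarith) (by linarith)
      _ = o * (2 * (h * ((n : ℤ) - h))) := by ring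
      _ ≤ o * spread (a x) := mul_le_mul_of_nonneg_left (by linarith) ho
  set Y := orb A x0 with hY
  have hrest : ∀ x ∉ Y, spread (a x) = 0 := by
    intro x hx
    by_contra hs
    have hdis : Disjoint Y (orb A x) := Finset.disjoint_left.2 fun y hy hy' => hx (by
      obtain ⟨k, rfl⟩ := mem_orb.1 hy
      obtain ⟨l, hl⟩ := mem_orb.1 hy'
      exact mem_orb.2 ⟨l⁻¹ * k, by rw [mul_smul, ← hl, inv_smul_smul]⟩)
    have h := Finset.sum_le_sum_of_subset_of_nonneg (f := fun y => spread (a y))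
      (Finset.subset_univ (Y ∪ orb A x)) fun y _ _ => spread_nonneg _
    rw [Finset.sum_union hdis, hY, horbspread, horbspread, htot] at h
    have h1 := hlarge x hs
    have h2 := hlarge x0 hx0
    nlinarith [show (0 : ℤ) < n * e by positivity]
  have hD : ((Y.card : ℤ)) * spread (a x0) = 2 * (n : ℤ) * ((n : ℤ) - e) := by
    rw [← horbspread x0, ← htot]
    exact Finset.sum_subset (Finset.subset_univ _) fun x _ hx => hrest x hx
  -- the periods are exactly `U`
  have hper : periods (a x0) = U := by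
    refine le_antisymm (fun s hs => ?_) (periodic U a hgram x0)
    have h := sum_sq_diff U a hgram 1 s
    rw [Finset.sum_eq_zero fun x _ => ?_] at h
    · by_contra hsU
      rw [div_one, if_neg hsU] at h
      omega
    · rw [sq_eq_zero_iff, sub_eq_zero]
      by_cases hx : x ∈ Y
      · obtain ⟨k, rfl⟩ := mem_orb.1 hx
        have h1 := hs (k⁻¹ * 1)
        rw [row_smul a heq, row_smul a heq, ← h1]
        congr 1
        rw [mul_one, mul_comm]
      · exact eq_of_spread_eq_zero (hrest x hx) 1 s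
  obtain ⟨i, j, hij⟩ := hne' x0 hx0
  obtain ⟨v, K, hKv, h1, h2, h3, h3'⟩ := spread_analysis (a x0) hij
  rw [hper, ← he] at h1 h2
  have h6 : Y.card * Nat.card (MulAction.stabilizer A x0) = n := card_orb_mul x0
  have h4 : Nat.card (MulAction.stabilizer A x0) ≤ e := by
    rw [he, ← hper]; exact Subgroup.card_le_of_le (stab_le_periods a heq x0)
  have h7 : K.card + Kᶜ.card = n := Finset.card_add_card_compl K
  set S := Nat.card (MulAction.stabilizer A x0)
  zify at h1 h2 h4 h6 h7 he2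
  have hn0' : (0 : ℤ) < n := by exact_mod_cast hn0
  have hsp : spread (a x0) = 2 * (S : ℤ) * ((n : ℤ) - e) := by
    refine mul_left_cancel₀ (ne_of_gt hn0') ?_
    calc (n : ℤ) * spread (a x0) = (S : ℤ) * ((Y.card : ℤ) * spread (a x0)) := by rw [← h6]; ring
      _ = _ := by rw [hD]; ring
  have hprod := mul_nonneg (sub_nonneg.2 h1) (sub_nonneg.2 h2)
  have hk : (K.card : ℤ) * Kᶜ.card =
      ((K.card : ℤ) - e) * ((Kᶜ.card : ℤ) - e) + e * ((n : ℤ) - e) := by rw [← h7]; ring
  have hne0 : (0 : ℤ) < (n : ℤ) - e := by omega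
  have hSe : (S : ℤ) = e := by
    refine le_antisymm h4 (le_of_mul_le_mul_right ?_ hne0)
    rw [hsp] at h3
    linarith
  rw [hSe] at hsp h6
  have hzero : ((K.card : ℤ) - e) * ((Kᶜ.card : ℤ) - e) = 0 := le_antisymm (by linarith) hprod
  have hv := h3' (by linarith)
  -- the level set of size `e` is a coset
  have coset : ∀ S' : Finset A, S'.card = e → (∀ u ∈ U, ∀ j ∈ S', u * j ∈ S') →
      ∃ j0, ∀ j, j ∈ S' ↔ j / j0 ∈ U := by
    intro S' hS' hinv
    obtain ⟨j0, hj0⟩ : S'.Nonempty := Finset.card_pos.1 (hS' ▸ he0)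
    refine ⟨j0, fun j => ?_⟩
    have hsub : (Finset.univ.filter fun j => j / j0 ∈ U) = S' := by
      refine Finset.eq_of_subset_of_card_le (fun j hj => ?_) ?_
      · rw [Finset.mem_filter] at hj
        simpa using hinv _ hj.2 _ hj0
      · rw [hS', he, Nat.card_eq_fintype_card]
        exact Finset.card_le_card_of_injOn (fun u : U => (u : A) * j0)
          (fun u _ => by simp) (fun u _ t _ h => Subtype.ext (mul_right_cancel h))
    rw [← hsub]; simp
  have hinvK : ∀ u ∈ U, ∀ j, a x0 (u * j) = a x0 j := fun u hu j =>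
    (periodic U a hgram x0 hu) j
  obtain ⟨c, δ, j0, hδ, hrow⟩ : ∃ (c δ : ℤ) (j0 : A), (δ = 1 ∨ δ = -1) ∧
      ∀ j, a x0 j = c + if j / j0 ∈ U then δ else 0 := by
    rcases mul_eq_zero.1 hzero with hz | hz
    · obtain ⟨j0, hj0⟩ := coset K (by omega) fun u hu j hj => by
        rw [hKv] at hj ⊢; rw [hinvK u hu, hj]
      refine ⟨v - 1, 1, j0, Or.inl rfl, fun j => ?_⟩
      by_cases hj : j ∈ K
      · rw [if_pos ((hj0 j).1 hj), (hKv j).1 hj]; ring
      · rw [if_neg fun h => hj ((hj0 j).2 h), hv j hj]; ring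
    · obtain ⟨j0, hj0⟩ := coset Kᶜ (by omega) fun u hu j hj => by
        rw [Finset.mem_compl, hKv] at hj ⊢; rwa [hinvK u hu]
      refine ⟨v, -1, j0, Or.inr rfl, fun j => ?_⟩
      by_cases hj : j ∈ K
      · rw [if_neg fun h => Finset.mem_compl.1 ((hj0 j).2 h) hj, (hKv j).1 hj]; ring
      · rw [if_pos ((hj0 j).1 (Finset.mem_compl.2 hj)), hv j hj]; ring
  -- the constant part vanishes
  have hcard_coset : ∀ j0 : A, (Finset.univ.filter fun j => j / j0 ∈ U).card = e := by
    intro j0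
    rw [he, Nat.card_eq_fintype_card, Fintype.card_subtype]
    exact Finset.card_equiv (Equiv.divRight j0) (by simp)
  have hb := orb_card_mul_le a heq hbound x0
  rw [show ∑ j, a x0 j = (n : ℤ) * c + (e : ℤ) * δ by
    simp only [hrow, Finset.sum_add_distrib, Finset.sum_const, Finset.card_univ, ← Finset.sum_filter,
      hcard_coset, nsmul_eq_mul, hn]] at hb
  have hY0 : (0 : ℤ) < Y.card :=
    Int.natCast_pos.2 (Finset.card_pos.2 ⟨x0, mem_orb.2 ⟨1, one_smul A x0⟩⟩)
  have hb' : |(n : ℤ) * c + e * δ| ≤ e := le_of_mul_le_mul_left (hb.trans (le_of_eq h6.symm)) hY0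
  obtain ⟨δ', j1, hδ', hrow'⟩ : ∃ (δ' : ℤ) (j1 : A), (δ' = 1 ∨ δ' = -1) ∧
      ∀ j, a x0 j = if j / j1 ∈ U then δ' else 0 := by
    by_cases hc : c = 0
    · exact ⟨δ, j0, hδ, fun j => by rw [hrow, hc, zero_add]⟩
    obtain ⟨hlo, hhi⟩ := abs_le.1 hb'
    have hn2 : (n : ℤ) = 2 * e ∧ c = -δ := by
      rcases hδ with rfl | rfl
      · have hcn : c ≤ -1 := by
          by_contra h
          have : (n : ℤ) * 1 ≤ n * c := mul_le_mul_of_nonneg_left (by omega) hn0'.le
          omega
        rcases eq_or_lt_of_le hcn with hcn | hcn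
        · subst hcn
          exact ⟨by linarith, rfl⟩
        · exfalso
          have : (n : ℤ) * c ≤ n * (-2) := mul_le_mul_of_nonneg_left (by omega) hn0'.le
          omega
      · have hcn : 1 ≤ c := by
          by_contra h
          have : (n : ℤ) * c ≤ n * (-1) := mul_le_mul_of_nonneg_left (by omega) hn0'.le
          omega
        rcases eq_or_lt_of_le hcn with hcn | hcn
        · subst hcn
          exact ⟨by linarith, rfl⟩
        · exfalso
          have : (n : ℤ) * 2 ≤ n * c := mul_le_mul_of_nonneg_left (by omega) hn0'.le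
          omega
    obtain ⟨hn2, rfl⟩ := hn2
    have hidx : U.index = 2 := by
      have h := Subgroup.card_mul_index U
      rw [← he, Nat.card_eq_fintype_card, ← hn] at h
      exact Nat.eq_of_mul_eq_mul_left he0 (by omega)
    obtain ⟨w, hw⟩ : ∃ w, w ∉ U := not_forall.1 fun h => hU (eq_top_iff.2 fun x _ => h x)
    refine ⟨-δ, w * j0, by omega, fun j => ?_⟩
    have hiff : j / j0 ∈ U ↔ ¬ j / (w * j0) ∈ U := by
      have h := Subgroup.mul_mem_iff_of_index_two hidx (a := j / (w * j0)) (b := w)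
      rw [show j / (w * j0) * w = j / j0 by rw [div_mul_eq_mul_div, mul_comm w j0,
        mul_div_mul_right_eq_div]] at h
      tauto
    rw [hrow]
    by_cases hj : j / j0 ∈ U
    · rw [if_pos hj, if_neg (hiff.1 hj)]; ring
    · rw [if_neg hj, if_pos (not_not.1 fun h => hj (hiff.2 h)), add_zero]
  refine ⟨Y, δ', hδ', ⟨x0, mem_orb.2 ⟨1, one_smul A x0⟩⟩, by exact_mod_cast h6, fun θ hθ => ?_,
    fun θ hθ => ?_, fun x hx => eq_of_spread_eq_zero (hrest x hx)⟩
  · obtain ⟨k, rfl⟩ := mem_orb.1 hθ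
    refine ⟨k * j1, fun j => ?_⟩
    rw [row_smul a heq, hrow', show k⁻¹ * j / j1 = j / (k * j1) by
      rw [div_mul_eq_div_div, inv_mul_eq_div]]
  · obtain ⟨k, rfl⟩ := mem_orb.1 hθ
    ext y
    refine ⟨fun hy => ?_, fun hy => ?_⟩
    · obtain ⟨l, rfl⟩ := mem_orb.1 hy
      exact mem_orb.2 ⟨l * k, mul_smul l k x0⟩
    · obtain ⟨l, rfl⟩ := mem_orb.1 hy
      exact mem_orb.2 ⟨l * k⁻¹, by rw [mul_smul, inv_smul_smul]⟩

/-- The structure of the matrix. -/
theorem exists_structure :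
    ∃ (X Y : Finset ι) (δ : ℤ), (δ = 1 ∨ δ = -1) ∧ Disjoint X Y ∧ Y.Nonempty ∧
      X.card = Nat.card U ∧ Y.card * Nat.card U = Fintype.card A ∧
      (∀ x, x ∉ X → x ∉ Y → ∀ j, a x j = 0) ∧
      (∀ x ∈ X, ∃ c : ℤ, (c = 1 ∨ c = -1) ∧ (∀ j, a x j = c) ∧ ∀ k : A, k • x = x) ∧
      (∀ θ ∈ Y, ∃ j0, ∀ j, a θ j = if j / j0 ∈ U then δ else 0) ∧
      ∀ θ ∈ Y, orb A θ = Y := by
  classical
  obtain ⟨Y, δ, hδ, hYne, hcard, hrow, horb, hconst⟩ := exists_exceptional U a heq hgram hbound
  set X : Finset ι := Finset.univ.filter fun x => x ∉ Y ∧ a x 1 ≠ 0 with hX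
  have hXmem : ∀ x, x ∈ X ↔ x ∉ Y ∧ a x 1 ≠ 0 := fun x => by simp [hX]
  have hXrow : ∀ x ∈ X, ∃ c : ℤ, (c = 1 ∨ c = -1) ∧ (∀ j, a x j = c) ∧ ∀ k : A, k • x = x := by
    intro x hx
    obtain ⟨hxY, h1⟩ := (hXmem x).1 hx
    obtain ⟨hc, hfix⟩ := const_row a heq hbound (fun j => hconst x hxY j 1) h1
    exact ⟨a x 1, hc, fun j => hconst x hxY j 1, hfix⟩
  have hzero : ∀ x, x ∉ X → x ∉ Y → ∀ j, a x j = 0 := fun x hx hy j => by
    rw [hconst x hy j 1]
    by_contra h
    exact hx ((hXmem x).2 ⟨hy, h⟩)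
  refine ⟨X, Y, δ, hδ, Finset.disjoint_left.2 fun x hx => ((hXmem x).1 hx).1, hYne, ?_, hcard,
    hzero, hXrow, hrow, horb⟩
  have hgr : ∑ x, ∑ j, a x j * a x j = (Fintype.card A : ℤ) * ((Nat.card U : ℤ) + 1) := by
    rw [Finset.sum_comm]
    simp [hgram, U.one_mem, mul_comm]
  have hsplit : ∑ x, ∑ j, a x j * a x j =
      ∑ x ∈ X, ∑ j, a x j * a x j + ∑ x ∈ Y, ∑ j, a x j * a x j := by
    rw [← Finset.sum_union (Finset.disjoint_left.2 fun x hx => ((hXmem x).1 hx).1)]
    refine (Finset.sum_subset (Finset.subset_univ _) fun x _ hx => ?_).symm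
    rw [Finset.mem_union, not_or] at hx
    simp [hzero x hx.1 hx.2]
  have hXs : ∀ x ∈ X, ∑ j, a x j * a x j = (Fintype.card A : ℤ) := fun x hx => by
    obtain ⟨c, hc, hrc, -⟩ := hXrow x hx
    rcases hc with rfl | rfl <;> simp [hrc]
  have hYs : ∀ x ∈ Y, ∑ j, a x j * a x j = (Nat.card U : ℤ) := fun x hx => by
    obtain ⟨j0, hj0⟩ := hrow x hx
    rw [Fintype.sum_equiv (Equiv.divRight j0) _ (fun j => if j ∈ U then (1 : ℤ) else 0) fun j => ?_,
      Finset.sum_boole, Nat.card_eq_fintype_card, Fintype.card_subtype]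
    rw [hj0, Equiv.divRight_apply]
    by_cases h : j / j0 ∈ U <;> rcases hδ with rfl | rfl <;> simp [h]
  rw [hsplit, Finset.sum_congr rfl hXs, Finset.sum_congr rfl hYs, Finset.sum_const,
    Finset.sum_const, nsmul_eq_mul, nsmul_eq_mul] at hgr
  have hcard' : ((Y.card : ℤ)) * Nat.card U = Fintype.card A := by exact_mod_cast hcard
  have : (X.card : ℤ) = Nat.card U :=
    mul_right_cancel₀ (b := (Fintype.card A : ℤ)) (by exact_mod_cast Fintype.card_ne_zero)
      (by linarith)
  exact_mod_cast this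

end Matrix

end Cfsg.Agent.DefOne
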