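/-
Linear algebra for the lattice argument: nilpotent operators, and representations over an
algebraically closed field of groups of invertible order with a cyclic top.
-/
import Mathlib.RepresentationTheory.Character
import Mathlib.LinearAlgebra.Eigenspace.Triangularizable

set_option linter.unusedSectionVars false
set_option linter.style.haveILetI false

namespace Cfsg.Agent.DefOne

open Module LinearMap

variable {k : Type*} [Field k] {A : Type*} [AddCommGroup A] [Module k A] [FiniteDimensional k A]

theorem finrank_map_add_ker (δ : Module.End k A) (W : Submodule k A) :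
    finrank k W = finrank k (W.map δ) + finrank k (LinearMap.ker (δ.domRestrict W)) := by
  rw [← LinearMap.finrank_range_add_finrank_ker (δ.domRestrict W), LinearMap.range_domRestrict]

theorem mul_rank_pow_le (δ : Module.End k A) {p : ℕ} (h : δ ^ p = 0) :
    (p - 1) * finrank k (LinearMap.range (δ ^ (p - 1))) ≤ finrank k (LinearMap.range δ) := by
  rcases Nat.lt_or_ge p 1 with hp | hp
  · simp [show p - 1 = 0 by omega]
  set c := finrank k (LinearMap.range (δ ^ (p - 1)))
  have hstep : ∀ i, i ≤ p - 1 →
      finrank k (LinearMap.range (δ ^ (i + 1))) + c ≤ finrank k (LinearMap.range (δ ^ i)) := by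
    intro i hi
    rw [finrank_map_add_ker δ (LinearMap.range (δ ^ i))]
    have e : (LinearMap.range (δ ^ i)).map δ = LinearMap.range (δ ^ (i + 1)) := by
      rw [pow_succ', Module.End.mul_eq_comp, LinearMap.range_comp]
    rw [e]
    refine Nat.add_le_add_left ?_ _
    have hle : LinearMap.range (δ ^ (p - 1)) ≤ LinearMap.range (δ ^ i) := by
      obtain ⟨j, hj⟩ := Nat.exists_eq_add_of_le hi
      rw [hj, pow_add, Module.End.mul_eq_comp]
      exact LinearMap.range_comp_le_range _ _
    refine LinearMap.finrank_le_finrank_of_injective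
      (f := ((Submodule.inclusion hle).codRestrict (LinearMap.ker (δ.domRestrict _)) fun x => ?_)) ?_
    · obtain ⟨v, hv⟩ := x.2
      show δ ((x : A)) = 0
      rw [← hv, ← LinearMap.comp_apply, ← Module.End.mul_eq_comp, ← pow_succ',
        Nat.sub_add_cancel hp, h]
      rfl
    · exact fun a b hab => Submodule.inclusion_injective hle (congrArg Subtype.val hab)
  have key : ∀ n, n ≤ p - 1 → finrank k (LinearMap.range (δ ^ (p - n))) ≥ n * c := by
    intro n
    induction n with
    | zero => simp
    | succ n ih =>
      intro hn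
      have h1 := hstep (p - (n + 1)) (by omega)
      rw [show p - (n + 1) + 1 = p - n by omega] at h1
      have h2 := ih (by omega)
      rw [add_mul, one_mul]
      omega
  have h1 := key (p - 1) le_rfl
  rw [show p - (p - 1) = 1 by omega, pow_one] at h1
  exact h1

theorem dim_le_mul_ker (δ : Module.End k A) {n : ℕ} (S : Submodule k A)
    (h : ∀ v ∈ S, (δ ^ n) v = 0) : finrank k S ≤ n * finrank k (LinearMap.ker δ) := by
  have hstep : ∀ i, finrank k (S.map (δ ^ i)) ≤
      finrank k (S.map (δ ^ (i + 1))) + finrank k (LinearMap.ker δ) := by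
    intro i
    rw [finrank_map_add_ker δ (S.map (δ ^ i)), ← Submodule.map_comp, ← Module.End.mul_eq_comp,
      ← pow_succ']
    refine Nat.add_le_add_left ?_ _
    exact LinearMap.finrank_le_finrank_of_injective
      (f := ((Submodule.subtype _).comp (LinearMap.ker (δ.domRestrict _)).subtype).codRestrict
        (LinearMap.ker δ) fun x => x.2)
      fun a b hab => by
        have h1 : ((a : S.map (δ ^ i)) : A) = ((b : S.map (δ ^ i)) : A) := congrArg (fun z : LinearMap.ker δ => (z : A)) hab
        exact Subtype.ext (Subtype.ext h1)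
  have key : ∀ m, finrank k S ≤ finrank k (S.map (δ ^ m)) + m * finrank k (LinearMap.ker δ) := by
    intro m
    induction m with
    | zero => rw [pow_zero, Module.End.one_eq_id, Submodule.map_id]; omega
    | succ m ih =>
      have := hstep m
      rw [add_mul, one_mul]
      omega
  have h0 : S.map (δ ^ n) = ⊥ := by
    rw [eq_bot_iff]
    rintro _ ⟨v, hv, rfl⟩
    exact (Submodule.mem_bot k).2 (h v hv)
  have h1 := key n
  rw [h0, finrank_bot, zero_add] at h1
  exact h1

/-! ## Minimal invariant subspaces -/

variable {V : Type*} [Group V]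

/-- An invariant subspace. -/
def Stab (ρ : Representation k V A) (S : Submodule k A) : Prop := ∀ v : V, ∀ a ∈ S, ρ v a ∈ S

/-- A minimal non-zero invariant subspace. -/
def MinStab (ρ : Representation k V A) (S : Submodule k A) : Prop :=
  S ≠ ⊥ ∧ Stab ρ S ∧ ∀ T ≤ S, Stab ρ T → T ≠ ⊥ → T = S

theorem exists_minStab (ρ : Representation k V A) {S : Submodule k A} (hS : Stab ρ S)
    (h0 : S ≠ ⊥) : ∃ T ≤ S, MinStab ρ T := by
  suffices h : ∀ n, ∀ S : Submodule k A, finrank k S = n → Stab ρ S → S ≠ ⊥ → ∃ T ≤ S, MinStab ρ T
    from h _ S rfl hS h0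
  intro n
  induction n using Nat.strong_induction_on with
  | _ n ih =>
  intro S hn hS h0
  by_cases h : ∀ T ≤ S, Stab ρ T → T ≠ ⊥ → T = S
  · exact ⟨S, le_rfl, h0, hS, h⟩
  push Not at h
  obtain ⟨T, hT, hTs, hT0, hne⟩ := h
  obtain ⟨U, hU, hUm⟩ := ih _ (hn ▸ Submodule.finrank_lt_finrank_of_lt (lt_of_le_of_ne hT hne)) T
    rfl hTs hT0
  exact ⟨U, hU.trans hT, hUm⟩

/-- The representation on an invariant subspace. -/
def subRep {ρ : Representation k V A} {S : Submodule k A} (hS : Stab ρ S) :
    Representation k V S :=
  Subrepresentation.toRepresentation (ρ := ρ) ⟨S, fun g _ h => hS g _ h⟩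

theorem subRep_coe {ρ : Representation k V A} {S : Submodule k A} (hS : Stab ρ S) (v : V) (a : S) :
    (subRep hS v a : A) = ρ v a := rfl

theorem isIrreducible_subRep {ρ : Representation k V A} {S : Submodule k A} (h : MinStab ρ S) :
    (subRep h.2.1).IsIrreducible := by
  haveI : Nontrivial (Subrepresentation (subRep h.2.1)) := ⟨⟨⊥, ⊤, fun e => h.1 (by
    rw [eq_bot_iff]
    intro a ha
    have : (⟨a, ha⟩ : S) ∈ (⊥ : Subrepresentation (subRep h.2.1)) := e ▸ trivial
    exact (Submodule.mem_bot k).2 (congrArg Subtype.val ((Submodule.mem_bot k).1 this)))⟩⟩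
  refine ⟨fun T => ?_⟩
  by_cases hT : T.toSubmodule.map S.subtype = ⊥
  · left
    refine Subrepresentation.toSubmodule_injective ?_
    have := Submodule.map_injective_of_injective S.subtype_injective
      (hT.trans (Submodule.map_bot S.subtype).symm)
    exact this
  · right
    have e := h.2.2 _ (Submodule.map_subtype_le _ _) (by
      rintro v _ ⟨a, ha, rfl⟩
      exact ⟨subRep h.2.1 v a, T.apply_mem_toSubmodule v ha, rfl⟩) hT
    refine Subrepresentation.toSubmodule_injective ?_
    refine eq_top_iff.2 fun a _ => ?_
    obtain ⟨b, hb, hba⟩ : (a : A) ∈ T.toSubmodule.map S.subtype := by rw [e]; exact a.2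
    rwa [← Subtype.ext (show (b : A) = a from hba)]

variable [Fintype V] [IsAlgClosed k] (hV : (Nat.card V : k) ≠ 0)

include hV

theorem minStab_facts (ρ : Representation k V A)
    (hsc : ∀ f : V → k, (∀ a b : V, f (b * a * b⁻¹) = f a) →
      ∃ c : k, ∀ x : A, ∑ v : V, f v • ρ v x = c • x)
    {S : Submodule k A} (hS : MinStab ρ S) :
    (finrank k S : k) ≠ 0 ∧
      (∀ (T : Submodule k A) (hT : MinStab ρ T), ∃ e : T ≃ₗ[k] S, ∀ v a,
        e (subRep hT.2.1 v a) = subRep hS.2.1 v (e a)) ∧
      (finrank k S) ^ 2 ≤ finrank k (Submodule.span k (Set.range fun v => ρ v)) := by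
  classical
  haveI : Invertible (Nat.card V : k) := invertibleOfNonzero hV
  haveI := isIrreducible_subRep hS
  have key : ∀ (T : Submodule k A) (hT : MinStab ρ T) (U : Submodule k A) (hU : MinStab ρ U),
      ∃ c : k, (∀ x : A, ∑ v : V, (subRep hT.2.1).character v⁻¹ • ρ v x = c • x) ∧
        c * (finrank k U : k) = (Nat.card V : k) *
          if Nonempty (Representation.Equiv (subRep hT.2.1) (subRep hU.2.1)) then 1 else 0 := by
    intro T hT U hU
    haveI := isIrreducible_subRep hT
    haveI := isIrreducible_subRep hU
    obtain ⟨c, hc⟩ := hsc (fun v => (subRep hT.2.1).character v⁻¹) fun a b => by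
      rw [show (b * a * b⁻¹)⁻¹ = b * a⁻¹ * b⁻¹ by group, Representation.char_conj]
    refine ⟨c, hc, ?_⟩
    have h1 : ∑ v : V, (subRep hT.2.1).character v⁻¹ • (subRep hU.2.1 v : Module.End k U) =
        c • LinearMap.id := LinearMap.ext fun x => Subtype.ext (by
      simpa [LinearMap.sum_apply, subRep_coe] using hc (x : A))
    have h2 := congrArg (LinearMap.trace k U) h1
    simp only [map_sum, map_smul, LinearMap.trace_id, smul_eq_mul] at h2
    have h3 := Representation.char_orthonormal (subRep hU.2.1) (subRep hT.2.1)
    rw [← h2, ← h3, mul_inv_cancel_left₀ hV]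
    exact Finset.sum_congr rfl fun v _ => mul_comm _ _
  obtain ⟨c, hc, hcS⟩ := key S hS S hS
  rw [if_pos ⟨Representation.Equiv.refl _⟩, mul_one] at hcS
  have hd : (finrank k S : k) ≠ 0 := fun h => hV (by rw [← hcS, h, mul_zero])
  refine ⟨hd, fun T hT => ?_, ?_⟩
  · obtain ⟨c', hc', hcT⟩ := key T hT S hS
    by_contra hne
    have hno : ¬ Nonempty (Representation.Equiv (subRep hT.2.1) (subRep hS.2.1)) := fun ⟨φ⟩ =>
      hne ⟨φ.toLinearEquiv, fun v a => LinearMap.congr_fun (φ.isIntertwining' v) a⟩
    rw [if_neg hno, mul_zero, mul_eq_zero, or_iff_left hd] at hcT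
    obtain ⟨c'', hc'', hTT⟩ := key T hT T hT
    rw [if_pos ⟨Representation.Equiv.refl _⟩, mul_one] at hTT
    obtain ⟨a, ha, ha0⟩ := Submodule.exists_mem_ne_zero_of_ne_bot hT.1
    have : c'' = c' := smul_left_injective k ha0 ((hc'' a).symm.trans (hc' a))
    exact hV (by rw [← hTT, this, hcT, zero_mul])
  · have hrank : ∀ π : Module.End k S,
        π ∈ Submodule.span k (Set.range fun v => (subRep hS.2.1 v : Module.End k S)) := by
      intro π
      set σ := subRep hS.2.1
      have hz : ∑ v : V, LinearMap.trace k S (π * σ v) • (σ v⁻¹ : Module.End k S) =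
          ((Nat.card V : k) / (finrank k S : k)) • π := by
        have hrk : ∀ (φ : S →ₗ[k] k) (y : S),
            ∑ v : V, LinearMap.trace k S (φ.smulRight y * σ v) • (σ v⁻¹ : Module.End k S) =
              ((Nat.card V : k) / (finrank k S : k)) • φ.smulRight y := by
          intro φ y
          refine LinearMap.ext fun x => ?_
          have ht : ∀ (ψ : S →ₗ[k] k) (z : S), LinearMap.trace k S (ψ.smulRight z) = ψ z :=
            fun ψ z => by rw [LinearMap.trace_smulRight]
          let T : Module.End k S := ∑ v : V, σ v⁻¹ * φ.smulRight x * σ v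
          have hT : ∀ w z, T (σ w z) = σ w (T z) := by
            intro w z
            have h1 : T * σ w = σ w * T := by
              simp only [T, Finset.sum_mul, Finset.mul_sum]
              refine Fintype.sum_equiv (Equiv.mulRight w) _ _ fun v => ?_
              simp only [Equiv.coe_mulRight, mul_assoc, ← map_mul]
              rw [← mul_assoc (σ w), ← map_mul, mul_inv_rev, mul_inv_cancel_left]
            exact LinearMap.congr_fun h1 z
          obtain ⟨a, ha⟩ :=
            (Representation.IsIrreducible.algebraMap_intertwiningMap_bijective_of_isAlgClosed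
              (ρ := σ)).2 (T.intertwiningMap_of_isIntertwiningMap σ σ hT)
          have hTa : T = a • LinearMap.id := by
            have := congrArg Representation.IntertwiningMap.toLinearMap ha
            exact LinearMap.ext fun z => (LinearMap.congr_fun this z).symm
          have h2 := congrArg (LinearMap.trace k S) hTa
          simp only [T, map_sum, map_smul, LinearMap.trace_id, smul_eq_mul] at h2
          have h3 : ∀ v, LinearMap.trace k S (σ v⁻¹ * φ.smulRight x * σ v) = φ x := fun v => by
            rw [LinearMap.trace_mul_cycle, ← map_mul, mul_inv_cancel, map_one, one_mul, ht]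
          rw [Finset.sum_congr rfl fun v _ => h3 v, Finset.sum_const, Finset.card_univ,
            ← Nat.card_eq_fintype_card, nsmul_eq_mul] at h2
          have h4 := LinearMap.congr_fun hTa y
          simp only [T, LinearMap.sum_apply, Module.End.mul_apply, LinearMap.smulRight_apply,
            LinearMap.smul_apply, LinearMap.id_apply, map_smul] at h4 ⊢
          have h5 : ∀ v, LinearMap.trace k S (φ.smulRight y * σ v) = φ (σ v y) := fun v => by
            rw [show φ.smulRight y * σ v = (φ.comp (σ v)).smulRight y from LinearMap.ext fun z => rfl,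
              ht]
            rfl
          simp only [h5]
          rw [h4, smul_smul]
          congr 1
          field_simp
          linear_combination -h2
        let b := Module.finBasis k S
        have hπ : π = ∑ i, (b.coord i).smulRight (π (b i)) := LinearMap.ext fun x => by
          conv_lhs => rw [← b.sum_repr x]
          rw [map_sum, LinearMap.sum_apply]
          exact Finset.sum_congr rfl fun i _ => by rw [map_smul]; rfl
        rw [hπ]
        simp only [Finset.sum_mul, map_sum, Finset.sum_smul, Finset.smul_sum]
        rw [Finset.sum_comm]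
        exact Finset.sum_congr rfl fun i _ => hrk _ _
      have : π = ((finrank k S : k) / (Nat.card V : k)) •
          ∑ v : V, LinearMap.trace k S (π * σ v) • (σ v⁻¹ : Module.End k S) := by
        rw [hz, smul_smul, div_mul_div_cancel₀ hV, div_self hd, one_smul]
      rw [this]
      exact Submodule.smul_mem _ _ (Submodule.sum_mem _ fun v _ =>
        Submodule.smul_mem _ _ (Submodule.subset_span ⟨v⁻¹, rfl⟩))
    let W := Submodule.span k (Set.range fun v => (ρ v : Module.End k A))
    have hW : ∀ f ∈ W, ∀ a ∈ S, f a ∈ S := by
      intro f hf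
      induction hf using Submodule.span_induction with
      | mem x hx => obtain ⟨v, rfl⟩ := hx; exact fun a ha => hS.2.1 v a ha
      | zero => exact fun a _ => by simp
      | add x y _ _ hx hy => exact fun a ha => S.add_mem (hx a ha) (hy a ha)
      | smul r x _ hx => exact fun a ha => S.smul_mem r (hx a ha)
    let Φ : W →ₗ[k] Module.End k S :=
      { toFun := fun f => (f : Module.End k A).restrict (hW f f.2)
        map_add' := fun _ _ => LinearMap.ext fun _ => Subtype.ext rfl
        map_smul' := fun _ _ => LinearMap.ext fun _ => Subtype.ext rfl }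
    have hsurj : Function.Surjective Φ := by
      refine LinearMap.range_eq_top.1 (eq_top_iff.2 fun π _ => ?_)
      refine Submodule.span_le.2 ?_ (hrank π)
      rintro _ ⟨v, rfl⟩
      exact ⟨⟨ρ v, Submodule.subset_span ⟨v, rfl⟩⟩, LinearMap.ext fun _ => Subtype.ext rfl⟩
    calc (finrank k S) ^ 2 = finrank k (Module.End k S) := by
          rw [Module.finrank_linearMap, pow_two]
      _ ≤ _ := LinearMap.finrank_le_finrank_of_surjective hsurj

end Cfsg.Agent.DefOne
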