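/-
Lattices with an automorphism of order `p` over a discrete valuation ring with uniformiser `p`:
reduction, the two Tate quotients, their dimensions and the lifting of their endomorphisms.
-/
import Cfsg.Agent.Lib.DefOne.LinAlg
import Mathlib.LinearAlgebra.Matrix.ToLin
import Mathlib.LinearAlgebra.FreeModule.PID
import Mathlib.Algebra.CharP.Basic

set_option linter.unusedSectionVars false
set_option linter.style.haveILetI false

namespace Cfsg.Agent.DefOne

open Module LinearMap Polynomial

variable {R : Type*} [CommRing R] [IsDomain R] [IsPrincipalIdealRing R]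
  {L : Type*} [AddCommGroup L] [Module R L]
  {k : Type*} [Field k] {p : ℕ}

/-- The hypotheses on the residue map. -/
structure Residue (p : ℕ) (π : R →+* k) : Prop where
  hp : p.Prime
  p0 : (p : R) ≠ 0
  surj : Function.Surjective π
  ker : ∀ x, π x = 0 ↔ ∃ y, x = (p : R) * y

variable {π : R →+* k} (hπ : Residue p π) {ι : Type*} [Fintype ι] [DecidableEq ι]
  (bL : Basis ι R L)

theorem Residue.natCast_p (hπ : Residue p π) : (p : k) = 0 := by
  rw [← map_natCast π, hπ.ker]
  exact ⟨1, (mul_one _).symm⟩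

theorem Residue.charP (hπ : Residue p π) : CharP k p := CharP.charP_iff_prime_eq_zero hπ.hp |>.2 hπ.natCast_p

/-- Reduction of a vector. -/
noncomputable def rv (π : R →+* k) (bL : Basis ι R L) (x : L) : ι → k :=
  fun i => π (bL.repr x i)

/-- Reduction of an endomorphism. -/
noncomputable def redEnd (π : R →+* k) (bL : Basis ι R L) :
    Module.End R L →+* Module.End k (ι → k) :=
  ((Matrix.toLinAlgEquiv' : Matrix ι ι k ≃ₐ[k] _).toRingEquiv.toRingHom.comp π.mapMatrix).comp
    (LinearMap.toMatrixAlgEquiv bL).toRingEquiv.toRingHom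

theorem rv_add (x y : L) : rv π bL (x + y) = rv π bL x + rv π bL y := by
  funext i; simp [rv]

theorem rv_smul (c : R) (x : L) : rv π bL (c • x) = π c • rv π bL x := by
  funext i; simp [rv]

theorem rv_zero : rv π bL (0 : L) = 0 := by
  funext i; simp [rv]

theorem rv_sub (x y : L) : rv π bL (x - y) = rv π bL x - rv π bL y := by
  funext i; simp [rv]

theorem rv_sum {α : Type*} (s : Finset α) (f : α → L) :
    rv π bL (∑ a ∈ s, f a) = ∑ a ∈ s, rv π bL (f a) :=
  map_sum (AddMonoidHom.mk' (rv π bL) (rv_add bL)) f s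

theorem redEnd_apply (f : Module.End R L) (x : L) :
    redEnd π bL f (rv π bL x) = rv π bL (f x) := by
  funext i
  have h := congrFun (LinearMap.toMatrix_mulVec_repr bL bL f x) i
  simp only [redEnd, RingHom.coe_comp, Function.comp_apply, RingEquiv.toRingHom_eq_coe,
    RingEquiv.coe_toRingHom, AlgEquiv.coe_ringEquiv, Matrix.toLinAlgEquiv'_apply,
    RingHom.mapMatrix_apply, rv]
  rw [← h]
  exact (π.map_mulVec _ _ i).symm

include hπ

theorem rv_surjective : Function.Surjective (rv π bL) := fun v => by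
  choose c hc using fun i => hπ.surj (v i)
  exact ⟨bL.equivFun.symm c, funext fun i => by simp [rv, Basis.equivFun_symm_apply,
    Finsupp.single_apply, hc]⟩

theorem rv_eq_zero {x : L} (h : rv π bL x = 0) : ∃ y : L, x = (p : R) • y := by
  choose c hc using fun i => (hπ.ker _).1 (congrFun h i)
  refine ⟨bL.equivFun.symm c, bL.ext_elem fun i => ?_⟩
  simp [Basis.equivFun_symm_apply, Finsupp.single_apply, hc i]

theorem rv_p_smul (y : L) : rv π bL ((p : R) • y) = 0 := by
  rw [rv_smul, (hπ.ker _).2 ⟨1, (mul_one _).symm⟩, zero_smul]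

/-- Reduction of a submodule. -/
noncomputable def redSub (S : Submodule R L) : Submodule k (ι → k) where
  carrier := rv π bL '' (S : Set L)
  add_mem' := by
    rintro _ _ ⟨x, hx, rfl⟩ ⟨y, hy, rfl⟩
    exact ⟨x + y, S.add_mem hx hy, rv_add bL x y⟩
  zero_mem' := ⟨0, S.zero_mem, rv_zero bL⟩
  smul_mem' := by
    rintro c _ ⟨x, hx, rfl⟩
    obtain ⟨r, rfl⟩ := hπ.surj c
    exact ⟨r • x, S.smul_mem r hx, rv_smul bL r x⟩

theorem rv_mem_redSub {S : Submodule R L} {x : L} (hx : x ∈ S) : rv π bL x ∈ redSub hπ bL S :=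
  ⟨x, hx, rfl⟩

theorem finrank_redSub {S : Submodule R L} (hpure : ∀ x : L, (p : R) • x ∈ S → x ∈ S) :
    finrank k (redSub hπ bL S) = finrank R S := by
  classical
  obtain ⟨n, bS⟩ := Submodule.basisOfPid bL S
  rw [Module.finrank_eq_card_basis bS]
  have hli : LinearIndependent k fun j => rv π bL (bS j : L) := by
    rw [Fintype.linearIndependent_iff]
    intro g hg j
    choose c hc using fun j => hπ.surj (g j)
    have h1 : rv π bL (∑ j, c j • (bS j : L)) = 0 := by
      rw [rv_sum, ← hg]
      exact Finset.sum_congr rfl fun j _ => by rw [rv_smul, hc]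
    obtain ⟨y, hy⟩ := rv_eq_zero hπ bL h1
    have hyS : y ∈ S := hpure y (hy ▸ S.sum_mem fun j _ => S.smul_mem _ (bS j).2)
    have h2 : ∑ j, c j • bS j = (p : R) • (⟨y, hyS⟩ : S) := Subtype.ext (by simpa using hy)
    have h3 := congrArg (fun z => bS.repr z j) h2
    rw [map_smul, Finsupp.smul_apply, smul_eq_mul] at h3
    rw [Basis.repr_sum_self] at h3
    rw [← hc, hπ.ker]
    exact ⟨_, h3⟩
  have hspan : redSub hπ bL S = Submodule.span k (Set.range fun j => rv π bL (bS j : L)) := by
    refine le_antisymm ?_ (Submodule.span_le.2 ?_)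
    · rintro _ ⟨x, hx, rfl⟩
      have h : x = ∑ j, bS.repr ⟨x, hx⟩ j • (bS j : L) := by
        have := congrArg (fun z : S => (z : L)) (bS.sum_repr ⟨x, hx⟩)
        simp only [AddSubmonoidClass.coe_finset_sum, SetLike.val_smul] at this
        exact this.symm
      rw [h, rv_sum]
      exact Submodule.sum_mem _ fun j _ => by
        rw [rv_smul]
        exact Submodule.smul_mem _ _ (Submodule.subset_span ⟨j, rfl⟩)
    · rintro _ ⟨j, rfl⟩
      exact rv_mem_redSub hπ bL (bS j).2
  rw [hspan, finrank_span_eq_card hli]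

/-- Lifting a linear map into a submodule. -/
theorem exists_lift {S : Submodule R L} (Φ : (ι → k) →ₗ[k] (ι → k))
    (hΦ : ∀ v, Φ v ∈ redSub hπ bL S) :
    ∃ F : Module.End R L, (∀ x, F x ∈ S) ∧ ∀ x, rv π bL (F x) = Φ (rv π bL x) := by
  choose w hw1 hw2 using fun i => hΦ (rv π bL (bL i))
  refine ⟨bL.constr R w, fun x => ?_, fun x => ?_⟩
  · rw [Basis.constr_apply_fintype]
    exact S.sum_mem fun i _ => S.smul_mem _ (hw1 i)
  · conv_rhs => rw [← bL.sum_repr x, rv_sum, map_sum]
    rw [Basis.constr_apply_fintype, rv_sum]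
    exact Finset.sum_congr rfl fun i _ => by
      rw [rv_smul, rv_smul, map_smul, hw2, Basis.equivFun_apply]

/-- Division by `p`. -/
theorem exists_div {F : Module.End R L} (h : ∀ x, rv π bL (F x) = 0) :
    ∃ F' : Module.End R L, ∀ x, (p : R) • F' x = F x := by
  choose w hw using fun i => rv_eq_zero hπ bL (h (bL i))
  refine ⟨bL.constr R w, fun x => ?_⟩
  conv_rhs => rw [← bL.sum_repr x, map_sum]
  rw [Basis.constr_apply_fintype, Finset.smul_sum]
  exact Finset.sum_congr rfl fun i _ => by
    rw [map_smul, hw i, smul_comm, Basis.equivFun_apply]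

omit hπ in
theorem smul_p_injective (bL : Basis ι R L) (h0 : (p : R) ≠ 0) {x y : L}
    (h : (p : R) • x = (p : R) • y) : x = y :=
  bL.ext_elem fun i => mul_left_cancel₀ h0 (by simpa using congrArg (fun z => bL.repr z i) h)

variable (τ : Module.End R L)

/-- `τ − 1`. -/
def dl (τ : Module.End R L) : Module.End R L := τ - 1

/-- `1 + τ + ⋯ + τ^(p−1)`. -/
def nu (p : ℕ) (τ : Module.End R L) : Module.End R L := ∑ i ∈ Finset.range p, τ ^ i

omit hπ in
theorem dl_mul_nu (hτ : τ ^ p = 1) : dl τ * nu p τ = 0 := by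
  rw [dl, nu, mul_geom_sum, hτ, sub_self]

omit hπ in
theorem nu_mul_dl (hτ : τ ^ p = 1) : nu p τ * dl τ = 0 := by
  rw [dl, nu, geom_sum_mul, hτ, sub_self]

omit hπ in
theorem tau_mul_nu (hτ : τ ^ p = 1) : τ * nu p τ = nu p τ := by
  have := dl_mul_nu (p := p) τ hτ
  rwa [dl, sub_mul, one_mul, sub_eq_zero] at this

omit hπ in
theorem tau_pow_mul_nu (hτ : τ ^ p = 1) (i : ℕ) : τ ^ i * nu p τ = nu p τ := by
  induction i with
  | zero => simp
  | succ i ih => rw [pow_succ, mul_assoc, tau_mul_nu τ hτ, ih]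

omit hπ in
theorem nu_mul_nu (hτ : τ ^ p = 1) : nu p τ * nu p τ = (p : Module.End R L) * nu p τ := by
  conv_lhs => rw [nu, Finset.sum_mul]
  rw [← nu, Finset.sum_congr rfl fun i _ => tau_pow_mul_nu τ hτ i, Finset.sum_const,
    Finset.card_range, nsmul_eq_mul]

theorem red_nu : redEnd π bL (nu p τ) = redEnd π bL (dl τ) ^ (p - 1) := by
  haveI := hπ.charP
  haveI := Fact.mk hπ.hp
  have h : (∑ i ∈ Finset.range p, (X : k[X]) ^ i) = (X - 1) ^ (p - 1) := by
    have hne : (X : k[X]) - 1 ≠ 0 := by rw [← map_one C]; exact X_sub_C_ne_zero 1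
    apply mul_left_cancel₀ hne
    rw [mul_geom_sum, ← pow_succ', Nat.sub_add_cancel hπ.hp.pos, sub_pow_char, one_pow]
  have h1 := congrArg (aeval (redEnd π bL τ)) h
  simp only [map_sum, map_pow, aeval_X, map_sub, map_one] at h1
  simp only [nu, dl, map_sum, map_pow, map_sub, map_one]
  exact h1

theorem red_dl_pow (hτ : τ ^ p = 1) : redEnd π bL (dl τ) ^ p = 0 := by
  conv_lhs => rw [← Nat.sub_add_cancel hπ.hp.pos]
  rw [pow_succ, ← red_nu hπ bL τ, ← map_mul, nu_mul_dl τ hτ, map_zero]

omit hπ in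
theorem pure_ker (bL : Basis ι R L) (h0 : (p : R) ≠ 0) (α : Module.End R L) {x : L}
    (hx : (p : R) • x ∈ LinearMap.ker α) : x ∈ LinearMap.ker α := by
  rw [LinearMap.mem_ker] at hx ⊢
  rw [map_smul] at hx
  exact smul_p_injective bL h0 (by rw [hx, smul_zero])

theorem range_redEnd_le {α β : Module.End R L} (h : α * β = 0) :
    LinearMap.range (redEnd π bL β) ≤ redSub hπ bL (LinearMap.ker α) := by
  rintro _ ⟨v, rfl⟩
  obtain ⟨x, rfl⟩ := rv_surjective hπ bL v
  exact ⟨β x, LinearMap.congr_fun h x, (redEnd_apply bL β x).symm⟩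

/-- The quotient `ker α / im β` after reduction. -/
abbrev tate (α β : Module.End R L) :=
  (redSub hπ bL (LinearMap.ker α)) ⧸
    (LinearMap.range (redEnd π bL β)).comap (redSub hπ bL (LinearMap.ker α)).subtype

/-- The class of a vector. -/
noncomputable def tcl (α β : Module.End R L) (x : LinearMap.ker α) : tate hπ bL α β :=
  Submodule.Quotient.mk ⟨rv π bL x, rv_mem_redSub hπ bL x.2⟩

theorem tcl_surjective (α β : Module.End R L) : Function.Surjective (tcl hπ bL α β) := by
  intro a
  induction a using Submodule.Quotient.induction_on with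
  | _ v =>
    obtain ⟨v, x, hx, rfl⟩ := v
    exact ⟨⟨x, hx⟩, rfl⟩

theorem tcl_eq_iff (α β : Module.End R L) (x x' : LinearMap.ker α) :
    tcl hπ bL α β x = tcl hπ bL α β x' ↔
      rv π bL ((x : L) - x') ∈ LinearMap.range (redEnd π bL β) := by
  rw [tcl, tcl, Submodule.Quotient.eq, rv_sub]
  rfl

theorem finrank_tate_add {α β : Module.End R L} (h : α * β = 0) :
    finrank k (tate hπ bL α β) + finrank k (LinearMap.range (redEnd π bL β)) =
      finrank R (LinearMap.ker α) := by
  rw [← finrank_redSub hπ bL (fun x hx => pure_ker bL hπ.p0 α hx),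
    ← LinearEquiv.finrank_eq (Submodule.comapSubtypeEquivOfLe (range_redEnd_le hπ bL h))]
  exact Submodule.finrank_quotient_add_finrank _

theorem finrank_tate_nu (hτ : τ ^ p = 1) :
    (p - 1) * finrank R (LinearMap.ker (dl τ)) ≤
      (p - 1) * finrank k (tate hπ bL (dl τ) (nu p τ)) + finrank R (LinearMap.ker (nu p τ)) := by
  have h1 := finrank_tate_add hπ bL (dl_mul_nu (p := p) τ hτ)
  rw [show finrank k (LinearMap.range (redEnd π bL (nu p τ))) =
    finrank k (LinearMap.range (redEnd π bL (dl τ) ^ (p - 1))) by rw [red_nu hπ bL τ]] at h1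
  have h2 := mul_rank_pow_le _ (red_dl_pow hπ bL τ hτ)
  have h3 : finrank k (LinearMap.range (redEnd π bL (dl τ))) ≤ finrank R (LinearMap.ker (nu p τ)) := by
    rw [← finrank_redSub hπ bL (fun x hx => pure_ker bL hπ.p0 (nu p τ) hx)]
    exact Submodule.finrank_mono (range_redEnd_le hπ bL (nu_mul_dl τ hτ))
  rw [← h1, mul_add]
  omega

theorem finrank_tate_dl (hτ : τ ^ p = 1) :
    p * finrank R (LinearMap.ker (nu p τ)) ≤
      (p - 1) * finrank k (tate hπ bL (nu p τ) (dl τ)) + (p - 1) * Fintype.card ι := by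
  have h1 := finrank_tate_add hπ bL (nu_mul_dl (p := p) τ hτ)
  have h2 : finrank R (LinearMap.ker (nu p τ)) ≤
      (p - 1) * finrank k (LinearMap.ker (redEnd π bL (dl τ))) := by
    rw [← finrank_redSub hπ bL (fun x hx => pure_ker bL hπ.p0 (nu p τ) hx)]
    refine dim_le_mul_ker _ _ ?_
    rintro _ ⟨x, hx, rfl⟩
    rw [← red_nu hπ bL τ, redEnd_apply, LinearMap.mem_ker.1 hx, rv_zero]
  have h3 := LinearMap.finrank_range_add_finrank_ker (redEnd π bL (dl τ))
  rw [Module.finrank_pi] at h3
  obtain ⟨q, hq⟩ : ∃ q, p = q + 1 := ⟨p - 1, by have := hπ.hp.pos; omega⟩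
  subst hq
  simp only [Nat.add_sub_cancel] at *
  rw [← h3, add_mul, one_mul, mul_add]
  have h4 : q * finrank R (LinearMap.ker (nu (q + 1) τ)) =
      q * finrank k (tate hπ bL (nu (q + 1) τ) (dl τ)) +
        q * finrank k (LinearMap.range (redEnd π bL (dl τ))) := by rw [← mul_add, h1]
  omega

/-- Endomorphisms of the first quotient lift. -/
theorem exists_lift_nu (hτ : τ ^ p = 1) (η : Module.End k (tate hπ bL (dl τ) (nu p τ))) :
    ∃ f : Module.End R L, Commute f τ ∧ ∀ x : LinearMap.ker (dl τ),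
      ∃ h : f x ∈ LinearMap.ker (dl τ),
        tcl hπ bL (dl τ) (nu p τ) ⟨f x, h⟩ = η (tcl hπ bL (dl τ) (nu p τ) x) := by
  set T := redSub hπ bL (LinearMap.ker (dl τ))
  set U := (LinearMap.range (redEnd π bL (nu p τ))).comap T.subtype
  obtain ⟨r, hr⟩ := LinearMap.exists_leftInverse_of_injective T.subtype T.ker_subtype
  obtain ⟨s, hs⟩ := U.mkQ.exists_rightInverse_of_surjective U.range_mkQ
  let Φ : (ι → k) →ₗ[k] (ι → k) := T.subtype ∘ₗ s ∘ₗ η ∘ₗ U.mkQ ∘ₗ r
  obtain ⟨F, hFX, hF⟩ := exists_lift hπ bL Φ fun v => Subtype.coe_prop _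
  have hr' : ∀ a : T, r a = a := fun a => LinearMap.congr_fun hr a
  have hdiv : ∀ l, rv π bL ((F * nu p τ) l) = 0 := by
    intro l
    have hm : rv π bL (nu p τ l) ∈ T :=
      rv_mem_redSub hπ bL (LinearMap.congr_fun (dl_mul_nu (p := p) τ hτ) l)
    rw [Module.End.mul_apply, hF]
    have h2 : U.mkQ ⟨_, hm⟩ = 0 := (Submodule.Quotient.mk_eq_zero U).2 ⟨_, redEnd_apply bL _ l⟩
    simp only [Φ, LinearMap.comp_apply]
    rw [hr' ⟨_, hm⟩, h2, map_zero, map_zero, map_zero]
  obtain ⟨f, hf⟩ := exists_div hπ bL hdiv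
  have hfX : ∀ l, f l ∈ LinearMap.ker (dl τ) := fun l =>
    pure_ker bL hπ.p0 _ (by rw [hf]; exact hFX _)
  refine ⟨f, ?_, fun x => ⟨hfX x, ?_⟩⟩
  · refine LinearMap.ext fun l => ?_
    have h1 : τ (f l) = f l := by
      have := hfX l
      rwa [LinearMap.mem_ker, dl, LinearMap.sub_apply, Module.End.one_apply, sub_eq_zero] at this
    have h2 : f (τ l) = f l := smul_p_injective bL hπ.p0 (by
      rw [hf, hf, Module.End.mul_apply, Module.End.mul_apply]
      congr 1
      have := LinearMap.congr_fun (nu_mul_dl (p := p) τ hτ) l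
      rwa [Module.End.mul_apply, dl, LinearMap.sub_apply, map_sub, Module.End.one_apply,
        LinearMap.zero_apply, sub_eq_zero] at this)
    rw [Module.End.mul_apply, Module.End.mul_apply, h1, h2]
  · have hnx : nu p τ (x : L) = (p : R) • (x : L) := by
      have hx : τ (x : L) = x := by
        have this : (τ - 1) (x : L) = 0 := x.2
        rwa [LinearMap.sub_apply, Module.End.one_apply, sub_eq_zero] at this
      have hpow : ∀ i : ℕ, (τ ^ i) (x : L) = x := fun i => by
        induction i with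
        | zero => simp
        | succ i ih => rw [pow_succ, Module.End.mul_apply, hx, ih]
      rw [nu, LinearMap.sum_apply, Finset.sum_congr rfl fun i _ => hpow i, Finset.sum_const,
        Finset.card_range, Nat.cast_smul_eq_nsmul]
    have hfx : f x = F x := smul_p_injective bL hπ.p0 (by
      rw [hf, Module.End.mul_apply, hnx, map_smul])
    have : (⟨rv π bL (f x), rv_mem_redSub hπ bL (hfX x)⟩ : T) =
        s (η (U.mkQ ⟨rv π bL (x : L), rv_mem_redSub hπ bL x.2⟩)) := by
      refine Subtype.ext ?_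
      show rv π bL (f x) = _
      rw [hfx, hF]
      simp only [Φ, LinearMap.comp_apply]
      rw [hr' ⟨rv π bL (x : L), rv_mem_redSub hπ bL x.2⟩]
      rfl
    show U.mkQ _ = _
    rw [this]
    exact LinearMap.congr_fun hs _

/-- Endomorphisms of the second quotient lift. -/
theorem exists_lift_dl (hτ : τ ^ p = 1) (η : Module.End k (tate hπ bL (nu p τ) (dl τ))) :
    ∃ f : Module.End R L, Commute f τ ∧ ∀ x : LinearMap.ker (nu p τ),
      ∃ h : f x ∈ LinearMap.ker (nu p τ),
        tcl hπ bL (nu p τ) (dl τ) ⟨f x, h⟩ = η (tcl hπ bL (nu p τ) (dl τ) x) := by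
  set T := redSub hπ bL (LinearMap.ker (nu p τ))
  set U := (LinearMap.range (redEnd π bL (dl τ))).comap T.subtype
  obtain ⟨r, hr⟩ := LinearMap.exists_leftInverse_of_injective T.subtype T.ker_subtype
  obtain ⟨s, hs⟩ := U.mkQ.exists_rightInverse_of_surjective U.range_mkQ
  let Φ : (ι → k) →ₗ[k] (ι → k) := T.subtype ∘ₗ s ∘ₗ (-η) ∘ₗ U.mkQ ∘ₗ r
  obtain ⟨F, hFZ, hF⟩ := exists_lift hπ bL Φ fun v => Subtype.coe_prop _
  have hr' : ∀ a : T, r a = a := fun a => LinearMap.congr_fun hr a
  have hdiv : ∀ l, rv π bL ((F * dl τ) l) = 0 := by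
    intro l
    have hm : rv π bL (dl τ l) ∈ T :=
      rv_mem_redSub hπ bL (LinearMap.congr_fun (nu_mul_dl (p := p) τ hτ) l)
    rw [Module.End.mul_apply, hF]
    have h2 : U.mkQ ⟨_, hm⟩ = 0 := (Submodule.Quotient.mk_eq_zero U).2 ⟨_, redEnd_apply bL _ l⟩
    simp only [Φ, LinearMap.comp_apply]
    rw [hr' ⟨_, hm⟩, h2, map_zero, map_zero, map_zero]
  obtain ⟨w, hw⟩ := exists_div hπ bL hdiv
  have hνw : nu p τ * w = 0 := LinearMap.ext fun l => smul_p_injective bL hπ.p0 (by
    rw [Module.End.mul_apply, ← map_smul, hw, LinearMap.zero_apply, smul_zero]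
    exact hFZ _)
  have hwν : w * nu p τ = 0 := LinearMap.ext fun l => smul_p_injective bL hπ.p0 (by
    rw [Module.End.mul_apply, hw, ← Module.End.mul_apply, mul_assoc, dl_mul_nu τ hτ, mul_zero,
      LinearMap.zero_apply, smul_zero])
  set S : ℕ → Module.End R L := fun j => ∑ i ∈ Finset.range j, τ ^ i with hS
  set f : Module.End R L := ∑ j ∈ Finset.range p, S j * w * τ ^ (p - j) with hf
  obtain ⟨q, hq⟩ : ∃ q, p = q + 1 := ⟨p - 1, by have := hπ.hp.pos; omega⟩
  have hrev : ∑ j ∈ Finset.range p, τ ^ (p - j) = nu p τ := by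
    have h1 : ∑ j ∈ Finset.range p, τ ^ (j + 1) = nu p τ := by
      rw [hq, Finset.sum_range_succ, nu, Finset.sum_range_succ' (fun i => τ ^ i), pow_zero]
      rw [← hq, hτ]
    rw [← h1, ← Finset.sum_range_reflect (fun j => τ ^ (j + 1)) p]
    exact Finset.sum_congr rfl fun j hj => by
      rw [Finset.mem_range] at hj
      congr 1
      omega
  have hcomm : Commute f τ := by
    have e1 : f * τ = ∑ j ∈ Finset.range q, S (j + 1) * w * τ ^ (p - j) := by
      rw [hf, Finset.sum_mul, hq, Finset.sum_range_succ']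
      simp only [hS, Finset.range_zero, Finset.sum_empty, zero_mul, add_zero]
      refine Finset.sum_congr rfl fun j hj => ?_
      rw [Finset.mem_range] at hj
      rw [mul_assoc, ← pow_succ]
      congr 2
      omega
    have e2 : τ * f = (∑ j ∈ Finset.range p, S (j + 1) * w * τ ^ (p - j)) - w * nu p τ := by
      rw [hf, Finset.mul_sum, ← hrev, Finset.mul_sum, ← Finset.sum_sub_distrib]
      refine Finset.sum_congr rfl fun j _ => ?_
      have : τ * S j = S (j + 1) - 1 := by
        simp only [hS]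
        rw [Finset.sum_range_succ' (fun i => τ ^ i), pow_zero, add_sub_cancel_right,
          Finset.mul_sum]
        exact Finset.sum_congr rfl fun i _ => (pow_succ' τ i).symm
      rw [← mul_assoc, ← mul_assoc, this, sub_mul, sub_mul, one_mul]
    have e3 : ∑ j ∈ Finset.range p, S (j + 1) * w * τ ^ (p - j) =
        (∑ j ∈ Finset.range q, S (j + 1) * w * τ ^ (p - j)) + nu p τ * w * τ ^ (p - q) := by
      conv_lhs => rw [show Finset.range p = Finset.range (q + 1) by rw [hq]]
      rw [Finset.sum_range_succ]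
      congr 3
      simp only [hS, nu, hq]
    show f * τ = τ * f
    rw [e1, e2, e3, hνw, zero_mul, add_zero, hwν, sub_zero]
  refine ⟨f, hcomm, fun x => ⟨?_, ?_⟩⟩
  · rw [LinearMap.mem_ker, ← Module.End.mul_apply]
    have : Commute f (nu p τ) := Commute.sum_right _ _ _ fun i _ => hcomm.pow_right i
    rw [← this.eq, Module.End.mul_apply, LinearMap.mem_ker.1 x.2, map_zero]
  · set D' : Module.End R L := ∑ j ∈ Finset.range p, (j : Module.End R L) * τ ^ (p - j) with hD'
    have hD : dl τ * D' = nu p τ - (p : Module.End R L) * τ := by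
      have e1 : τ * D' =
          ∑ j ∈ Finset.range q, ((j + 1 : ℕ) : Module.End R L) * τ ^ (p - j) := by
        rw [hD', Finset.mul_sum, hq, Finset.sum_range_succ']
        simp only [Nat.cast_zero, zero_mul, mul_zero, add_zero]
        refine Finset.sum_congr rfl fun j hj => ?_
        rw [Finset.mem_range] at hj
        rw [← mul_assoc, (Nat.cast_commute _ τ).symm.eq, mul_assoc, ← pow_succ']
        congr 2
        omega
      have e2 : ∑ j ∈ Finset.range p, ((j + 1 : ℕ) : Module.End R L) * τ ^ (p - j) = D' + nu p τ := by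
        rw [hD', ← hrev, ← Finset.sum_add_distrib]
        exact Finset.sum_congr rfl fun j _ => by rw [Nat.cast_succ, add_mul, one_mul]
      have e3 : ∑ j ∈ Finset.range p, ((j + 1 : ℕ) : Module.End R L) * τ ^ (p - j) =
          τ * D' + (p : Module.End R L) * τ := by
        rw [e1]
        conv_lhs => rw [show Finset.range p = Finset.range (q + 1) by rw [hq]]
        rw [Finset.sum_range_succ, show q + 1 = p from hq.symm, show p - q = 1 by omega, pow_one]
      rw [dl, sub_mul, one_mul, show τ * D' = D' + nu p τ - (p : Module.End R L) * τ by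
        rw [← e2, e3, add_sub_cancel_right]]
      abel
    have hZx : nu p τ (x : L) = 0 := LinearMap.mem_ker.1 x.2
    have hwD : w (D' x) = -F (τ x) := smul_p_injective bL hπ.p0 (by
      rw [hw, Module.End.mul_apply, ← Module.End.mul_apply (dl τ) D', hD, LinearMap.sub_apply,
        map_sub, hZx, map_zero, zero_sub, Module.End.mul_apply, Module.End.natCast_apply, map_nsmul,
        smul_neg, Nat.cast_smul_eq_nsmul])
    have hmod : ∀ (j : ℕ) (l : L),
        rv π bL (S j l) - rv π bL (j • l) ∈ LinearMap.range (redEnd π bL (dl τ)) := by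
      intro j l
      induction j with
      | zero => simp [hS, rv_zero]
      | succ j ih =>
        have h1 : rv π bL ((τ ^ j) l) - rv π bL l ∈ LinearMap.range (redEnd π bL (dl τ)) := by
          refine ⟨rv π bL ((∑ i ∈ Finset.range j, τ ^ i) l), ?_⟩
          rw [redEnd_apply, ← Module.End.mul_apply, dl, mul_geom_sum, LinearMap.sub_apply, rv_sub,
            Module.End.one_apply]
        have := Submodule.add_mem _ ih h1
        simp only [hS, Finset.sum_range_succ, LinearMap.add_apply, rv_add, succ_nsmul] at this ⊢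
        convert this using 1
        abel
    have hdiff : rv π bL (f x) - rv π bL (w (D' x)) ∈ LinearMap.range (redEnd π bL (dl τ)) := by
      rw [hf, hD']
      simp only [LinearMap.sum_apply, Module.End.mul_apply, map_sum, rv_sum]
      rw [← Finset.sum_sub_distrib]
      refine Submodule.sum_mem _ fun j _ => ?_
      rw [Module.End.natCast_apply, map_nsmul]
      exact hmod j _
    have hτx : rv π bL (τ (x : L)) - rv π bL (x : L) ∈ LinearMap.range (redEnd π bL (dl τ)) :=
      ⟨rv π bL (x : L), by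
        rw [redEnd_apply, dl, LinearMap.sub_apply, Module.End.one_apply, rv_sub]⟩
    have hτm : τ (x : L) ∈ LinearMap.ker (nu p τ) := by
      have hc : nu p τ * τ = τ * nu p τ :=
        (Commute.sum_left _ _ _ fun i _ => (Commute.refl τ).pow_left i : Commute (nu p τ) τ)
      rw [LinearMap.mem_ker, ← Module.End.mul_apply, hc,
        Module.End.mul_apply, hZx, map_zero]
    have key : rv π bL (w (D' x)) = (s (η (U.mkQ ⟨_, rv_mem_redSub hπ bL x.2⟩)) : ι → k) := by
      rw [hwD, show -F (τ (x : L)) = 0 - F (τ x) from (zero_sub _).symm, rv_sub, rv_zero, hF]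
      simp only [Φ, LinearMap.comp_apply, LinearMap.neg_apply]
      rw [hr' ⟨rv π bL (τ (x : L)), rv_mem_redSub hπ bL hτm⟩,
        show U.mkQ ⟨rv π bL (τ (x : L)), rv_mem_redSub hπ bL hτm⟩ =
          U.mkQ ⟨_, rv_mem_redSub hπ bL x.2⟩ from (Submodule.Quotient.eq U).2 hτx]
      simp
    show U.mkQ _ = _
    conv_rhs => rw [show tcl hπ bL (nu p τ) (dl τ) x = U.mkQ ⟨_, rv_mem_redSub hπ bL x.2⟩ from rfl,
      ← LinearMap.id_apply (R := k) (η (U.mkQ ⟨_, rv_mem_redSub hπ bL x.2⟩)), ← hs,
      LinearMap.comp_apply]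
    refine (Submodule.Quotient.eq U).2 ?_
    show _ - (s (η (U.mkQ ⟨_, rv_mem_redSub hπ bL x.2⟩)) : ι → k) ∈
      LinearMap.range (redEnd π bL (dl τ))
    rw [← key]
    exact hdiff

omit hπ in
/-- A relative trace lands in the image of `ν`. -/
theorem trace_nu (hτ : τ ^ p = 1) (h : Module.End R L) {x : L} (hx : x ∈ LinearMap.ker (dl τ)) :
    (∑ i ∈ Finset.range p, τ ^ i * h * τ ^ (p - i)) x = nu p τ (h x) := by
  have hx' : τ x = x := by
    rwa [LinearMap.mem_ker, dl, LinearMap.sub_apply, Module.End.one_apply, sub_eq_zero] at hx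
  have hpow : ∀ i : ℕ, (τ ^ i) x = x := fun i => by
    induction i with
    | zero => simp
    | succ i ih => rw [pow_succ, Module.End.mul_apply, hx', ih]
  rw [nu, LinearMap.sum_apply, LinearMap.sum_apply]
  exact Finset.sum_congr rfl fun i _ => by rw [Module.End.mul_apply, Module.End.mul_apply, hpow]

omit hπ in
/-- A relative trace lands in the image of `τ − 1` on the kernel of `ν`. -/
theorem trace_dl (hp : 0 < p) (hτ : τ ^ p = 1) (h : Module.End R L) {x : L}
    (hx : x ∈ LinearMap.ker (nu p τ)) :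
    (∑ i ∈ Finset.range p, τ ^ i * h * τ ^ (p - i)) x ∈ LinearMap.range (dl τ) := by
  have h0 : (∑ i ∈ Finset.range p, h * τ ^ (p - i)) x = 0 := by
    have hrev : ∑ j ∈ Finset.range p, τ ^ (p - j) = nu p τ := by
      obtain ⟨q, hq⟩ : ∃ q, p = q + 1 := ⟨p - 1, by omega⟩
      have h1 : ∑ j ∈ Finset.range p, τ ^ (j + 1) = nu p τ := by
        rw [hq, Finset.sum_range_succ, nu, Finset.sum_range_succ' (fun i => τ ^ i), pow_zero]
        rw [← hq, hτ]
      rw [← h1, ← Finset.sum_range_reflect (fun j => τ ^ (j + 1)) p]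
      exact Finset.sum_congr rfl fun j hj => by
        rw [Finset.mem_range] at hj
        congr 1
        omega
    rw [← Finset.mul_sum, hrev, Module.End.mul_apply, LinearMap.mem_ker.1 hx, map_zero]
  rw [← sub_zero ((∑ i ∈ Finset.range p, τ ^ i * h * τ ^ (p - i)) x), ← h0, ← LinearMap.sub_apply,
    ← Finset.sum_sub_distrib, LinearMap.sum_apply]
  refine Submodule.sum_mem _ fun i _ => ⟨(∑ j ∈ Finset.range i, τ ^ j) (h ((τ ^ (p - i)) x)), ?_⟩
  rw [← Module.End.mul_apply (dl τ), dl, mul_geom_sum]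
  simp [Module.End.mul_apply]

omit hπ in
/-- The trace of `ν` is `p` times the rank of the fixed points. -/
theorem trace_nu_eq [Module.Finite R L] [Module.Free R L] (hτ : τ ^ p = 1) :
    LinearMap.trace R L (nu p τ) = (p : R) * (finrank R (LinearMap.ker (dl τ)) : R) ∧
    LinearMap.trace R L ((p : Module.End R L) - nu p τ) =
      (p : R) * (finrank R (LinearMap.ker (nu p τ)) : R) := by
  have key : ∀ (α β : Module.End R L), α * β = 0 → (∀ x ∈ LinearMap.ker α, β x = (p : R) • x) →
      LinearMap.trace R L β = (p : R) * (finrank R (LinearMap.ker α) : R) := by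
    intro α β hab hfix
    have h1 : (LinearMap.ker α).subtype.comp (β.codRestrict (LinearMap.ker α)
        (fun l => LinearMap.congr_fun hab l)) = β := LinearMap.ext fun l => rfl
    conv_lhs => rw [← h1, LinearMap.trace_comp_comm']
    have h2 : (β.codRestrict (LinearMap.ker α) (fun l => LinearMap.congr_fun hab l)).comp
        (LinearMap.ker α).subtype = (p : R) • LinearMap.id :=
      LinearMap.ext fun x => Subtype.ext (hfix x x.2)
    rw [h2, map_smul, LinearMap.trace_id, smul_eq_mul]
  refine ⟨key _ _ (dl_mul_nu τ hτ) fun x hx => ?_, key _ _ ?_ fun x hx => ?_⟩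
  · have hx' : τ x = x := by
      rwa [LinearMap.mem_ker, dl, LinearMap.sub_apply, Module.End.one_apply, sub_eq_zero] at hx
    have hpow : ∀ i : ℕ, (τ ^ i) x = x := fun i => by
      induction i with
      | zero => simp
      | succ i ih => rw [pow_succ, Module.End.mul_apply, hx', ih]
    rw [nu, LinearMap.sum_apply, Finset.sum_congr rfl fun i _ => hpow i, Finset.sum_const,
      Finset.card_range, Nat.cast_smul_eq_nsmul]
  · rw [mul_sub, nu_mul_nu τ hτ, (Nat.cast_commute _ _).eq, sub_self]
  · rw [LinearMap.sub_apply, LinearMap.mem_ker.1 hx, sub_zero, Module.End.natCast_apply,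
      Nat.cast_smul_eq_nsmul]

end Cfsg.Agent.DefOne
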