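/-
Endomorphisms with many eigenvalues of a module for a group with a cyclic top over an isotypic
base.
-/
import Cfsg.Agent.Lib.DefOne.LinAlg

set_option linter.unusedSectionVars false
set_option linter.style.haveILetI false

namespace Cfsg.Agent.DefOne

open Module LinearMap

variable {k : Type*} [Field k] [IsAlgClosed k] {A : Type*} [AddCommGroup A] [Module k A]
  [FiniteDimensional k A] {Q : Type*} [Group Q] [Fintype Q] {V : Type*} [Group V] [Fintype V]

theorem finrank_minStab_le (ρ : Representation k Q A) (ι : V →* Q) (g : Q)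
    (hnorm : ∀ v, ∃ v', g⁻¹ * ι v * g = ι v') (hnorm' : ∀ v, ∃ v', g * ι v * g⁻¹ = ι v')
    (hgen : Subgroup.closure (Set.range ι ∪ {g}) = ⊤) (hV : (Nat.card V : k) ≠ 0)
    (hsc : ∀ f : V → k, (∀ a b : V, f (b * a * b⁻¹) = f a) →
      ∃ c : k, ∀ x : A, ∑ v : V, f v • ρ (ι v) x = c • x)
    {b : ℕ} (hb : finrank k (Submodule.span k (Set.range fun v => ρ (ι v))) ≤ b ^ 2)
    {S : Submodule k A} (hS : MinStab ρ S) : finrank k S ≤ b := by
  classical
  set ρV : Representation k V A := ρ.comp ι with hρV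
  obtain ⟨S1, hS1S, hS1⟩ := exists_minStab ρV (S := S) (fun v a ha => hS.2.1 (ι v) a ha) hS.1
  obtain ⟨-, hiso, hdim⟩ := minStab_facts hV ρV hsc hS1
  have hS1b : finrank k S1 ≤ b := Nat.pow_le_pow_iff_left two_ne_zero |>.1 (hdim.trans hb)
  let gS1 : Submodule k A := S1.map (ρ g)
  have hinv : ∀ q a, ρ q⁻¹ (ρ q a) = a := fun q a => by
    rw [← Module.End.mul_apply, ← map_mul, inv_mul_cancel, map_one, Module.End.one_apply]
  have hinv' : ∀ q a, ρ q (ρ q⁻¹ a) = a := fun q a => by
    rw [← Module.End.mul_apply, ← map_mul, mul_inv_cancel, map_one, Module.End.one_apply]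
  have hginj : Function.Injective (ρ g) := Function.LeftInverse.injective (hinv g)
  have hgS1 : MinStab ρV gS1 := by
    refine ⟨fun h => hS1.1 (Submodule.map_injective_of_injective hginj
      (h.trans (Submodule.map_bot _).symm)), ?_, fun T hT hTs hT0 => ?_⟩
    · rintro v _ ⟨a, ha, rfl⟩
      obtain ⟨v', hv'⟩ := hnorm v
      refine ⟨ρV v' a, hS1.2.1 v' a ha, ?_⟩
      show ρ g (ρ (ι v') a) = ρ (ι v) (ρ g a)
      rw [← Module.End.mul_apply, ← Module.End.mul_apply, ← map_mul, ← map_mul, ← hv']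
      congr 2
      group
    · have hle : T.map (ρ g⁻¹) ≤ S1 := by
        rintro _ ⟨t, ht, rfl⟩
        obtain ⟨a, ha, rfl⟩ := hT ht
        rwa [hinv]
      have e := hS1.2.2 _ hle (by
        rintro v _ ⟨a, ha, rfl⟩
        obtain ⟨v', hv'⟩ := hnorm' v
        refine ⟨ρV v' a, hTs v' a ha, ?_⟩
        show ρ g⁻¹ (ρ (ι v') a) = ρ (ι v) (ρ g⁻¹ a)
        rw [← Module.End.mul_apply, ← Module.End.mul_apply, ← map_mul, ← map_mul, ← hv']
        congr 2
        group) fun h => hT0 (by
          rw [eq_bot_iff]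
          intro t ht
          have h1 : ρ g⁻¹ t ∈ (⊥ : Submodule k A) := h ▸ ⟨t, ht, rfl⟩
          rw [Submodule.mem_bot] at h1 ⊢
          rw [← hinv' g t, h1, map_zero])
      show T = S1.map (ρ g)
      rw [← e, ← Submodule.map_comp]
      conv_lhs => rw [← Submodule.map_id T]
      congr 1
      exact LinearMap.ext fun a => (hinv' g a).symm
  obtain ⟨e, he⟩ := hiso gS1 hgS1
  let eS : S1 ≃ₗ[k] gS1 := e.symm
  have heS : ∀ v (a : S1), (eS (subRep hS1.2.1 v a) : A) = ρ (ι v) (eS a : A) := by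
    intro v a
    have : eS (subRep hS1.2.1 v a) = subRep hgS1.2.1 v (eS a) := e.injective (by
      rw [he, LinearEquiv.apply_symm_apply, LinearEquiv.apply_symm_apply])
    rw [this]
    rfl
  have hJmem : ∀ a : S1, ρ g⁻¹ (eS a : A) ∈ S1 := fun a => by
    obtain ⟨c, hc, hce⟩ := (eS a).2
    rw [← hce, hinv]
    exact hc
  let J : S1 →ₗ[k] S1 :=
    ((ρ g⁻¹).comp (gS1.subtype.comp eS.toLinearMap)).codRestrict S1 hJmem
  have hJinj : Function.Injective J := fun a a' h => by
    have h1 : ρ g⁻¹ (eS a : A) = ρ g⁻¹ (eS a' : A) := congrArg Subtype.val h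
    exact eS.injective (Subtype.ext (Function.LeftInverse.injective (hinv' g) h1))
  have hJsurj : Function.Surjective J := LinearMap.surjective_of_injective hJinj
  have hJeq : ∀ v v', g⁻¹ * ι v * g = ι v' → ∀ a : S1,
      J (subRep hS1.2.1 v a) = subRep hS1.2.1 v' (J a) := by
    intro v v' hv a
    refine Subtype.ext ?_
    show ρ g⁻¹ (eS (subRep hS1.2.1 v a) : A) = ρ (ι v') (ρ g⁻¹ (eS a : A))
    rw [heS, ← Module.End.mul_apply, ← Module.End.mul_apply, ← map_mul, ← map_mul, ← hv]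
    congr 2
    group
  let H : Submodule k (S1 →ₗ[k] A) :=
    { carrier := {f | (∀ a, f a ∈ S) ∧ ∀ v a, f (subRep hS1.2.1 v a) = ρ (ι v) (f a)}
      add_mem' := fun {f f'} hf hf' => ⟨fun a => S.add_mem (hf.1 a) (hf'.1 a), fun v a => by
        simp [hf.2 v a, hf'.2 v a]⟩
      zero_mem' := ⟨fun a => by simp, fun v a => by simp⟩
      smul_mem' := fun r f hf => ⟨fun a => S.smul_mem r (hf.1 a), fun v a => by simp [hf.2 v a]⟩ }
  have hT : ∀ f ∈ H, (ρ g).comp (f.comp J) ∈ H := by
    intro f hf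
    refine ⟨fun a => hS.2.1 g _ (hf.1 _), fun v a => ?_⟩
    obtain ⟨v', hv'⟩ := hnorm v
    show ρ g (f (J (subRep hS1.2.1 v a))) = ρ (ι v) (ρ g (f (J a)))
    rw [hJeq v v' hv', hf.2, ← Module.End.mul_apply, ← Module.End.mul_apply, ← map_mul, ← map_mul,
      ← hv']
    congr 2
    group
  let T : Module.End k H :=
    { toFun := fun f => ⟨(ρ g).comp ((f : S1 →ₗ[k] A).comp J), hT f f.2⟩
      map_add' := fun f f' => Subtype.ext (LinearMap.ext fun a => by simp)
      map_smul' := fun r f => Subtype.ext (LinearMap.ext fun a => by simp) }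
  haveI : Nontrivial H := by
    refine ⟨⟨S1.subtype, fun a => hS1S a.2, fun v a => rfl⟩, 0, fun h => hS1.1 ?_⟩
    rw [eq_bot_iff]
    intro a ha
    have := LinearMap.congr_fun (congrArg Subtype.val h) ⟨a, ha⟩
    exact (Submodule.mem_bot k).2 this
  obtain ⟨μ, hμ⟩ := Module.End.exists_eigenvalue T
  obtain ⟨⟨f, hf⟩, hfμ⟩ := hμ.exists_hasEigenvector
  have hfne : f ≠ 0 := fun h => hfμ.2 (Subtype.ext h)
  have happ : ∀ a, ρ g (f (J a)) = μ • f a := fun a =>
    LinearMap.congr_fun (congrArg Subtype.val hfμ.apply_eq_smul) a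
  set I := LinearMap.range f with hI
  have hstab : Stab ρ I := by
    intro q
    have hq : q ∈ Subgroup.closure (Set.range ι ∪ {g}) := hgen ▸ Subgroup.mem_top q
    induction hq using Subgroup.closure_induction with
    | mem x hx =>
      rcases hx with ⟨v, rfl⟩ | hx
      · rintro _ ⟨a, rfl⟩
        exact ⟨subRep hS1.2.1 v a, hf.2 v a⟩
      · rw [Set.mem_singleton_iff.1 hx]
        rintro _ ⟨a, rfl⟩
        obtain ⟨a', rfl⟩ := hJsurj a
        exact ⟨μ • a', by rw [map_smul, happ]⟩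
    | one => intro a ha; rwa [map_one, Module.End.one_apply]
    | mul x y _ _ hx hy =>
      intro a ha
      rw [map_mul, Module.End.mul_apply]
      exact hx _ (hy a ha)
    | inv x _ hx =>
      intro a ha
      have hbij : Function.Surjective ((ρ x).restrict hx) :=
        LinearMap.surjective_of_injective fun c c' h => Subtype.ext
          (Function.LeftInverse.injective (hinv x) (congrArg Subtype.val h))
      obtain ⟨c, hc⟩ := hbij ⟨a, ha⟩
      have hc' : ρ x (c : A) = a := congrArg Subtype.val hc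
      rw [← hc', hinv]
      exact c.2
  have hIS : I = S := hS.2.2 I (by rintro _ ⟨a, rfl⟩; exact hf.1 a) hstab
    fun h => hfne (LinearMap.range_eq_bot.1 h)
  rw [← hIS]
  exact (LinearMap.finrank_range_le f).trans hS1b

theorem exists_endo_eigen (ρ : Representation k Q A) (hQ : (Nat.card Q : k) ≠ 0) {b : ℕ}
    (hmin : ∀ S, MinStab ρ S → finrank k S ≤ b) :
    ∃ η : Module.End k A, (∀ q, η * ρ q = ρ q * η) ∧
      ∃ cs : Finset k, (∀ c ∈ cs, ∃ a ≠ (0 : A), η a = c • a) ∧ finrank k A ≤ cs.card * b := by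
  classical
  suffices h : ∀ n, ∀ S : Submodule k A, finrank k S = n → Stab ρ S →
      ∃ η : Module.End k A, (∀ q, η * ρ q = ρ q * η) ∧ (∀ a, η a ∈ S) ∧
        ∃ cs : Finset k, (0 : k) ∉ cs ∧ (∀ c ∈ cs, ∃ a ≠ (0 : A), η a = c • a) ∧
          finrank k S ≤ cs.card * b by
    obtain ⟨η, h1, -, cs, -, h2, h3⟩ := h _ ⊤ rfl fun _ _ _ => Submodule.mem_top
    exact ⟨η, h1, cs, h2, by rwa [finrank_top] at h3⟩
  intro n
  induction n using Nat.strong_induction_on with
  | _ n ih =>
  intro S hn hS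
  rcases eq_or_ne S ⊥ with rfl | h0
  · exact ⟨0, fun q => by simp, fun a => by simp, ∅, by simp, by simp, by simp⟩
  obtain ⟨S1, hS1S, hS1⟩ := exists_minStab ρ hS h0
  obtain ⟨π0, hπ0⟩ := LinearMap.exists_leftInverse_of_injective S1.subtype S1.ker_subtype
  let π : Module.End k A := S1.subtype.comp π0
  have hπS1 : ∀ a ∈ S1, π a = a := fun a ha => by
    have := LinearMap.congr_fun hπ0 ⟨a, ha⟩
    exact congrArg Subtype.val this
  let P : Module.End k A := (Nat.card Q : k)⁻¹ • ∑ q : Q, ρ q * π * ρ q⁻¹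
  have hinv : ∀ q a, ρ q (ρ q⁻¹ a) = a := fun q a => by
    rw [← Module.End.mul_apply, ← map_mul, mul_inv_cancel, map_one, Module.End.one_apply]
  have hPmem : ∀ a, P a ∈ S1 := fun a => by
    simp only [P, LinearMap.smul_apply, LinearMap.sum_apply, Module.End.mul_apply]
    exact S1.smul_mem _ (S1.sum_mem fun q _ => hS1.2.1 q _ (π0 _).2)
  have hPS1 : ∀ a ∈ S1, P a = a := fun a ha => by
    simp only [P, LinearMap.smul_apply, LinearMap.sum_apply, Module.End.mul_apply]
    rw [Finset.sum_congr rfl fun q _ => by rw [hπS1 _ (hS1.2.1 q⁻¹ a ha), hinv],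
      Finset.sum_const, Finset.card_univ, ← Nat.card_eq_fintype_card, ← Nat.cast_smul_eq_nsmul k,
      smul_smul, inv_mul_cancel₀ hQ, one_smul]
  have hPc : ∀ q, P * ρ q = ρ q * P := fun q => by
    simp only [P, smul_mul_assoc, mul_smul_comm, Finset.sum_mul, Finset.mul_sum]
    congr 1
    refine Fintype.sum_equiv (Equiv.mulLeft q⁻¹) _ _ fun x => ?_
    simp only [Equiv.coe_mulLeft, ← mul_assoc, ← map_mul, mul_inv_rev, inv_inv,
      mul_inv_cancel_left]
    simp only [mul_assoc, ← map_mul, mul_inv_cancel_left]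
  clear_value P
  set S' := S ⊓ LinearMap.ker P with hS'
  have hS'st : Stab ρ S' := fun q a ha => ⟨hS q a ha.1, by
    have h : P a = 0 := ha.2
    show P (ρ q a) = 0
    rw [← Module.End.mul_apply, hPc, Module.End.mul_apply, h, map_zero]⟩
  have hlt : finrank k S' < n := by
    rw [← hn]
    refine Submodule.finrank_lt_finrank_of_lt (lt_of_le_of_ne inf_le_left fun h => hS1.1 ?_)
    rw [eq_bot_iff]
    intro a ha
    have h1 : a ∈ S' := by rw [h]; exact hS1S ha
    rw [Submodule.mem_bot, ← hPS1 a ha]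
    exact h1.2
  have hsum : finrank k S ≤ finrank k S' + finrank k S1 := by
    rw [finrank_map_add_ker P S, add_comm]
    refine Nat.add_le_add ?_ (Submodule.finrank_mono ?_)
    · exact LinearMap.finrank_le_finrank_of_injective
        (f := ((Submodule.subtype S).comp (LinearMap.ker (P.domRestrict S)).subtype).codRestrict S'
          fun x => ⟨x.1.2, x.2⟩) fun a a' h => by
        have h1 : ((a : S) : A) = ((a' : S) : A) := congrArg (fun z : S' => (z : A)) h
        exact Subtype.ext (Subtype.ext h1)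
    · rintro _ ⟨a, -, rfl⟩
      exact hPmem a
  obtain ⟨η, hηc, hηS, cs, h0cs, hcs, hcard⟩ := ih _ hlt S' rfl hS'st
  obtain ⟨c, hc⟩ := Infinite.exists_notMem_finset (insert 0 cs)
  rw [Finset.mem_insert, not_or] at hc
  refine ⟨η * (1 - P) + c • P, fun q => ?_, fun a => ?_, insert c cs, ?_, ?_, ?_⟩
  · rw [add_mul, mul_add, mul_assoc, sub_mul, one_mul, hPc, smul_mul_assoc, hPc, mul_smul_comm,
      ← mul_assoc (ρ q), ← hηc, mul_assoc η (ρ q), mul_sub (ρ q), mul_one, mul_sub η]
  · exact S.add_mem (hηS _).1 (S.smul_mem c (hS1S (hPmem a)))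
  · simp [Finset.mem_insert, h0cs, Ne.symm hc.1]
  · intro d hd
    rcases Finset.mem_insert.1 hd with rfl | hd
    · obtain ⟨a, ha, ha0⟩ := Submodule.exists_mem_ne_zero_of_ne_bot hS1.1
      refine ⟨a, ha0, ?_⟩
      simp [Module.End.mul_apply, hPS1 a ha]
    · obtain ⟨a, ha0, ha⟩ := hcs d hd
      have hd0 : d ≠ 0 := fun h => h0cs (h ▸ hd)
      have hmem : a ∈ S' := by
        have := S'.smul_mem d⁻¹ (hηS a)
        rwa [ha, smul_smul, inv_mul_cancel₀ hd0, one_smul] at this
      refine ⟨a, ha0, ?_⟩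
      have hP0 : P a = 0 := hmem.2
      simp [Module.End.mul_apply, hP0, ha]
  · rw [Finset.card_insert_of_notMem hc.2, add_mul, one_mul]
    have := hmin S1 hS1
    omega

end Cfsg.Agent.DefOne
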