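/-
The bound on the decomposition numbers summed over a Galois orbit: the stable endomorphisms of the
local lattice all come from the group algebra.
-/
import Cfsg.Agent.Lib.DefOne.Order
import Cfsg.Agent.Lib.DefOne.Lattice
import Cfsg.Agent.Lib.DefOne.RepTop
import Cfsg.Agent.Lib.Char.Degree
import Mathlib.GroupTheory.SpecificGroups.Cyclic
import Mathlib.RingTheory.IntegralDomain

set_option linter.unusedSectionVars false
set_option linter.style.haveILetI false

namespace Cfsg.Agent.DefOne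

open Cfsg Cfsg.Agent.Char Cfsg.Agent.Blocks Cfsg.Agent.CCSylow MonoidAlgebra
open scoped ComplexConjugate

universe u

/-- Free orbits of a permutation of prime order. -/
theorem exists_orbit_reps {α : Type*} [DecidableEq α] {p : ℕ} (hp : p.Prime) (f : α → α)
    (hf : ∀ a, f^[p] a = a) (S : Finset α) (hS : ∀ a ∈ S, f a ∈ S) (hfree : ∀ a ∈ S, f a ≠ a) :
    ∃ O ⊆ S, ∀ {A : Type u} [AddCommMonoid A] (F : α → A),
      ∑ a ∈ S, F a = ∑ o ∈ O, ∑ i ∈ Finset.range p, F (f^[i] o) := by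
  induction S using Finset.strongInduction with
  | _ S ih =>
  rcases S.eq_empty_or_nonempty with rfl | ⟨a, ha⟩
  · exact ⟨∅, subset_rfl, fun F => by simp⟩
  have hmem : ∀ i, f^[i] a ∈ S := fun i => by
    induction i with
    | zero => exact ha
    | succ i ih => rw [Function.iterate_succ_apply']; exact hS _ ih
  haveI := Fact.mk hp
  have hper : Function.minimalPeriod f a = p :=
    Function.minimalPeriod_eq_prime (hf a) (fun h => hfree a ha h)
  set C := (Finset.range p).image fun i => f^[i] a with hC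
  have hinj : Set.InjOn (fun i => f^[i] a) (Finset.range p : Set ℕ) := by
    intro i hi j hj h
    refine Function.iterate_injOn_Iio_minimalPeriod (f := f) (x := a) ?_ ?_ h <;>
      rw [Set.mem_Iio, hper]
    · exact Finset.mem_range.1 hi
    · exact Finset.mem_range.1 hj
  have hCS : C ⊆ S := fun x hx => by
    obtain ⟨i, -, rfl⟩ := Finset.mem_image.1 hx
    exact hmem i
  have haC : a ∈ C := Finset.mem_image.2 ⟨0, Finset.mem_range.2 hp.pos, rfl⟩
  have hCst : ∀ x, f x ∈ C → x ∈ C := by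
    intro x hx
    obtain ⟨i, hi, he⟩ := Finset.mem_image.1 hx
    have e2 : x = f^[i + (p - 1)] a := by
      have h1 : f^[p - 1] (f x) = x := by
        rw [← Function.iterate_succ_apply, Nat.succ_eq_add_one, Nat.sub_add_cancel hp.pos, hf]
      rw [add_comm, Function.iterate_add_apply, he, h1]
    refine Finset.mem_image.2 ⟨(i + (p - 1)) % p, Finset.mem_range.2 (Nat.mod_lt _ hp.pos), ?_⟩
    rw [e2]
    conv_rhs => rw [← Nat.mod_add_div (i + (p - 1)) p, Function.iterate_add_apply,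
      Function.iterate_mul, Function.iterate_fixed (hf a)]
  obtain ⟨O, hO, hsum⟩ := ih (S \ C) (Finset.sdiff_ssubset hCS ⟨a, haC⟩)
    (fun x hx => by
      rw [Finset.mem_sdiff] at hx ⊢
      exact ⟨hS x hx.1, fun h => hx.2 (hCst x h)⟩)
    fun x hx => hfree x (Finset.mem_sdiff.1 hx).1
  have haO : a ∉ O := fun h => (Finset.mem_sdiff.1 (hO h)).2 haC
  refine ⟨insert a O, Finset.insert_subset ha (hO.trans Finset.sdiff_subset), fun {A} _ F => ?_⟩
  rw [Finset.sum_insert haO, ← hsum F, ← Finset.sum_image hinj, add_comm]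
  exact (Finset.sum_sdiff hCS).symm

variable {G : Type u} [Group G] [Fintype G] {p : ℕ} {M : Ideal AlgInt} [M.IsPrime]
  {P V N : Subgroup G} {e : ℕ} (K : Conf p P V N e)
  [Fintype P] [Fintype V] [Fintype N] [Fintype (P →* ℂˣ)]

theorem residue_rR (hM : IsPModular p M) : Residue p (rRes p M) where
  hp := hM.1
  p0 := natCast_p_ne_zero hM
  surj := rRes_surjective hM
  ker x := ⟨exists_mul_prime hM, by
    rintro ⟨y, rfl⟩
    rw [map_mul, rRes_natCast_p hM, zero_mul]⟩

theorem natCast_resField_ne_zero (hM : IsPModular p M) {n : ℕ} (hn : ¬ p ∣ n) :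
    (n : resField M) ≠ 0 := fun h => by
  haveI := resField_charP hM
  exact hn ((CharP.cast_eq_zero_iff _ p n).1 h)

/-- The idempotent of the local lattice. -/
noncomputable def eLoc (b : IrrCharacter V) (Y : Finset (IrrCharacter G)) : MonoidAlgebra ℂ G :=
  subIdem V b * blockElt (↑Y : Set (IrrCharacter G))

theorem eLoc_idem (b : IrrCharacter V) (Y : Finset (IrrCharacter G)) :
    eLoc b Y * eLoc b Y = eLoc b Y := by
  rw [eLoc, mul_assoc, ← mul_assoc (blockElt (↑Y : Set (IrrCharacter G))),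
    IsClassElt.comm (isClassElt_blockElt _) (subIdem V b), mul_assoc, ← mul_assoc (subIdem V b),
    subIdem_idem, blockElt_idem]

theorem subIdem_mul_eLoc (b : IrrCharacter V) (Y : Finset (IrrCharacter G)) :
    subIdem V b * eLoc b Y = eLoc b Y := by
  rw [eLoc, ← mul_assoc, subIdem_idem]

theorem subIdem_mem_RG (hM : IsPModular p M) (hV : ¬ p ∣ Nat.card V) (b : IrrCharacter V) :
    subIdem V b ∈ RG p M G := by
  rw [subIdem_eq_sum]
  refine Submodule.sum_mem _ fun h _ => ?_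
  have hc : (Nat.card V : ℂ)⁻¹ * ((b : V → ℂ) 1 * conj ((b : V → ℂ) h)) ∈ rR p M := by
    rw [← IsCharacter.inv (IsIrrCharacter.isCharacter b.2)]
    have hfix : ∀ v : V, (b : V → ℂ) v ∈ rR p M := fun v => by
      have hloc : MemLocalRing M ((b : V → ℂ) v) :=
        mem_locRing.1 (mem_locRing_of_isIntegral (irr_isIntegral b v))
      exact mem_rR.2 ⟨mem_EField_of_fixed hM.1.ne_zero (isAlgebraic_of_memLocalRing hloc)
        fun σ hσ => irr_fixed hV hσ b v, hloc⟩
    have hinv : (Nat.card V : ℂ)⁻¹ ∈ rR p M :=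
      mem_rR.2 ⟨inv_mem (natCast_mem _ _), inv_natCast_memLocalRing hM hV⟩
    exact mul_mem hinv (mul_mem (hfix 1) (hfix _))
  have := (RG p M G).smul_mem ⟨_, hc⟩ (of_mem_RG (h : G))
  rwa [rsmul_def] at this

theorem card_smul_blockElt_mem (hM : IsPModular p M) (Y : Finset (IrrCharacter G))
    (hst : ∀ σ, FixesP p σ → ∀ ψ ∈ Y, galT σ ψ ∈ Y) :
    (Nat.card G : ℂ) • blockElt (↑Y : Set (IrrCharacter G)) ∈ RG p M G := by
  classical
  refine mem_RG fun g => ?_
  have he : ((Nat.card G : ℂ) • blockElt (↑Y : Set (IrrCharacter G))).coeff g =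
      ∑ ψ ∈ Y, (ψ : G → ℂ) 1 * (ψ : G → ℂ) g⁻¹ := by
    rw [MonoidAlgebra.coeff_smul, Finsupp.smul_apply, coeff_blockElt, blockCoeff_eq_sum,
      smul_eq_mul, mul_inv_cancel_left₀ (Nat.cast_ne_zero.2 Nat.card_pos.ne')]
    exact Finset.sum_congr (by ext; simp) fun ψ _ => by rw [irr_inv]
  rw [he]
  have hloc : MemLocalRing M (∑ ψ ∈ Y, (ψ : G → ℂ) 1 * (ψ : G → ℂ) g⁻¹) :=
    mem_locRing.1 (sum_mem fun ψ _ => mul_mem (mem_locRing_of_isIntegral (irr_isIntegral ψ 1))
      (mem_locRing_of_isIntegral (irr_isIntegral ψ g⁻¹)))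
  refine mem_rR.2 ⟨mem_EField_of_fixed hM.1.ne_zero (isAlgebraic_of_memLocalRing hloc)
    fun σ hσ => ?_, hloc⟩
  rw [map_sum]
  refine Finset.sum_nbij' (galT σ) (galT σ.symm) (fun ψ h => hst σ hσ ψ h)
    (fun ψ h => hst _ (FixesP.symm hσ) ψ h) (fun ψ _ => galT_symm σ ψ)
    (fun ψ _ => by simpa using galT_symm σ.symm ψ) fun ψ _ => ?_
  rw [map_mul, galT_apply, galT_apply]

include K

theorem conj_subIdem (b : IrrCharacter V) {g : G} (hg : g ∈ N) :
    of ℂ G g * subIdem V b = subIdem V (bT K.D (⟨g, hg⟩ : N)⁻¹ b) * of ℂ G g := by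
  rw [subIdem_eq_sum, subIdem_eq_sum, Finset.mul_sum, Finset.sum_mul]
  refine Fintype.sum_equiv (CoprimeConst.actConj V N K.D.hNV ⟨g, hg⟩).toEquiv _ _ fun v => ?_
  have e1 : ((bT K.D (⟨g, hg⟩ : N)⁻¹ b : IrrCharacter V) : V → ℂ) 1 = (b : V → ℂ) 1 :=
    congrArg (b : V → ℂ) (Subtype.ext (by show g⁻¹ * (1 : G) * g⁻¹⁻¹ = 1; group))
  have e2 : ((bT K.D (⟨g, hg⟩ : N)⁻¹ b : IrrCharacter V) : V → ℂ)
      ((CoprimeConst.actConj V N K.D.hNV ⟨g, hg⟩).toEquiv v) = (b : V → ℂ) v :=
    congrArg (b : V → ℂ) (Subtype.ext (by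
      show g⁻¹ * (g * (v : G) * g⁻¹) * g⁻¹⁻¹ = v; group))
  rw [e1, e2, smul_mul_assoc, mul_smul_comm, ← map_mul, ← map_mul]
  congr 2
  show g * (v : G) = g * (v : G) * g⁻¹ * g
  group

theorem subIdem_comm_of_stab (b : IrrCharacter V) {g : G} (hg : g ∈ stabB K b) :
    of ℂ G g * subIdem V b = subIdem V b * of ℂ G g := by
  obtain ⟨hgN, -⟩ := id hg
  obtain ⟨_, h2⟩ := inv_mem hg
  rw [conj_subIdem K b hgN]
  congr 2

theorem subIdem_mul_of_not_stab (b : IrrCharacter V) {g : G} (hgN : g ∈ N) (hg : g ∉ stabB K b) :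
    subIdem V b * of ℂ G g * subIdem V b = 0 := by
  rw [mul_assoc, conj_subIdem K b hgN, ← mul_assoc, subIdem_mul_of_ne V ?_, zero_mul]
  intro h
  have h2 : g⁻¹ ∈ stabB K b := ⟨inv_mem hgN, h.symm⟩
  exact hg (by simpa using inv_mem h2)

theorem of_mul_eLoc (b : IrrCharacter V) (Y : Finset (IrrCharacter G)) {g : G}
    (hg : g ∈ stabB K b) : of ℂ G g * eLoc b Y = eLoc b Y * of ℂ G g := by
  rw [eLoc, ← mul_assoc, subIdem_comm_of_stab K b hg, mul_assoc, mul_assoc,
    IsClassElt.comm (isClassElt_blockElt _)]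

theorem mem_stabB_of_P (b : IrrCharacter V) {y : G} (hy : y ∈ P) : y ∈ stabB K b :=
  centralizer_le_stabB K b ((K.hC y).2 ⟨y, hy, 1, one_mem V, mul_one y⟩)

theorem mem_stabB_of_V (b : IrrCharacter V) {v : G} (hv : v ∈ V) : v ∈ stabB K b :=
  centralizer_le_stabB K b ((K.hC v).2 ⟨1, one_mem P, v, hv, one_mul v⟩)

/-- The action on the local lattice. -/
noncomputable def act (p : ℕ) (M : Ideal AlgInt) [M.IsPrime] {P V N : Subgroup G} {e : ℕ}
    (K : Conf p P V N e) [Fintype P] [Fintype V] [Fintype N] [Fintype (P →* ℂˣ)]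
    (b : IrrCharacter V) (Y : Finset (IrrCharacter G)) :
    stabB K b →* Module.End (rR p M) (latE p M (eLoc b Y)) where
  toFun g := lmE p M (eLoc b Y) (of ℂ G (g : G))
    fun _ hx => mul_mem_latE (of_mem_RG _) (of_mul_eLoc K b Y g.2) hx
  map_one' := LinearMap.ext fun x => Subtype.ext (by
    rw [lmE_apply, Subgroup.coe_one, map_one, one_mul]; rfl)
  map_mul' g h := LinearMap.ext fun x => Subtype.ext (by
    simp only [Module.End.mul_apply, lmE_apply, Subgroup.coe_mul, map_mul, mul_assoc])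

theorem act_apply (b : IrrCharacter V) (Y : Finset (IrrCharacter G)) (g : stabB K b)
    (x : latE p M (eLoc b Y)) :
    (act p M K b Y g x : MonoidAlgebra ℂ G) = of ℂ G (g : G) * x := rfl

omit K in
/-- Right multiplication on a lattice. -/
noncomputable def rmE (e : MonoidAlgebra ℂ G) (u : MonoidAlgebra ℂ G) (hu : u ∈ RG p M G) :
    Module.End (rR p M) (latE p M e) :=
  (LinearMap.mulRight (rR p M) u).restrict fun _ hx => mul_mem_latE_right hu hx

omit K in
theorem rmE_apply (e : MonoidAlgebra ℂ G) (u : MonoidAlgebra ℂ G) (hu : u ∈ RG p M G)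
    (x : latE p M e) : (rmE e u hu x : MonoidAlgebra ℂ G) = (x : MonoidAlgebra ℂ G) * u := rfl

end Cfsg.Agent.DefOne
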