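/-
The Tate quotients of the local lattice as modules for the stabiliser, and the bound on their
dimension.
-/
import Cfsg.Agent.Lib.DefOne.Bound

set_option linter.unusedSectionVars false
set_option linter.style.haveILetI false

namespace Cfsg.Agent.DefOne

open Cfsg Cfsg.Agent.Char Cfsg.Agent.Blocks Cfsg.Agent.CCSylow MonoidAlgebra

universe u

section Abstract

variable {R : Type*} [CommRing R] [IsDomain R] [IsPrincipalIdealRing R]
  {L : Type*} [AddCommGroup L] [Module R L] {k : Type*} [Field k] {p : ℕ} {π : R →+* k}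
  (hπ : Residue p π) {ι : Type*} [Fintype ι] [DecidableEq ι] (bL : Module.Basis ι R L)
  {α β : Module.End R L}

include hπ

theorem tcl_add (x y : LinearMap.ker α) :
    tcl hπ bL α β (x + y) = tcl hπ bL α β x + tcl hπ bL α β y := by
  rw [tcl, tcl, tcl, ← Submodule.Quotient.mk_add]
  congr 1
  exact Subtype.ext (rv_add bL _ _)

theorem tcl_smul (c : R) (x : LinearMap.ker α) :
    tcl hπ bL α β (c • x) = π c • tcl hπ bL α β x := by
  rw [tcl, tcl, ← Submodule.Quotient.mk_smul]
  congr 1
  exact Subtype.ext (rv_smul bL _ _)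

/-- Compatibility of an endomorphism with the pair `α`, `β`. -/
def Compat (α β f : Module.End R L) : Prop :=
  (∀ x, α x = 0 → α (f x) = 0) ∧ ∀ x, f (β x) ∈ LinearMap.range β

/-- The induced endomorphism of the quotient. -/
noncomputable def indE (f : Module.End R L) (h : Compat α β f) :
    Module.End k (tate hπ bL α β) :=
  Submodule.mapQ _ _ ((redEnd π bL f).restrict (p := redSub hπ bL (LinearMap.ker α))
      (q := redSub hπ bL (LinearMap.ker α)) (by
    rintro _ ⟨x, hx, rfl⟩
    exact ⟨f x, h.1 x hx, (redEnd_apply bL f x).symm⟩)) (by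
    rintro v ⟨w, hw⟩
    obtain ⟨x, rfl⟩ := rv_surjective hπ bL w
    obtain ⟨z, hz⟩ := h.2 x
    refine ⟨rv π bL z, ?_⟩
    show redEnd π bL β (rv π bL z) = redEnd π bL f (v : ι → k)
    have hw' : redEnd π bL β (rv π bL x) = (v : ι → k) := hw
    rw [← hw', redEnd_apply, redEnd_apply, redEnd_apply, hz])

theorem indE_tcl (f : Module.End R L) (h : Compat α β f) (x : LinearMap.ker α) :
    indE hπ bL f h (tcl hπ bL α β x) = tcl hπ bL α β ⟨f x, h.1 x x.2⟩ := by
  show Submodule.Quotient.mk _ = Submodule.Quotient.mk _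
  congr 1
  exact Subtype.ext (redEnd_apply bL f x)

theorem end_ext {η η' : Module.End k (tate hπ bL α β)}
    (h : ∀ x : LinearMap.ker α, η (tcl hπ bL α β x) = η' (tcl hπ bL α β x)) : η = η' := by
  refine LinearMap.ext fun a => ?_
  obtain ⟨x, rfl⟩ := tcl_surjective hπ bL α β a
  exact h x

theorem tcl_sum {J : Type*} (s : Finset J) (F : J → LinearMap.ker α) :
    tcl hπ bL α β (∑ j ∈ s, F j) = ∑ j ∈ s, tcl hπ bL α β (F j) :=
  map_sum (AddMonoidHom.mk' (tcl hπ bL α β) (tcl_add hπ bL)) F s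

end Abstract

variable {G : Type u} [Group G] [Fintype G] {p : ℕ} {M : Ideal AlgInt} [M.IsPrime]
  {P V N : Subgroup G} {e : ℕ} (K : Conf p P V N e)
  [Fintype P] [Fintype V] [Fintype N] [Fintype (P →* ℂˣ)]
  [IsPrincipalIdealRing (rR p M)] (hM : IsPModular p M)
  (b : IrrCharacter V) (Y : Finset (IrrCharacter G))
  {ι : Type*} [Fintype ι] [DecidableEq ι]
  (bL : Module.Basis ι (rR p M) (latE p M (eLoc b Y)))

include K hM

/-- What is needed of the pair `α`, `β` on the local lattice. -/
structure TatePair (y0 : stabB K b) (α β : Module.End (rR p M) (latE p M (eLoc b Y))) : Prop where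
  compat : ∀ g, Compat α β (act p M K b Y g)
  compat_right : ∀ u (hu : u ∈ RG p M G), Compat α β (rmE (eLoc b Y) u hu)
  compat_left : ∀ (a : MonoidAlgebra ℂ G)
    (h : ∀ x ∈ latE p M (eLoc b Y), a * x ∈ latE p M (eLoc b Y)),
    of ℂ G (y0 : G) * a = a * of ℂ G (y0 : G) → Compat α β (lmE p M (eLoc b Y) a h)
  fix : ∀ x, α x = 0 → rv (rRes p M) bL (act p M K b Y y0 x - x) ∈
    LinearMap.range (redEnd (rRes p M) bL β)
  lift : ∀ η : Module.End (resField M) (tate (residue_rR hM) bL α β),
    ∃ f : Module.End (rR p M) (latE p M (eLoc b Y)), Commute f (act p M K b Y y0) ∧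
      ∀ x : LinearMap.ker α, ∃ h : f x ∈ LinearMap.ker α,
        tcl (residue_rR hM) bL α β ⟨f x, h⟩ = η (tcl (residue_rR hM) bL α β x)
  kill : ∀ (h : Module.End (rR p M) (latE p M (eLoc b Y))) (x), α x = 0 →
    rv (rRes p M) bL ((∑ i ∈ Finset.range p,
      act p M K b Y y0 ^ i * h * act p M K b Y y0 ^ (p - i)) x) ∈
      LinearMap.range (redEnd (rRes p M) bL β)

variable {α β : Module.End (rR p M) (latE p M (eLoc b Y))} {y0 : stabB K b}

theorem exists_pow_y0 (hy0 : (y0 : G) ∈ P) (hy1 : (y0 : G) ≠ 1) {y : stabB K b}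
    (hy : (y : G) ∈ P) : ∃ i : ℕ, y0 ^ i = y := by
  obtain ⟨i, hi⟩ := exists_pow_eq K (y := (⟨(y0 : G), hy0⟩ : P))
    (fun h => hy1 (congrArg Subtype.val h)) ⟨(y : G), hy⟩
  exact ⟨i, Subtype.ext (by simpa using congrArg Subtype.val hi)⟩

theorem exists_tate_rep (T : TatePair K hM b Y bL y0 α β) (hy0 : (y0 : G) ∈ P)
    (hy1 : (y0 : G) ≠ 1) [(P.subgroupOf (stabB K b)).Normal] :
    ∃ ρ : Representation (resField M) (stabB K b ⧸ P.subgroupOf (stabB K b))
        (tate (residue_rR hM) bL α β),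
      ∀ g : stabB K b, ρ g = indE (residue_rR hM) bL (act p M K b Y g) (T.compat g) := by
  let φ : stabB K b →* Module.End (resField M) (tate (residue_rR hM) bL α β) :=
    { toFun := fun g => indE (residue_rR hM) bL (act p M K b Y g) (T.compat g)
      map_one' := end_ext _ bL fun x => by
        rw [indE_tcl, Module.End.one_apply]
        congr 1
        exact Subtype.ext (by simp)
      map_mul' := fun g h => end_ext _ bL fun x => by
        rw [indE_tcl, Module.End.mul_apply, indE_tcl, indE_tcl]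
        congr 1
        exact Subtype.ext (by simp) }
  have hy0' : φ y0 = 1 := end_ext _ bL fun x => by
    show indE (residue_rR hM) bL (act p M K b Y y0) (T.compat y0) _ = _
    rw [indE_tcl, Module.End.one_apply]
    exact (tcl_eq_iff _ bL α β _ _).2 (T.fix x x.2)
  have hker : P.subgroupOf (stabB K b) ≤ φ.ker := by
    intro g hg
    obtain ⟨i, rfl⟩ := exists_pow_y0 K hM b hy0 hy1 (Subgroup.mem_subgroupOf.1 hg)
    rw [MonoidHom.mem_ker, map_pow, hy0', one_pow]
  exact ⟨QuotientGroup.lift _ φ hker, fun g => rfl⟩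

omit hM in
theorem cyclic_top : ∃ g : stabB K b, ∀ x : stabB K b,
    ∃ i : ℤ, (x : G) * ((g : G) ^ i)⁻¹ ∈ Subgroup.centralizer (P : Set G) := by
  classical
  haveI := Fact.mk K.hp
  haveI : IsCyclic P := isCyclic_of_prime_card K.hP
  let φ : stabB K b →* MulAut P :=
    { toFun := fun g => CoprimeConst.actConj P N K.D.hNP ⟨(g : G), stabB_le K b g.2⟩
      map_one' := MulEquiv.ext fun y => Subtype.ext (by
        show (1 : G) * (y : G) * (1 : G)⁻¹ = y
        group)
      map_mul' := fun g h => MulEquiv.ext fun y => Subtype.ext (by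
        show ((g : G) * h) * (y : G) * ((g : G) * h)⁻¹ =
          (g : G) * ((h : G) * y * (h : G)⁻¹) * (g : G)⁻¹
        group) }
  haveI : NeZero (Nat.card P) := ⟨Nat.card_pos.ne'⟩
  haveI : Fact (Nat.card P).Prime := ⟨K.hP.symm ▸ K.hp⟩
  haveI : IsCyclic (MulAut P) :=
    isCyclic_of_surjective (IsCyclic.mulAutMulEquiv P).symm.toMonoidHom
      (IsCyclic.mulAutMulEquiv P).symm.surjective
  obtain ⟨c, hc⟩ := IsCyclic.exists_generator (α := φ.range)
  obtain ⟨g, hg⟩ := c.2
  refine ⟨g, fun x => ?_⟩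
  obtain ⟨i, hi⟩ := Subgroup.mem_zpowers_iff.1 (hc ⟨φ x, x, rfl⟩)
  have hi' : φ g ^ i = φ x := by rw [hg]; exact congrArg Subtype.val hi
  refine ⟨i, Subgroup.mem_centralizer_iff.2 fun t ht => ?_⟩
  have h1 : φ (x * (g ^ i)⁻¹) = 1 := by rw [map_mul, map_inv, map_zpow, hi', mul_inv_cancel]
  have h2 : ((x : G) * ((g : G) ^ i)⁻¹) * t * ((x : G) * ((g : G) ^ i)⁻¹)⁻¹ = t := by
    have := congrArg (fun σ : MulAut P => ((σ ⟨t, ht⟩ : P) : G)) h1
    simpa [φ, CoprimeConst.actConj] using this
  exact (mul_inv_eq_iff_eq_mul.1 h2).symm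

set_option maxHeartbeats 4000000 in
/-- Elements of the local group ring act by scalars on the quotient when they are class functions. -/
theorem class_scalar (T : TatePair K hM b Y bL y0 α β) (hy0 : (y0 : G) ∈ P)
    [(P.subgroupOf (stabB K b)).Normal]
    {ρ : Representation (resField M) (stabB K b ⧸ P.subgroupOf (stabB K b))
        (tate (residue_rR hM) bL α β)}
    (hρ : ∀ g : stabB K b, ρ g = indE (residue_rR hM) bL (act p M K b Y g) (T.compat g))
    (f : V → resField M) (hf : ∀ a c : V, f (c * a * c⁻¹) = f a) :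
    ∃ c : resField M, ∀ x : tate (residue_rR hM) bL α β,
      ∑ v : V, f v • ρ ((⟨(v : G), mem_stabB_of_V K b v.2⟩ : stabB K b)) x = c • x := by
  classical
  let ft : V → rR p M := fun v => Function.surjInv (rRes_surjective hM) (f v)
  have hft : ∀ v, rRes p M (ft v) = f v := fun v => Function.surjInv_eq (rRes_surjective hM) (f v)
  let z : MonoidAlgebra ℂ V := gaOfFun fun v => (ft v : ℂ)
  have hz : IsClassElt z := isClassElt_gaOfFun fun a c => by simp only [ft, hf]
  have hω : omega b z ∈ rR p M := by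
    have hdeg : ¬ p ∣ charDegree (b : V → ℂ) := fun h => K.hV (h.trans (CharX.irr_deg_dvd_card b))
    have hval : ∀ v : V, (b : V → ℂ) v ∈ rR p M := fun v => by
      have hloc : MemLocalRing M ((b : V → ℂ) v) :=
        mem_locRing.1 (mem_locRing_of_isIntegral (irr_isIntegral b v))
      exact mem_rR.2 ⟨mem_EField_of_fixed hM.1.ne_zero (isAlgebraic_of_memLocalRing hloc)
        fun σ hσ => irr_fixed K.hV hσ b v, hloc⟩
    rw [omega, div_eq_mul_inv, irr_one_eq_charDegree]
    exact mul_mem (sum_mem fun v _ => mul_mem (ft v).2 (hval v))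
      (mem_rR.2 ⟨inv_mem (natCast_mem _ _), inv_natCast_memLocalRing hM hdeg⟩)
  refine ⟨rRes p M ⟨omega b z, hω⟩, fun a => ?_⟩
  obtain ⟨x, rfl⟩ := tcl_surjective (residue_rR hM) bL α β a
  rw [Finset.sum_congr rfl fun v _ => show _ = tcl (residue_rR hM) bL α β
      (ft v • ⟨act p M K b Y ⟨(v : G), mem_stabB_of_V K b v.2⟩ x, (T.compat _).1 x x.2⟩) by
        rw [hρ, indE_tcl, tcl_smul, hft], ← tcl_sum, ← tcl_smul]
  congr 1
  refine Subtype.ext (Subtype.ext ?_)
  simp only [AddSubmonoidClass.coe_finset_sum, SetLike.val_smul, rsmul_def, act_apply]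
  have h1 := subEmb_mul_subIdem V b hz
  have h2 : subIdem V b * ((x : latE p M (eLoc b Y)) : MonoidAlgebra ℂ G) =
      ((x : latE p M (eLoc b Y)) : MonoidAlgebra ℂ G) := by
    obtain ⟨r, -, hr⟩ := mem_latE.1 (x : latE p M (eLoc b Y)).2
    rw [← hr, ← mul_assoc, subIdem_mul_eLoc]
  have h3 : subEmb V z * ((x : latE p M (eLoc b Y)) : MonoidAlgebra ℂ G) =
      omega b z • ((x : latE p M (eLoc b Y)) : MonoidAlgebra ℂ G) := by
    conv_lhs => rw [← h2, ← mul_assoc, h1, smul_mul_assoc, h2]
  rw [← h3, subEmb_eq_sum, Finset.sum_mul]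
  exact Finset.sum_congr rfl fun v _ => by rw [smul_mul_assoc]; rfl

set_option maxHeartbeats 4000000 in
theorem span_le_sq (T : TatePair K hM b Y bL y0 α β) (hy0 : (y0 : G) ∈ P)
    [(P.subgroupOf (stabB K b)).Normal]
    {ρ : Representation (resField M) (stabB K b ⧸ P.subgroupOf (stabB K b))
        (tate (residue_rR hM) bL α β)}
    (hρ : ∀ g : stabB K b, ρ g = indE (residue_rR hM) bL (act p M K b Y g) (T.compat g)) :
    Module.finrank (resField M) (Submodule.span (resField M)
      (Set.range fun v : V => ρ ((⟨(v : G), mem_stabB_of_V K b v.2⟩ : stabB K b)))) ≤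
      charDegree (b : V → ℂ) ^ 2 := by
  classical
  let e0 : MonoidAlgebra ℂ V := blockElt ({b} : Set (IrrCharacter V))
  have he0 : e0 * e0 = e0 := blockElt_idem _
  have hsub : ∀ x ∈ RG p M V, subEmb V x ∈ RG p M G := fun x hx => by
    rw [subEmb_eq_sum]
    exact Submodule.sum_mem _ fun v _ => by
      have := (RG p M G).smul_mem ⟨x.coeff v, coeff_mem_of_mem_RG hx v⟩ (of_mem_RG (v : G))
      rwa [rsmul_def] at this
  have he0R : e0 ∈ RG p M V := mem_RG fun v => by
    have h := coeff_mem_of_mem_RG (subIdem_mem_RG hM K.hV b) (v : G)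
    rwa [subIdem, coeff_subEmb_coe] at h
  haveI := latE_finite (p := p) (M := M) e0
  haveI := latE_free hM e0
  have hlat : ∀ x ∈ latE p M e0, x ∈ RG p M V := fun x hx => by
    obtain ⟨r, hr, rfl⟩ := mem_latE.1 hx
    exact mul_mem_RG he0R hr
  have hcommsub : ∀ x : MonoidAlgebra ℂ V, subEmb V x * eLoc b Y = eLoc b Y * subEmb V x := fun x => by
    rw [eLoc, ← mul_assoc, ← subIdem_comm, mul_assoc, mul_assoc,
      IsClassElt.comm (isClassElt_blockElt _)]
  have hy0c : ∀ x : MonoidAlgebra ℂ V, of ℂ G (y0 : G) * subEmb V x = subEmb V x * of ℂ G (y0 : G) := by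
    intro x
    rw [subEmb_eq_sum, Finset.mul_sum, Finset.sum_mul]
    exact Finset.sum_congr rfl fun v _ => by
      rw [mul_smul_comm, smul_mul_assoc, ← map_mul, ← map_mul, K.D.pv _ hy0 _ v.2]
  have hstab : ∀ (x : MonoidAlgebra ℂ V), x ∈ RG p M V → ∀ z ∈ latE p M (eLoc b Y),
      subEmb V x * z ∈ latE p M (eLoc b Y) := fun x hx z hz =>
    mul_mem_latE (hsub x hx) (hcommsub x) hz
  let op : latE p M e0 → Module.End (resField M) (tate (residue_rR hM) bL α β) := fun x =>
    indE (residue_rR hM) bL (lmE p M (eLoc b Y) (subEmb V (x : MonoidAlgebra ℂ V))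
      (hstab _ (hlat _ x.2))) (T.compat_left _ _ (hy0c _))
  have hopS : ∀ (c : rR p M) x, op (c • x) = rRes p M c • op x := fun c x =>
    end_ext _ bL fun a => by
      simp only [op, indE_tcl, LinearMap.smul_apply, ← tcl_smul]
      congr 1
      refine Subtype.ext (Subtype.ext ?_)
      simp only [SetLike.val_smul, rsmul_def, lmE_apply, map_smul, smul_mul_assoc]
  have hopA : ∀ x x', op (x + x') = op x + op x' := fun x x' =>
    end_ext _ bL fun a => by
      simp only [op, indE_tcl, LinearMap.add_apply, ← tcl_add]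
      congr 1
      refine Subtype.ext (Subtype.ext ?_)
      simp only [Submodule.coe_add, lmE_apply, map_add, add_mul]
  let bb := Module.Free.chooseBasis (rR p M) (latE p M e0)
  have hspan : Submodule.span (resField M)
      (Set.range fun v : V => ρ ((⟨(v : G), mem_stabB_of_V K b v.2⟩ : stabB K b))) ≤
      Submodule.span (resField M) (Set.range fun i => op (bb i)) := by
    refine Submodule.span_le.2 ?_
    rintro _ ⟨v, rfl⟩
    let x : latE p M e0 := ⟨e0 * of ℂ V v, mem_latE.2 ⟨_, of_mem_RG v, rfl⟩⟩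
    have hx : ρ ((⟨(v : G), mem_stabB_of_V K b v.2⟩ : stabB K b)) = op x := by
      rw [hρ]
      refine end_ext _ bL fun a => ?_
      simp only [op, indE_tcl]
      congr 1
      refine Subtype.ext (Subtype.ext ?_)
      simp only [lmE_apply, act_apply, x, map_mul]
      have h2 : subIdem V b * ((a : latE p M (eLoc b Y)) : MonoidAlgebra ℂ G) =
          ((a : latE p M (eLoc b Y)) : MonoidAlgebra ℂ G) := by
        obtain ⟨r, -, hr⟩ := mem_latE.1 (a : latE p M (eLoc b Y)).2
        rw [← hr, ← mul_assoc, subIdem_mul_eLoc]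
      have h4 : subEmb V (of ℂ V v) = of ℂ G (v : G) := by simp [subEmb]
      rw [h4, show subEmb V e0 = subIdem V b from rfl,
        ← subIdem_comm_of_stab K b (mem_stabB_of_V K b v.2), mul_assoc, h2]
    show ρ _ ∈ Submodule.span (resField M) (Set.range fun i => op (bb i))
    rw [hx, ← bb.sum_repr x]
    have hop0 : op 0 = 0 := by simpa using hopS 0 0
    have hsum : ∀ s : Finset _, op (∑ i ∈ s, bb.repr x i • bb i) =
        ∑ i ∈ s, rRes p M (bb.repr x i) • op (bb i) := fun s => by
      induction s using Finset.induction with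
      | empty => simpa using hop0
      | insert a s ha ih => rw [Finset.sum_insert ha, Finset.sum_insert ha, hopA, hopS, ih]
    rw [hsum]
    exact Submodule.sum_mem _ fun i _ => Submodule.smul_mem _ _ (Submodule.subset_span ⟨i, rfl⟩)
  refine (Submodule.finrank_mono hspan).trans ((finrank_range_le_card _).trans (le_of_eq ?_))
  rw [← Module.finrank_eq_card_basis bb]
  have h1 : ∀ z ∈ latE p M e0, (1 : MonoidAlgebra ℂ V) * z ∈ latE p M e0 := fun z hz => by
    rwa [one_mul]
  have hmem : ((1 : ℕ) : ℂ) • e0 ∈ RG p M V := by rwa [Nat.cast_one, one_smul]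
  have htr := trace_lmE hM he0 one_ne_zero hmem h1
  rw [show lmE p M e0 1 h1 = LinearMap.id from LinearMap.ext fun z => Subtype.ext (one_mul _),
    LinearMap.trace_id, one_mul] at htr
  have hval : ∀ χ : IrrCharacter V, chiExt (χ : V → ℂ) e0 =
      if χ = b then (χ : V → ℂ) 1 else 0 := fun χ => by
    have := chiExt_mul_central χ (1 : MonoidAlgebra ℂ V) (isClassElt_blockElt ({b} : Set _))
    rw [one_mul, omega_blockElt, ← map_one (of ℂ V), chiExt_of] at this
    rw [this]
    by_cases h : χ = b <;> simp [h]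
  simp only [hval, mul_ite, mul_zero, Finset.sum_ite_eq', Finset.mem_univ, if_true] at htr
  rw [irr_one_eq_charDegree] at htr
  push_cast at htr
  rw [pow_two]
  exact_mod_cast htr

set_option maxHeartbeats 8000000 in
/-- Endomorphisms commuting with the stabiliser come from the group algebra. -/
theorem exists_right_mult (T : TatePair K hM b Y bL y0 α β) (hy0 : (y0 : G) ∈ P)
    (hy1 : (y0 : G) ≠ 1) (hst : ∀ σ, FixesP p σ → ∀ ψ ∈ Y, galT σ ψ ∈ Y)
    (η : Module.End (resField M) (tate (residue_rR hM) bL α β))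
    (hη : ∀ g : stabB K b,
      η * indE (residue_rR hM) bL (act p M K b Y g) (T.compat g) =
        indE (residue_rR hM) bL (act p M K b Y g) (T.compat g) * η) :
    ∃ u, ∃ hu : u ∈ RG p M G,
      indE (residue_rR hM) bL (rmE (eLoc b Y) u hu) (T.compat_right u hu) = η := by
  classical
  have hπ := residue_rR (p := p) (M := M) hM
  have hPs : P ≤ stabB K b := fun y hy => mem_stabB_of_P K b hy
  set Sq : Finset (G ⧸ P) := Finset.univ.filter fun q => Quotient.out q ∈ (stabB K b) with hSq
  have hout : ∀ g : G, ∃ y ∈ P, Quotient.out (QuotientGroup.mk g : G ⧸ P) = g * y := fun g => by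
    obtain ⟨y, hy⟩ := QuotientGroup.mk_out_eq_mul P g
    exact ⟨y, y.2, hy⟩
  have hSqc : ¬ p ∣ Sq.card := by
    intro hd
    have hcard : Sq.card * p ∣ Nat.card G := by
      have e1 : (Nat.card ((stabB K b) ⧸ P.subgroupOf (stabB K b))) = Sq.card := by
        rw [← Nat.card_eq_finsetCard]
        refine Nat.card_eq_of_bijective
          (Quotient.lift (fun g : stabB K b => (⟨QuotientGroup.mk (g : G), Finset.mem_filter.2
            ⟨Finset.mem_univ _, by
              obtain ⟨y, hy, he⟩ := hout (g : G)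
              rw [he]; exact (stabB K b).mul_mem g.2 (hPs hy)⟩⟩ : Sq))
            fun a c hac => Subtype.ext (QuotientGroup.eq.2
              (Subgroup.mem_subgroupOf.1 (QuotientGroup.leftRel_apply.1 hac)))) ⟨?_, ?_⟩
        · intro x y hxy
          induction x using Quotient.inductionOn with | h a =>
          induction y using Quotient.inductionOn with | h c =>
          exact Quotient.sound (QuotientGroup.leftRel_apply.2
            (Subgroup.mem_subgroupOf.2 (QuotientGroup.eq.1 (congrArg Subtype.val hxy))))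
        · rintro ⟨q, hq⟩
          exact ⟨Quotient.mk _ ⟨Quotient.out q, (Finset.mem_filter.1 hq).2⟩,
            Subtype.ext (QuotientGroup.out_eq' q)⟩
      have h1 := Subgroup.card_eq_card_quotient_mul_card_subgroup (P.subgroupOf (stabB K b))
      rw [Nat.card_congr (Subgroup.subgroupOfEquivOfLe hPs).toEquiv, K.hP, e1] at h1
      rw [← h1]
      exact Subgroup.card_subgroup_dvd_card (stabB K b)
    exact K.hsq (by rw [pow_two]; exact (Nat.mul_dvd_mul_right hd p).trans hcard)
  have hn0 : (Sq.card : resField M) ≠ 0 := natCast_resField_ne_zero hM hSqc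
  obtain ⟨f, hfc, hf⟩ := T.lift ((Sq.card : resField M)⁻¹ • η)
  let εR := subIdem V b
  let eY : MonoidAlgebra ℂ G := blockElt (↑Y : Set (IrrCharacter G))
  have hεR : εR ∈ RG p M G := subIdem_mem_RG hM K.hV b
  have hεL : ∀ z ∈ latE p M eY, εR * z ∈ latE p M (eLoc b Y) := fun z hz => by
    obtain ⟨r, hr, rfl⟩ := mem_latE.1 hz
    exact mem_latE.2 ⟨r, hr, by rw [eLoc, mul_assoc]⟩
  have hLb : ∀ z ∈ latE p M (eLoc b Y), z ∈ latE p M eY := fun z hz => by
    obtain ⟨r, hr, rfl⟩ := mem_latE.1 hz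
    refine mem_latE.2 ⟨εR * r, mul_mem_RG hεR hr, ?_⟩
    rw [eLoc, IsClassElt.comm (isClassElt_blockElt _), mul_assoc, mul_assoc,
      IsClassElt.comm (isClassElt_blockElt _) r, ← mul_assoc]
  have heYof : ∀ g : G, of ℂ G g * eY = eY * of ℂ G g := fun g =>
    (IsClassElt.comm (isClassElt_blockElt _) _).symm
  have hgL : ∀ (g : G), ∀ z ∈ latE p M eY, of ℂ G g * z ∈ latE p M eY := fun g z hz =>
    mul_mem_latE (of_mem_RG g) (heYof g) hz
  let fL : latE p M eY →ₗ[rR p M] latE p M (eLoc b Y) :=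
    f.comp (((LinearMap.mulLeft (rR p M) εR).comp (latE p M eY).subtype).codRestrict _
      fun z => hεL _ z.2)
  let gL : G → Module.End (rR p M) (latE p M eY) := fun g => lmE p M eY (of ℂ G g) (hgL g)
  let F : G → (latE p M eY →ₗ[rR p M] latE p M eY) := fun g =>
    (gL g).comp (((latE p M (eLoc b Y)).subtype.comp (fL.comp (gL g⁻¹))).codRestrict _
      fun z => hLb _ (fL (gL g⁻¹ z)).2)
  have hF : ∀ g (z : latE p M eY), (F g z : MonoidAlgebra ℂ G) =
      of ℂ G g * (fL (gL g⁻¹ z) : MonoidAlgebra ℂ G) := fun g z => rfl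
  have hgLm : ∀ g h (z : latE p M eY), gL g (gL h z) = gL (g * h) z := fun g h z =>
    Subtype.ext (by simp only [gL, lmE_apply, map_mul, mul_assoc])
  -- well defined on cosets
  have hfLy : ∀ y : (stabB K b), (y : G) ∈ P → ∀ z : latE p M eY,
      fL (gL (y : G) z) = act p M K b Y y (fL z) := by
    intro y hy z
    obtain ⟨i, rfl⟩ := exists_pow_y0 K hM b hy0 hy1 hy
    rw [map_pow]
    have hc := (hfc.pow_right i).eq
    show f _ = _
    rw [show ((((LinearMap.mulLeft (rR p M) εR).comp (latE p M eY).subtype).codRestrict _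
      fun z => hεL _ z.2) (gL ((y0 ^ i : (stabB K b)) : G) z)) = (act p M K b Y y0 ^ i)
        ((((LinearMap.mulLeft (rR p M) εR).comp (latE p M eY).subtype).codRestrict _
          fun z => hεL _ z.2) z) from ?_]
    · exact LinearMap.congr_fun hc _
    · rw [← map_pow]
      refine Subtype.ext ?_
      show εR * (of ℂ G ((y0 ^ i : (stabB K b)) : G) * (z : MonoidAlgebra ℂ G)) =
        of ℂ G ((y0 ^ i : (stabB K b)) : G) * (εR * (z : MonoidAlgebra ℂ G))
      rw [← mul_assoc, ← subIdem_comm_of_stab K b (y0 ^ i : (stabB K b)).2, mul_assoc]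
  have hwd : ∀ g g' : G, g⁻¹ * g' ∈ P → F g = F g' := by
    intro g g' h
    refine LinearMap.ext fun z => Subtype.ext ?_
    rw [hF, hF]
    let y : (stabB K b) := ⟨g⁻¹ * g', hPs h⟩
    have e1 : gL g⁻¹ z = gL (y : G) (gL g'⁻¹ z) := by
      rw [hgLm]; congr 1; simp [y]
    rw [e1, hfLy y h, act_apply, ← mul_assoc, ← map_mul]
    congr 2
    simp [y]
  let Fq : G ⧸ P → (latE p M eY →ₗ[rR p M] latE p M eY) := fun q =>
    Quotient.liftOn' q F fun a c hac => hwd a c (QuotientGroup.leftRel_apply.1 hac)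
  have hFq : ∀ g : G, Fq (g : G ⧸ P) = F g := fun g => rfl
  have hFqo : ∀ q : G ⧸ P, Fq q = F (Quotient.out q) := fun q => by
    rw [← hFq]; congr 1; exact (QuotientGroup.out_eq' q).symm
  let x' : latE p M eY →ₗ[rR p M] latE p M eY := ∑ q : G ⧸ P, Fq q
  have hequiv : ∀ (g : G) z, x' (gL g z) = gL g (x' z) := by
    intro g z
    simp only [x', LinearMap.sum_apply, map_sum]
    refine Fintype.sum_equiv (MulAction.toPerm g⁻¹) _ _ fun q => ?_
    induction q using QuotientGroup.induction_on with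
    | H a =>
      rw [MulAction.toPerm_apply, MulAction.Quotient.smul_coe, smul_eq_mul, hFq, hFq]
      refine Subtype.ext ?_
      rw [hF, hgLm]
      show _ = of ℂ G g * (F (g⁻¹ * a) z : MonoidAlgebra ℂ G)
      rw [hF, ← mul_assoc, ← map_mul, mul_inv_cancel_left]
      congr 4
      group
  have heY : eY * eY = eY := blockElt_idem _
  obtain ⟨u, hu, hzu⟩ := mem_latE.1 (x' ⟨eY, mem_latE.2 ⟨1, one_mem_RG, mul_one eY⟩⟩).2
  have hx' : ∀ z : latE p M eY, (x' z : MonoidAlgebra ℂ G) = (z : MonoidAlgebra ℂ G) * u := by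
    rintro ⟨z, hz⟩
    obtain ⟨r, hr, rfl⟩ := mem_latE.1 hz
    induction hr using Submodule.span_induction with
    | mem w hw =>
      obtain ⟨g, rfl⟩ := hw
      rw [show (⟨eY * of ℂ G g, hz⟩ : latE p M eY) =
          gL g ⟨eY, mem_latE.2 ⟨1, one_mem_RG, mul_one eY⟩⟩ from Subtype.ext (heYof g).symm,
        hequiv]
      show of ℂ G g * (x' _ : MonoidAlgebra ℂ G) = _
      rw [← hzu, ← mul_assoc, heYof]
      show eY * of ℂ G g * u = of ℂ G g * eY * u
      rw [heYof]
    | zero =>
      rw [show (⟨eY * 0, hz⟩ : latE p M eY) = 0 from Subtype.ext (mul_zero eY), map_zero]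
      simp
    | add w w' hw hw' ih ih' =>
      rw [show (⟨eY * (w + w'), hz⟩ : latE p M eY) = ⟨eY * w, mem_latE.2 ⟨w, hw, rfl⟩⟩ +
        ⟨eY * w', mem_latE.2 ⟨w', hw', rfl⟩⟩ from Subtype.ext (mul_add eY w w'), map_add]
      simp only [Submodule.coe_add, ih, ih', add_mul]
    | smul c w hw ih =>
      rw [show (⟨eY * (c • w), hz⟩ : latE p M eY) = c • ⟨eY * w, mem_latE.2 ⟨w, hw, rfl⟩⟩ from
        Subtype.ext (mul_smul_comm c eY w), map_smul]
      simp only [SetLike.val_smul, ih, smul_mul_assoc]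
  refine ⟨u, hu, end_ext hπ bL fun x => ?_⟩
  rw [indE_tcl]
  let xL : latE p M eY := ⟨((x : latE p M (eLoc b Y)) : MonoidAlgebra ℂ G), hLb _ (x : latE p M (eLoc b Y)).2⟩
  -- ε applied to the translates
  let εE : latE p M eY →ₗ[rR p M] latE p M (eLoc b Y) :=
    ((LinearMap.mulLeft (rR p M) εR).comp (latE p M eY).subtype).codRestrict _ fun z => hεL _ z.2
  have hεx : εR * ((x : latE p M (eLoc b Y)) : MonoidAlgebra ℂ G) =
      ((x : latE p M (eLoc b Y)) : MonoidAlgebra ℂ G) := by
    obtain ⟨r, -, hr⟩ := mem_latE.1 (x : latE p M (eLoc b Y)).2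
    rw [← hr, ← mul_assoc, subIdem_mul_eLoc]
  have hmain : rmE (eLoc b Y) u hu x = ∑ q : G ⧸ P, εE (Fq q xL) := by
    rw [← map_sum]
    refine Subtype.ext ?_
    show ((x : latE p M (eLoc b Y)) : MonoidAlgebra ℂ G) * u = εR * _
    rw [← LinearMap.sum_apply, show (∑ q : G ⧸ P, Fq q) = x' from rfl, Submodule.subtype_apply,
      hx', ← mul_assoc, hεx]
  have hin : ∀ g : (stabB K b), εE (F (g : G) xL) =
      act p M K b Y g (f (act p M K b Y g⁻¹ x)) := by
    intro g
    refine Subtype.ext ?_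
    show εR * (of ℂ G (g : G) * (fL (gL (g : G)⁻¹ xL) : MonoidAlgebra ℂ G)) = _
    rw [act_apply, ← mul_assoc, ← subIdem_comm_of_stab K b g.2, mul_assoc]
    congr 1
    obtain ⟨r, -, hr⟩ := mem_latE.1 (fL (gL (g : G)⁻¹ xL)).2
    rw [← hr, ← mul_assoc, subIdem_mul_eLoc, hr]
    congr 1
    refine congrArg f (Subtype.ext ?_)
    show εR * (of ℂ G (g : G)⁻¹ * ((x : latE p M (eLoc b Y)) : MonoidAlgebra ℂ G)) = _
    rw [act_apply, Subgroup.coe_inv, ← mul_assoc, ← subIdem_comm_of_stab K b (inv_mem g.2),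
      mul_assoc, hεx]
  have hout0 : ∀ g : G, g ∈ N → g ∉ (stabB K b) → εE (F g xL) = 0 := by
    intro g hgN hg
    refine Subtype.ext ?_
    show εR * (of ℂ G g * (fL (gL g⁻¹ xL) : MonoidAlgebra ℂ G)) = 0
    obtain ⟨r, -, hr⟩ := mem_latE.1 (fL (gL g⁻¹ xL)).2
    rw [← hr, eLoc, ← mul_assoc, ← mul_assoc, ← mul_assoc, subIdem_mul_of_not_stab K b hgN hg,
      zero_mul, zero_mul]
  -- the free orbits
  set S1 : Finset (G ⧸ P) := Finset.univ.filter fun q => Quotient.out q ∉ N with hS1
  let σ : G ⧸ P → G ⧸ P := fun q => (y0 : G) • q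
  have hy0p : (y0 : G) ^ p = 1 := by
    have := congrArg Subtype.val (pow_card_eq_one' (x := (⟨(y0 : G), hy0⟩ : P)))
    rw [K.hP] at this
    simpa using this
  have hy0N : (y0 : G) ∈ N := stabB_le K b y0.2
  have hPN : P ≤ N := fun y hy => stabB_le K b (mem_stabB_of_P K b hy)
  have hNmk : ∀ g : G, Quotient.out (QuotientGroup.mk g : G ⧸ P) ∈ N ↔ g ∈ N := fun g => by
    obtain ⟨y, hy, he⟩ := hout g
    rw [he, N.mul_mem_cancel_right (hPN hy)]
  obtain ⟨O, hOS, hO⟩ := exists_orbit_reps.{u} K.hp σ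
    (fun q => by rw [show σ^[p] q = (y0 : G) ^ p • q from smul_iterate_apply _ _ _, hy0p, one_smul])
    S1 (fun q hq => by
      induction q using QuotientGroup.induction_on with
      | H a =>
        simp only [hS1, Finset.mem_filter, Finset.mem_univ, true_and, σ,
          MulAction.Quotient.smul_coe, smul_eq_mul, hNmk] at hq ⊢
        rwa [N.mul_mem_cancel_left hy0N])
    fun q hq => by
      induction q using QuotientGroup.induction_on with
      | H a =>
        intro h
        simp only [hS1, Finset.mem_filter, Finset.mem_univ, true_and, hNmk] at hq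
        simp only [σ, MulAction.Quotient.smul_coe, smul_eq_mul] at h
        have h2 := inv_mem (QuotientGroup.eq.1 h)
        have h3 : a⁻¹ ∈ N := by
          refine K.D.hTI _ hy0 hy1 a⁻¹ ?_
          have : (a⁻¹ * (y0 : G) * a⁻¹⁻¹) = ((((y0 : G) * a)⁻¹ * a)⁻¹) := by group
          rw [this]; exact h2
        exact hq (by simpa using inv_mem h3)
  let hO' : Module.End (rR p M) (latE p M (eLoc b Y)) :=
    ∑ o ∈ O, εE.comp ((F (Quotient.out o)).comp ((latE p M (eLoc b Y)).subtype.codRestrict _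
      fun z => hLb _ z.2))
  have horb : ∑ q ∈ S1, εE (Fq q xL) = (∑ i ∈ Finset.range p,
      act p M K b Y y0 ^ i * hO' * act p M K b Y y0 ^ (p - i)) (x : latE p M (eLoc b Y)) := by
    rw [hO (fun q => εE (Fq q xL)), Finset.sum_comm, LinearMap.sum_apply]
    refine Finset.sum_congr rfl fun i hi => ?_
    simp only [hO', Finset.mul_sum, Finset.sum_mul, LinearMap.sum_apply, Module.End.mul_apply]
    rw [Finset.sum_congr rfl fun o _ => ?_]
    have e1 : σ^[i] o = (((y0 ^ i : (stabB K b)) : G) * Quotient.out o : G) := by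
      rw [show σ^[i] o = (y0 : G) ^ i • o from smul_iterate_apply _ _ _]
      conv_lhs => rw [← QuotientGroup.out_eq' o]
      rw [MulAction.Quotient.smul_coe, smul_eq_mul, Subgroup.coe_pow]
    rw [e1, hFq, ← map_pow, ← map_pow]
    refine Subtype.ext ?_
    simp only [LinearMap.comp_apply, act_apply]
    show εR * (F (((y0 ^ i : (stabB K b)) : G) * Quotient.out o) xL : MonoidAlgebra ℂ G) =
      of ℂ G ((y0 ^ i : (stabB K b)) : G) * (εR * (F (Quotient.out o) _ : MonoidAlgebra ℂ G))
    rw [hF, hF, map_mul, ← mul_assoc, ← mul_assoc εR, ← subIdem_comm_of_stab K b (y0 ^ i : (stabB K b)).2,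
      mul_assoc, mul_assoc]
    congr 3
    refine congrArg (fun z => (fL z : MonoidAlgebra ℂ G)) (Subtype.ext ?_)
    simp only [gL, lmE_apply, LinearMap.codRestrict_apply, Submodule.subtype_apply, act_apply]
    show of ℂ G (((y0 ^ i : (stabB K b)) : G) * Quotient.out o)⁻¹ * _ =
      of ℂ G (Quotient.out o)⁻¹ * (of ℂ G ((y0 ^ (p - i) : (stabB K b)) : G) * _)
    rw [← mul_assoc, ← map_mul]
    congr 2
    rw [Subgroup.coe_pow, Subgroup.coe_pow, mul_inv_rev]
    congr 1
    rw [inv_eq_iff_mul_eq_one, ← pow_add, Nat.add_sub_cancel' (Finset.mem_range.1 hi).le, hy0p]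
  have hkill := T.kill hO' x x.2
  rw [← horb] at hkill
  set S0 : Finset (G ⧸ P) := Finset.univ.filter fun q => Quotient.out q ∈ N with hS0
  have hsplit : rmE (eLoc b Y) u hu x =
      (∑ q ∈ Sq, εE (Fq q xL)) + ∑ q ∈ S1, εE (Fq q xL) := by
    rw [hmain, ← Finset.sum_filter_add_sum_filter_not Finset.univ
      (fun q : G ⧸ P => Quotient.out q ∈ N)]
    congr 1
    refine (Finset.sum_subset (fun q hq => ?_) fun q hq hq' => ?_).symm
    · simp only [hSq, Finset.mem_filter] at hq ⊢
      exact ⟨hq.1, stabB_le K b hq.2⟩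
    · simp only [hSq, Finset.mem_filter, Finset.mem_univ, true_and] at hq hq'
      rw [hFqo]
      exact hout0 _ hq hq'
  let term : (stabB K b) → LinearMap.ker α := fun g =>
    ⟨act p M K b Y g (f (act p M K b Y g⁻¹ x)),
      (T.compat g).1 _ (hf ⟨_, (T.compat g⁻¹).1 x x.2⟩).1⟩
  have hterm : ∀ g : (stabB K b), tcl hπ bL α β (term g) =
      ((Sq.card : resField M)⁻¹ • η) (tcl hπ bL α β x) := by
    intro g
    obtain ⟨h1, h2⟩ := hf ⟨_, (T.compat g⁻¹).1 x x.2⟩
    have e1 : tcl hπ bL α β (term g) = indE hπ bL _ (T.compat g) (tcl hπ bL α β ⟨_, h1⟩) := by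
      rw [indE_tcl]
    rw [e1, h2, LinearMap.smul_apply, LinearMap.smul_apply, map_smul,
      ← Module.End.mul_apply (indE hπ bL _ (T.compat g)) η, ← hη g, Module.End.mul_apply, indE_tcl]
    congr 3
    refine Subtype.ext ?_
    show act p M K b Y g (act p M K b Y g⁻¹ x) = x
    rw [← Module.End.mul_apply, ← map_mul, mul_inv_cancel, map_one, Module.End.one_apply]
  have hmem : (∑ q ∈ Sq, εE (Fq q xL)) ∈ LinearMap.ker α := by
    refine Submodule.sum_mem _ fun q hq => ?_
    rw [hFqo, hin ⟨Quotient.out q, (Finset.mem_filter.1 hq).2⟩]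
    exact (term _).2
  have hval : tcl hπ bL α β ⟨_, hmem⟩ = η (tcl hπ bL α β x) := by
    have e2 : (⟨_, hmem⟩ : LinearMap.ker α) =
        ∑ q ∈ Sq.attach, term ⟨Quotient.out q.1, (Finset.mem_filter.1 q.2).2⟩ := by
      refine Subtype.ext ?_
      show (∑ q ∈ Sq, εE (Fq q xL)) = _
      refine ((Finset.sum_attach Sq _).symm.trans ?_).trans (AddSubmonoidClass.coe_finset_sum _ _).symm
      exact Finset.sum_congr rfl fun q _ => by rw [hFqo, hin ⟨_, (Finset.mem_filter.1 q.2).2⟩]
    rw [e2, tcl_sum, Finset.sum_congr rfl fun q _ => hterm _, Finset.sum_const, Finset.card_attach,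
      ← Nat.cast_smul_eq_nsmul (resField M), LinearMap.smul_apply, smul_smul, mul_inv_cancel₀ hn0,
      one_smul]
  rw [← hval, tcl_eq_iff]
  simpa [hsplit] using hkill

set_option maxHeartbeats 8000000 in
/-- The dimension bound. -/
theorem finrank_tate_le (T : TatePair K hM b Y bL y0 α β) (hy0 : (y0 : G) ∈ P)
    (hy1 : (y0 : G) ≠ 1) (hst : ∀ σ, FixesP p σ → ∀ ψ ∈ Y, galT σ ψ ∈ Y)
    (htr : ∀ ψ ∈ Y, ∀ ψ' ∈ Y, ∃ σ, FixesP p σ ∧ galT σ ψ = ψ') {ψ0 : IrrCharacter G}
    (hψ0 : ψ0 ∈ Y) :
    Module.finrank (resField M) (tate (residue_rR hM) bL α β) ≤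
      charDegree (ψ0 : G → ℂ) * charDegree (b : V → ℂ) := by
  classical
  have hπ := residue_rR (p := p) (M := M) hM
  haveI := isAlgClosed_resField (M := M)
  haveI : (P.subgroupOf (stabB K b)).Normal := ⟨fun x hx g => by
    show (g : G) * x * (g : G)⁻¹ ∈ P
    exact K.D.hNP _ (stabB_le K b g.2) _ hx⟩
  obtain ⟨ρ, hρ⟩ := exists_tate_rep K hM b Y bL T hy0 hy1
  haveI : Fintype (stabB K b ⧸ P.subgroupOf (stabB K b)) := Fintype.ofFinite _
  have hPs : P ≤ stabB K b := fun y hy => mem_stabB_of_P K b hy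
  have hQ : (Nat.card (stabB K b ⧸ P.subgroupOf (stabB K b)) : resField M) ≠ 0 := by
    refine natCast_resField_ne_zero hM fun hd => K.hsq ?_
    have h1 := Subgroup.card_eq_card_quotient_mul_card_subgroup (P.subgroupOf (stabB K b))
    rw [Nat.card_congr (Subgroup.subgroupOfEquivOfLe hPs).toEquiv, K.hP] at h1
    rw [pow_two]
    exact (Nat.mul_dvd_mul_right hd p).trans (h1 ▸ Subgroup.card_subgroup_dvd_card (stabB K b))
  let ιV : V →* stabB K b := Subgroup.inclusion fun v hv => mem_stabB_of_V K b hv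
  let ι' : V →* stabB K b ⧸ P.subgroupOf (stabB K b) := (QuotientGroup.mk' _).comp ιV
  obtain ⟨g, hg⟩ := cyclic_top K b
  have hmin : ∀ S, MinStab ρ S → Module.finrank (resField M) S ≤ charDegree (b : V → ℂ) := by
    intro S hS
    refine finrank_minStab_le ρ ι' (g : stabB K b ⧸ P.subgroupOf (stabB K b)) ?_ ?_ ?_
      (natCast_resField_ne_zero hM K.hV) ?_ ?_ hS
    · intro v
      refine ⟨⟨(g : G)⁻¹ * v * (g : G)⁻¹⁻¹, K.D.hNV _ (inv_mem (stabB_le K b g.2)) v v.2⟩, ?_⟩
      show QuotientGroup.mk' _ g⁻¹ * QuotientGroup.mk' _ (ιV v) * QuotientGroup.mk' _ g =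
        QuotientGroup.mk' _ _
      rw [← map_mul, ← map_mul]
      congr 1
      exact Subtype.ext (by simp [ιV])
    · intro v
      refine ⟨⟨(g : G) * v * (g : G)⁻¹, K.D.hNV _ (stabB_le K b g.2) v v.2⟩, ?_⟩
      show QuotientGroup.mk' _ g * QuotientGroup.mk' _ (ιV v) * QuotientGroup.mk' _ g⁻¹ =
        QuotientGroup.mk' _ _
      rw [← map_mul, ← map_mul]
      congr 1
    · refine eq_top_iff.2 fun q _ => ?_
      obtain ⟨x, rfl⟩ := QuotientGroup.mk'_surjective _ q
      obtain ⟨i, hi⟩ := hg x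
      obtain ⟨y, hy, v, hv, hyv⟩ := (K.hC _).1 hi
      have hx : x = ⟨y, hPs hy⟩ * ιV ⟨v, hv⟩ * g ^ i := by
        refine Subtype.ext ?_
        show (x : G) = y * v * ((g ^ i : stabB K b) : G)
        rw [hyv, Subgroup.coe_zpow, inv_mul_cancel_right]
      rw [hx, map_mul, map_mul, map_zpow,
        show QuotientGroup.mk' (P.subgroupOf (stabB K b)) ⟨y, hPs hy⟩ = 1 from
          (QuotientGroup.eq_one_iff _).2 hy, one_mul]
      exact Subgroup.mul_mem _ (Subgroup.subset_closure (Set.mem_union_left _ (Set.mem_range_self (⟨v, hv⟩ : V))))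
        (Subgroup.zpow_mem _ (Subgroup.subset_closure (Set.mem_union_right _ (Set.mem_singleton _))) i)
    · exact fun f hf => class_scalar K hM b Y bL T hy0 hρ f hf
    · exact span_le_sq K hM b Y bL T hy0 hρ
  obtain ⟨η, hηc, cs, hcs, hdim⟩ := exists_endo_eigen ρ hQ hmin
  obtain ⟨u, hu, hind⟩ := exists_right_mult K hM b Y bL T hy0 hy1 hst η fun g' => by
    rw [← hρ]; exact hηc _
  obtain ⟨Q, F, hF0, hFdeg, hkill, hQF⟩ := exists_orbit_poly hM K.hsq Y hst htr hψ0 hu
  have hzero : Polynomial.aeval η (Q.map (rRes p M)) = 0 := by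
    refine end_ext hπ bL fun x => ?_
    have hpoly : ∀ (q : Polynomial (rR p M)) (x : LinearMap.ker α),
        ∃ h : Polynomial.aeval (rmE (eLoc b Y) u hu) q (x : latE p M (eLoc b Y)) ∈ LinearMap.ker α,
          Polynomial.aeval η (q.map (rRes p M)) (tcl hπ bL α β x) = tcl hπ bL α β ⟨_, h⟩ := by
      intro q
      induction q using Polynomial.induction_on' with
      | add q q' hq hq' =>
        intro x
        obtain ⟨h1, e1⟩ := hq x
        obtain ⟨h2, e2⟩ := hq' x
        refine ⟨by rw [map_add, LinearMap.add_apply]; exact Submodule.add_mem _ h1 h2, ?_⟩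
        rw [Polynomial.map_add, map_add, LinearMap.add_apply, e1, e2, ← tcl_add]
        congr 1
        exact Subtype.ext (by simp)
      | monomial n a =>
        intro x
        induction n with
        | zero =>
          refine ⟨by simpa [Module.algebraMap_end_apply] using
            (LinearMap.ker α).smul_mem a x.2, ?_⟩
          rw [Polynomial.map_monomial, Polynomial.aeval_monomial, pow_zero, mul_one,
            Module.algebraMap_end_apply, ← tcl_smul]
          congr 1
          exact Subtype.ext (by simp [Module.algebraMap_end_apply])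
        | succ n ih =>
          obtain ⟨h1, e1⟩ := ih
          have e3 : Polynomial.aeval (rmE (eLoc b Y) u hu) (Polynomial.monomial (n + 1) a)
              (x : latE p M (eLoc b Y)) = rmE (eLoc b Y) u hu
              (Polynomial.aeval (rmE (eLoc b Y) u hu) (Polynomial.monomial n a) x) := by
            simp [Polynomial.aeval_monomial, pow_succ', Module.algebraMap_end_apply]
          refine ⟨by rw [e3]; exact (T.compat_right u hu).1 _ h1, ?_⟩
          have e4 : Polynomial.aeval η ((Polynomial.monomial (n + 1) a).map (rRes p M))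
              (tcl hπ bL α β x) = η (Polynomial.aeval η ((Polynomial.monomial n a).map (rRes p M))
              (tcl hπ bL α β x)) := by
            simp [Polynomial.aeval_monomial, pow_succ', Module.algebraMap_end_apply]
          rw [e4, e1, ← hind, indE_tcl]
          congr 1
          exact Subtype.ext e3.symm
    obtain ⟨h, e1⟩ := hpoly Q x
    rw [e1, LinearMap.zero_apply]
    have hval : ((Polynomial.aeval (rmE (eLoc b Y) u hu) Q (x : latE p M (eLoc b Y)) :
        latE p M (eLoc b Y)) : MonoidAlgebra ℂ G) =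
        ((x : latE p M (eLoc b Y)) : MonoidAlgebra ℂ G) * Polynomial.aeval u Q := by
      clear h e1 hpoly hkill hQF
      induction Q using Polynomial.induction_on' with
      | add q q' hq hq' =>
        rw [map_add, map_add, LinearMap.add_apply, Submodule.coe_add, hq, hq', mul_add]
      | monomial n a =>
        rw [Polynomial.aeval_monomial, Polynomial.aeval_monomial, Module.End.mul_apply,
          Module.algebraMap_end_apply, SetLike.val_smul, ← Algebra.smul_def, mul_smul_comm]
        congr 1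
        induction n with
        | zero => simp
        | succ n ih => rw [pow_succ', Module.End.mul_apply, rmE_apply, ih, pow_succ, mul_assoc]
    have hz : Polynomial.aeval (rmE (eLoc b Y) u hu) Q (x : latE p M (eLoc b Y)) = 0 := by
      refine Subtype.ext ?_
      obtain ⟨r, -, hr⟩ := mem_latE.1 (x : latE p M (eLoc b Y)).2
      rw [hval, ← hr, eLoc, mul_assoc, mul_assoc,
        IsClassElt.comm (isClassElt_blockElt _) (r * Polynomial.aeval u Q), mul_assoc r, hkill,
        mul_zero, mul_zero]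
      rfl
    rw [show (⟨_, h⟩ : LinearMap.ker α) = (0 : rR p M) • x from
      Subtype.ext (hz.trans (zero_smul (rR p M) (x : latE p M (eLoc b Y))).symm), tcl_smul,
      map_zero, zero_smul]
  have hroots : cs ⊆ F.roots.toFinset := by
    intro c hc
    obtain ⟨a, ha0, ha⟩ := hcs c hc
    rw [Multiset.mem_toFinset, Polynomial.mem_roots hF0]
    have h1 := Module.End.aeval_apply_of_hasEigenvector (p := Q.map (rRes p M))
      (⟨Module.End.mem_eigenspace_iff.2 ha, ha0⟩ : η.HasEigenvector c a)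
    rw [hzero, LinearMap.zero_apply, hQF, Polynomial.eval_pow] at h1
    exact eq_zero_of_pow_eq_zero ((smul_eq_zero.1 h1.symm).resolve_right ha0)
  have hcard : cs.card ≤ charDegree (ψ0 : G → ℂ) := by
    have h1 : F.natDegree = charDegree (ψ0 : G → ℂ) := by
      rw [irr_one_eq_charDegree] at hFdeg
      exact_mod_cast hFdeg
    rw [← h1]
    exact (Finset.card_le_card hroots).trans ((Multiset.toFinset_card_le _).trans
      (Polynomial.card_roots' F))
  exact hdim.trans (Nat.mul_le_mul_right _ hcard)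

end Cfsg.Agent.DefOne
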