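/-
The bound on the sum of the decomposition numbers over a Galois orbit of characters.
-/
import Cfsg.Agent.Lib.DefOne.Tate

set_option linter.unusedSectionVars false
set_option linter.style.haveILetI false

namespace Cfsg.Agent.DefOne

open Cfsg Cfsg.Agent.Char Cfsg.Agent.Blocks Cfsg.Agent.CCSylow MonoidAlgebra

open scoped ComplexConjugate

universe u

section Abstract

variable {R : Type*} [CommRing R] [IsDomain R] [IsPrincipalIdealRing R]
  {L : Type*} [AddCommGroup L] [Module R L] {p : ℕ}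

theorem compat_of_commute {α β f : Module.End R L} (hα : Commute f α) (hβ : Commute f β) :
    Compat α β f :=
  ⟨fun x hx => by rw [← Module.End.mul_apply, ← hα.eq, Module.End.mul_apply, hx, map_zero],
    fun x => ⟨f x, by rw [← Module.End.mul_apply, ← hβ.eq, Module.End.mul_apply]⟩⟩

theorem commute_dl {τ f : Module.End R L} (h : Commute f τ) : Commute f (dl τ) :=
  h.sub_right (Commute.one_right f)

theorem commute_nu {τ f : Module.End R L} (h : Commute f τ) : Commute f (nu p τ) :=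
  Commute.sum_right _ _ _ fun i _ => h.pow_right i

theorem dl_mul_geom (τ : Module.End R L) (i : ℕ) :
    dl τ * ∑ j ∈ Finset.range i, τ ^ j = τ ^ i - 1 := mul_geom_sum _ _

theorem trace_split [Module.Finite R L] [Module.Free R L] {τ : Module.End R L} (hτ : τ ^ p = 1) :
    (p : R) * (Module.finrank R (LinearMap.ker (dl τ)) : R) +
      (p : R) * (Module.finrank R (LinearMap.ker (nu p τ)) : R) =
      (p : R) * LinearMap.trace R L 1 := by
  obtain ⟨h0, h1⟩ := trace_nu_eq (p := p) τ hτ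
  rw [← h1, ← h0, ← map_add, add_sub_cancel, ← nsmul_one, map_nsmul, nsmul_eq_mul]

end Abstract

variable {G : Type u} [Group G] [Fintype G] {p : ℕ} {M : Ideal AlgInt} [M.IsPrime]
  {P V N : Subgroup G} {e : ℕ} (K : Conf p P V N e)
  [Fintype P] [Fintype V] [Fintype N] [Fintype (P →* ℂˣ)]
  (b : IrrCharacter V) (Y : Finset (IrrCharacter G))

include K

theorem y0_pow_p {y0 : stabB K b} (hy0 : (y0 : G) ∈ P) : y0 ^ p = 1 := by
  refine Subtype.ext ?_
  have h := pow_card_eq_one' (x := (⟨(y0 : G), hy0⟩ : P))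
  rw [K.hP] at h
  simpa using congrArg Subtype.val h

theorem act_pow_p {y0 : stabB K b} (hy0 : (y0 : G) ∈ P) : act p M K b Y y0 ^ p = 1 := by
  rw [← map_pow, y0_pow_p K b hy0, map_one]

theorem act_y0_apply {y0 : stabB K b} (x : latE p M (eLoc b Y)) :
    (act p M K b Y y0 x : MonoidAlgebra ℂ G) = of ℂ G (y0 : G) * x := rfl

theorem commute_rmE {y0 : stabB K b} {u : MonoidAlgebra ℂ G} (hu : u ∈ RG p M G) :
    Commute (rmE (eLoc b Y) u hu) (act p M K b Y y0) :=
  LinearMap.ext fun x => Subtype.ext (by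
    simp only [Module.End.mul_apply, rmE_apply, act_apply, mul_assoc])

theorem commute_lmE {y0 : stabB K b} {a : MonoidAlgebra ℂ G}
    (h : ∀ x ∈ latE p M (eLoc b Y), a * x ∈ latE p M (eLoc b Y))
    (hc : of ℂ G (y0 : G) * a = a * of ℂ G (y0 : G)) :
    Commute (lmE p M (eLoc b Y) a h) (act p M K b Y y0) :=
  LinearMap.ext fun x => Subtype.ext (by
    simp only [Module.End.mul_apply, lmE_apply, act_apply, ← mul_assoc, hc])

/-- The powers of a generator of `P`. -/
theorem sum_range_pow {A : Type*} [AddCommMonoid A] {y0 : stabB K b} (hy0 : (y0 : G) ∈ P)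
    (hy1 : (y0 : G) ≠ 1) (F : stabB K b → A) :
    ∑ i ∈ Finset.range p, F (y0 ^ i) = ∑ y : P, F ⟨(y : G), mem_stabB_of_P K b y.2⟩ := by
  have hne : (⟨(y0 : G), hy0⟩ : P) ≠ 1 := fun h => hy1 (congrArg Subtype.val h)
  have ho : orderOf (⟨(y0 : G), hy0⟩ : P) = p :=
    (K.hp.eq_one_or_self_of_dvd _ ((orderOf_dvd_natCard _).trans K.hP.dvd)).resolve_left
      (fun h => hne (orderOf_eq_one_iff.1 h))
  refine Finset.sum_bij (fun i _ => (⟨(y0 : G), hy0⟩ : P) ^ i) (fun i _ => Finset.mem_univ _) ?_ ?_ ?_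
  · intro i hi j hj h
    exact pow_injOn_Iio_orderOf (by rw [ho]; exact Finset.mem_range.1 hi)
      (by rw [ho]; exact Finset.mem_range.1 hj) h
  · intro y _
    obtain ⟨i, hi⟩ := exists_pow_eq K hne y
    refine ⟨i % p, Finset.mem_range.2 (Nat.mod_lt _ K.hp.pos), ?_⟩
    have h := pow_mod_orderOf (⟨(y0 : G), hy0⟩ : P) i
    rw [ho] at h
    exact h.trans hi
  · intro i _
    exact congrArg F (Subtype.ext (by simp))

theorem exists_conj_pow {y0 : stabB K b} (hy0 : (y0 : G) ∈ P) (hy1 : (y0 : G) ≠ 1)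
    (g : stabB K b) : ∃ i : ℕ, g * y0 * g⁻¹ = y0 ^ i := by
  have hne : (⟨(y0 : G), hy0⟩ : P) ≠ 1 := fun h => hy1 (congrArg Subtype.val h)
  obtain ⟨i, hi⟩ := exists_pow_eq K hne
    ⟨(g : G) * y0 * (g : G)⁻¹, K.D.hNP _ (stabB_le K b g.2) _ hy0⟩
  exact ⟨i, Subtype.ext (by simpa using (congrArg Subtype.val hi).symm)⟩

theorem act_mul_nu {y0 : stabB K b} (hy0 : (y0 : G) ∈ P) (hy1 : (y0 : G) ≠ 1) (g : stabB K b) :
    act p M K b Y g * nu p (act p M K b Y y0) = nu p (act p M K b Y y0) * act p M K b Y g := by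
  rw [nu, Finset.mul_sum, Finset.sum_mul]
  simp only [← map_pow, ← map_mul]
  rw [sum_range_pow K b hy0 hy1 (fun y => act p M K b Y (g * y)),
    sum_range_pow K b hy0 hy1 (fun y => act p M K b Y (y * g))]
  refine Fintype.sum_equiv (CoprimeConst.actConj P N K.D.hNP ⟨(g : G), stabB_le K b g.2⟩).toEquiv
    _ _ fun y => ?_
  congr 1
  refine Subtype.ext ?_
  show (g : G) * (y : G) = (g : G) * (y : G) * (g : G)⁻¹ * (g : G)
  group

variable (hM : IsPModular p M) [IsPrincipalIdealRing (rR p M)]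
  {ι : Type*} [Fintype ι] [DecidableEq ι]
  (bL : Module.Basis ι (rR p M) (latE p M (eLoc b Y)))

include hM

theorem tatePair_nu {y0 : stabB K b} (hy0 : (y0 : G) ∈ P) (hy1 : (y0 : G) ≠ 1) :
    TatePair K hM b Y bL y0 (dl (act p M K b Y y0)) (nu p (act p M K b Y y0)) where
  compat g := by
    obtain ⟨i, hi⟩ := exists_conj_pow K b hy0 hy1 g⁻¹
    refine ⟨fun x hx => ?_, fun x => ⟨act p M K b Y g x, ?_⟩⟩
    · rw [dl, LinearMap.sub_apply, Module.End.one_apply, sub_eq_zero] at hx ⊢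
      have hpow : ∀ j : ℕ, (act p M K b Y y0 ^ j) x = x := fun j => by
        induction j with
        | zero => simp
        | succ j ih => rw [pow_succ, Module.End.mul_apply, hx, ih]
      have e1 : y0 * g = g * y0 ^ i := by
        rw [← hi, inv_inv, ← mul_assoc, ← mul_assoc, mul_inv_cancel, one_mul]
      rw [← Module.End.mul_apply, ← map_mul, e1, map_mul, map_pow, Module.End.mul_apply, hpow]
    · rw [← Module.End.mul_apply, ← Module.End.mul_apply, act_mul_nu K b Y hy0 hy1 g]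
  compat_right u hu := compat_of_commute (commute_dl (commute_rmE K b Y hu))
    (commute_nu (commute_rmE K b Y hu))
  compat_left a h hc := compat_of_commute (commute_dl (commute_lmE K b Y h hc))
    (commute_nu (commute_lmE K b Y h hc))
  fix x hx := by
    rw [show act p M K b Y y0 x - x = dl (act p M K b Y y0) x from rfl, hx, rv_zero]
    exact Submodule.zero_mem _
  lift η := exists_lift_nu (residue_rR hM) bL _ (act_pow_p K b Y hy0) η
  kill h x hx := by
    rw [trace_nu _ (act_pow_p K b Y hy0) h (LinearMap.mem_ker.2 hx), ← redEnd_apply]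
    exact LinearMap.mem_range_self _ _

theorem tatePair_dl {y0 : stabB K b} (hy0 : (y0 : G) ∈ P) (hy1 : (y0 : G) ≠ 1) :
    TatePair K hM b Y bL y0 (nu p (act p M K b Y y0)) (dl (act p M K b Y y0)) where
  compat g := by
    obtain ⟨i, hi⟩ := exists_conj_pow K b hy0 hy1 g
    refine ⟨fun x hx => ?_, fun x => ?_⟩
    · rw [← Module.End.mul_apply, ← act_mul_nu K b Y hy0 hy1 g, Module.End.mul_apply, hx, map_zero]
    · refine ⟨(∑ j ∈ Finset.range i, act p M K b Y y0 ^ j) (act p M K b Y g x), ?_⟩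
      rw [← Module.End.mul_apply (dl _),
        dl_mul_geom, dl, LinearMap.sub_apply,
        LinearMap.sub_apply, Module.End.one_apply, Module.End.one_apply, map_sub, ← map_pow,
        ← Module.End.mul_apply, ← Module.End.mul_apply, ← map_mul, ← map_mul, ← hi,
        inv_mul_cancel_right]
  compat_right u hu := compat_of_commute (commute_nu (commute_rmE K b Y hu))
    (commute_dl (commute_rmE K b Y hu))
  compat_left a h hc := compat_of_commute (commute_nu (commute_lmE K b Y h hc))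
    (commute_dl (commute_lmE K b Y h hc))
  fix x hx := ⟨rv (rRes p M) bL x, redEnd_apply bL _ _⟩
  lift η := exists_lift_dl (residue_rR hM) bL _ (act_pow_p K b Y hy0) η
  kill h x hx := by
    obtain ⟨w, hw⟩ := trace_dl _ K.hp.pos (act_pow_p K b Y hy0) h (LinearMap.mem_ker.2 hx)
    rw [← hw, ← redEnd_apply]
    exact LinearMap.mem_range_self _ _

omit [IsPrincipalIdealRing (rR p M)] bL in
theorem card_smul_eLoc_mem (hst : ∀ σ, FixesP p σ → ∀ ψ ∈ Y, galT σ ψ ∈ Y) :
    (Nat.card G : ℂ) • eLoc b Y ∈ RG p M G := by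
  rw [eLoc, ← mul_smul_comm]
  exact mul_mem_RG (subIdem_mem_RG hM K.hV b) (card_smul_blockElt_mem hM Y hst)

omit [IsPrincipalIdealRing (rR p M)] bL in
theorem trace_act (hst : ∀ σ, FixesP p σ → ∀ ψ ∈ Y, galT σ ψ ∈ Y) {y : stabB K b}
    (hy : (y : G) ∈ P) :
    ((LinearMap.trace (rR p M) (latE p M (eLoc b Y)) (act p M K b Y y) : rR p M) : ℂ) =
      ∑ ψ ∈ Y, (ψ : G → ℂ) 1 * ((b : V → ℂ) 1 * phi (ψ : G → ℂ) b ⟨(y : G), hy⟩) := by
  classical
  have htr := trace_lmE hM (eLoc_idem b Y) Nat.card_pos.ne' (card_smul_eLoc_mem K b Y hM hst)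
    (fun x hx => mul_mem_latE (of_mem_RG _) (of_mul_eLoc K b Y y.2) hx)
  refine htr.trans ?_
  refine (Finset.sum_subset (Finset.subset_univ Y) fun χ _ hχ => ?_).symm.trans
    (Finset.sum_congr rfl fun χ hχ => ?_)
  · rw [eLoc, ← mul_assoc, chiExt_mul_central χ _ (isClassElt_blockElt _), omega_blockElt]
    simp [hχ]
  · rw [eLoc, ← mul_assoc, chiExt_mul_central χ _ (isClassElt_blockElt _), omega_blockElt]
    simp only [Finset.mem_coe, hχ, if_true, one_mul]
    congr 1
    rw [subIdem_eq_sum, Finset.mul_sum, chiExt_sum, phi, Finset.mul_sum, Finset.mul_sum]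
    refine Finset.sum_congr rfl fun v _ => ?_
    rw [mul_smul_comm, chiExt_smul, ← map_mul, chiExt_of]
    ring

omit [IsPrincipalIdealRing (rR p M)] bL in
set_option maxHeartbeats 2000000 in
/-- The bound. -/
theorem abs_sum_acoef_le (hst : ∀ σ, FixesP p σ → ∀ ψ ∈ Y, galT σ ψ ∈ Y)
    (htr : ∀ ψ ∈ Y, ∀ ψ' ∈ Y, ∃ σ, FixesP p σ ∧ galT σ ψ = ψ') {ψ0 : IrrCharacter G}
    (hψ0 : ψ0 ∈ Y) :
    |∑ ψ ∈ Y, ∑ l : P →* ℂˣ, acoef K ψ b l| ≤ (p : ℤ) - 1 := by
  classical
  haveI := isPrincipalIdealRing_rR hM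
  haveI := latE_finite (p := p) (M := M) (eLoc b Y)
  haveI := latE_free hM (eLoc b Y)
  let bL := Module.Free.chooseBasis (rR p M) (latE p M (eLoc b Y))
  haveI : Nontrivial P := Finite.one_lt_card_iff_nontrivial.1 (K.hP.symm ▸ K.hp.one_lt)
  obtain ⟨y, hy⟩ := exists_ne (1 : P)
  let y0 : stabB K b := ⟨(y : G), mem_stabB_of_P K b y.2⟩
  have hy0 : (y0 : G) ∈ P := y.2
  have hy1 : (y0 : G) ≠ 1 := fun h => hy (Subtype.ext h)
  set τ := act p M K b Y y0 with hτdef
  have hτ : τ ^ p = 1 := act_pow_p K b Y hy0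
  have hd0 := finrank_tate_le K hM b Y bL (tatePair_nu K b Y hM bL hy0 hy1) hy0 hy1 hst htr hψ0
  have hd1 := finrank_tate_le K hM b Y bL (tatePair_dl K b Y hM bL hy0 hy1) hy0 hy1 hst htr hψ0
  have hi0 := finrank_tate_nu (residue_rR hM) bL τ hτ
  have hi1 := finrank_tate_dl (residue_rR hM) bL τ hτ
  set r0 := Module.finrank (rR p M) (LinearMap.ker (dl τ))
  set r1 := Module.finrank (rR p M) (LinearMap.ker (nu p τ))
  set s := charDegree (ψ0 : G → ℂ)
  set b1 := charDegree (b : V → ℂ)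
  set n := Fintype.card (Module.Free.ChooseBasisIndex (rR p M) (latE p M (eLoc b Y)))
  have hp0 : (p : ℂ) ≠ 0 := Nat.cast_ne_zero.2 K.hp.ne_zero
  obtain ⟨ht0, -⟩ := trace_nu_eq τ hτ
  have hdeg : ∀ ψ ∈ Y, (ψ : G → ℂ) 1 = (s : ℂ) := by
    intro ψ hψ
    obtain ⟨σ, -, rfl⟩ := htr ψ0 hψ0 ψ hψ
    rw [galT_one, irr_one_eq_charDegree]
  -- traces as sums of multiplicities
  set co' : IrrCharacter G → (P →* ℂˣ) → ℕ := fun ψ l =>
    nco K.D (IsIrrCharacter.isCharacter ψ.2) l b with hco'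
  have hco : ∀ (ψ : IrrCharacter G) (l : P →* ℂˣ), co K.D (ψ : G → ℂ) l b = (co' ψ l : ℂ) := fun ψ l =>
    co_eq K.D (IsIrrCharacter.isCharacter ψ.2) l b
  have hone : ((LinearMap.trace (rR p M) (latE p M (eLoc b Y)) 1 : rR p M) : ℂ) =
      (s : ℂ) * b1 * ((∑ ψ ∈ Y, ∑ l, co' ψ l : ℕ) : ℂ) := by
    rw [← map_one (act p M K b Y), trace_act K b Y hM hst (show ((1 : stabB K b) : G) ∈ P from one_mem P)]
    push_cast
    rw [Finset.mul_sum]
    refine Finset.sum_congr rfl fun ψ hψ => ?_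
    rw [hdeg ψ hψ, irr_one_eq_charDegree, mul_assoc]
    congr 2
    rw [phi_eq_sum K]
    refine Finset.sum_congr rfl fun l _ => ?_
    rw [hco, show (⟨(1 : G), one_mem P⟩ : P) = 1 from rfl, map_one, Units.val_one, mul_one]
  have hnu : ((LinearMap.trace (rR p M) (latE p M (eLoc b Y)) (nu p τ) : rR p M) : ℂ) =
      (p : ℂ) * ((s : ℂ) * b1 * ((∑ ψ ∈ Y, co' ψ 1 : ℕ) : ℂ)) := by
    rw [nu, map_sum, hτdef]
    simp only [← map_pow]
    rw [sum_range_pow K b hy0 hy1 (fun y => LinearMap.trace (rR p M) _ (act p M K b Y y)),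
      AddSubmonoidClass.coe_finsetSum,
      Finset.sum_congr rfl fun (z : P) _ =>
        trace_act K b Y hM hst (y := ⟨(z : G), mem_stabB_of_P K b z.2⟩) z.2,
      Finset.sum_comm]
    push_cast
    rw [Finset.mul_sum, Finset.mul_sum]
    refine Finset.sum_congr rfl fun ψ hψ => ?_
    rw [hdeg ψ hψ, irr_one_eq_charDegree, ← Finset.mul_sum, ← Finset.mul_sum, ← hco, co_eq_phi K]
    simp only [MonoidHom.one_apply, Units.val_one, map_one, mul_one, Subtype.coe_eta]
    field_simp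
    ring
  have hn : ((LinearMap.trace (rR p M) (latE p M (eLoc b Y)) 1 : rR p M) : ℂ) = (n : ℂ) := by
    rw [Module.End.one_eq_id, LinearMap.trace_id, Module.finrank_eq_card_basis bL]
    simp [n]
  have hn' : n = s * b1 * ∑ ψ ∈ Y, ∑ l, co' ψ l := by
    have := hn.symm.trans hone
    exact_mod_cast this
  have hr0 : r0 = s * b1 * ∑ ψ ∈ Y, co' ψ 1 := by
    have h := congrArg Subtype.val ht0
    rw [hnu] at h
    push_cast at h
    exact_mod_cast (mul_left_cancel₀ hp0 h).symm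
  have hr1 : r0 + r1 = n := by
    have h := congrArg Subtype.val (trace_split hτ)
    rw [Subring.coe_add, Subring.coe_mul, Subring.coe_mul, Subring.coe_mul, hn] at h
    have h2 : (p : ℂ) * ((r0 : ℂ) + r1) = (p : ℂ) * n := by
      rw [mul_add]; simpa using h
    exact_mod_cast mul_left_cancel₀ hp0 h2
  have hS : (∑ ψ ∈ Y, ∑ l : P →* ℂˣ, acoef K ψ b l) * ((s : ℤ) * b1) =
      ((p : ℤ) - 1) * r0 - r1 := by
    have e1 : ∑ ψ ∈ Y, ∑ l : P →* ℂˣ, acoef K ψ b l =
        (p : ℤ) * (∑ ψ ∈ Y, co' ψ 1 : ℕ) - (∑ ψ ∈ Y, ∑ l, co' ψ l : ℕ) := by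
      push_cast
      rw [Finset.mul_sum, ← Finset.sum_sub_distrib]
      refine Finset.sum_congr rfl fun ψ _ => ?_
      simp only [acoef, co', Finset.sum_sub_distrib, Finset.sum_const, Finset.card_univ, card_dual K.D,
        K.hP, nsmul_eq_mul]
    have e2 : (r1 : ℤ) = n - r0 := by omega
    rw [e1, e2, hn', hr0]
    push_cast
    ring
  have hs : 0 < s := Nat.pos_of_ne_zero fun h0 => by
    have := irr_one_eq_charDegree ψ0
    rw [show charDegree (ψ0 : G → ℂ) = 0 from h0, Nat.cast_zero] at this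
    exact irr_one_ne_zero ψ0 this
  have hb : 0 < b1 := Nat.pos_of_ne_zero fun h0 => by
    have := irr_one_eq_charDegree b
    rw [show charDegree (b : V → ℂ) = 0 from h0, Nat.cast_zero] at this
    exact irr_one_ne_zero b this
  have hp1 : (((p - 1 : ℕ)) : ℤ) = (p : ℤ) - 1 := by have := K.hp.pos; omega
  have hpos : (0 : ℤ) < (s : ℤ) * b1 := by positivity
  have up : ((p : ℤ) - 1) * r0 - r1 ≤ ((p : ℤ) - 1) * ((s : ℤ) * b1) := by
    have h := hi0.trans (Nat.add_le_add_right (Nat.mul_le_mul_left (p - 1) hd0) _)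
    zify at h
    rw [hp1] at h
    linarith
  have down : (r1 : ℤ) - ((p : ℤ) - 1) * r0 ≤ ((p : ℤ) - 1) * ((s : ℤ) * b1) := by
    have h := hi1.trans (Nat.add_le_add_right (Nat.mul_le_mul_left (p - 1) hd1) _)
    rw [show n = r0 + r1 from hr1.symm] at h
    zify at h
    rw [hp1] at h
    linarith
  generalize (∑ ψ ∈ Y, ∑ l : P →* ℂˣ, acoef K ψ b l) = S at hS ⊢
  rw [abs_le]
  constructor
  · by_contra hlt
    push Not at hlt
    have := mul_lt_mul_of_pos_right hlt hpos
    rw [hS] at this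
    linarith
  · by_contra hlt
    push Not at hlt
    have := mul_lt_mul_of_pos_right hlt hpos
    rw [hS] at this
    linarith

end Cfsg.Agent.DefOne
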