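/-
The decomposition numbers attached to an irreducible character of `V`: the two families.
-/
import Cfsg.Agent.Lib.DefOne.Key
import Cfsg.Agent.Lib.DefOne.Comb

set_option linter.unusedSectionVars false
set_option linter.style.haveILetI false

namespace Cfsg.Agent.DefOne

open Cfsg Cfsg.Agent.Char Cfsg.Agent.Blocks Cfsg.Agent.CCSylow

open scoped ComplexConjugate

universe u

variable {G : Type u} [Group G] [Fintype G] {p : ℕ} {M : Ideal AlgInt} [M.IsPrime]
  {P V N : Subgroup G} {e : ℕ} (K : Conf p P V N e)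
  [Fintype P] [Fintype V] [Fintype N] [Fintype (P →* ℂˣ)]

/-- The two families of rows attached to `b`. -/
structure Families (b : IrrCharacter V) (eb : ℕ) (X Y : Finset (IrrCharacter G)) (δ : ℤ)
    (sg : IrrCharacter G → ℤ) : Prop where
  card_stab : Nat.card (stabB K b) = eb * (p * Nat.card V)
  sign : δ = 1 ∨ δ = -1
  disj : Disjoint X Y
  nonempty : Y.Nonempty
  cardX : X.card = eb
  cardY : Y.card * eb = p - 1
  zero : ∀ χ, χ ∉ X → χ ∉ Y → ∀ l, acoef K χ b l = 0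
  signX : ∀ χ ∈ X, sg χ = 1 ∨ sg χ = -1
  rowX : ∀ χ ∈ X, ∀ l, l ≠ 1 → acoef K χ b l = sg χ
  fixX : ∀ χ ∈ X, ∀ σ, FixesP p σ → galT σ χ = χ
  sumY : ∀ θ ∈ Y, ∑ l, acoef K θ b l = δ * eb
  valY : ∀ θ ∈ Y, ∀ l, acoef K θ b l = 0 ∨ acoef K θ b l = δ
  stableY : ∀ θ ∈ Y, ∀ σ, FixesP p σ → galT σ θ ∈ Y
  transY : ∀ θ ∈ Y, ∀ θ' ∈ Y, ∃ σ, FixesP p σ ∧ galT σ θ = θ'

/-- Powers of a fixed linear character, indexed by the units modulo `p`. -/
def col (l0 : P →* ℂˣ) (j : (ZMod p)ˣ) : P →* ℂˣ := l0 ^ (j : ZMod p).val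

include K

theorem linear_pow_eq_one (l : P →* ℂˣ) : l ^ p = 1 :=
  MonoidHom.ext fun y => Units.ext (by simpa [MonoidHom.pow_apply] using linear_pow_p K l y)

theorem linear_pow_mod (l : P →* ℂˣ) (k : ℕ) : l ^ (k % p) = l ^ k := by
  refine MonoidHom.ext fun y => ?_
  rw [MonoidHom.pow_apply, MonoidHom.pow_apply]
  conv_rhs => rw [← Nat.mod_add_div k p, pow_add, pow_mul,
    show l y ^ p = 1 from Units.ext (by simpa using linear_pow_p K l y), one_pow, mul_one]

theorem col_pow (l0 : P →* ℂˣ) [NeZero p] (i j : (ZMod p)ˣ) :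
    col l0 i ^ (j : ZMod p).val = col l0 (i * j) := by
  rw [col, col, Units.val_mul, ZMod.val_mul, linear_pow_mod K]
  exact MonoidHom.ext fun y => by simp [MonoidHom.pow_apply, pow_mul]

theorem col_one (l0 : P →* ℂˣ) : col l0 (1 : (ZMod p)ˣ) = l0 := by
  haveI := Fact.mk K.hp
  rw [col, Units.val_one, ZMod.val_one]
  exact MonoidHom.ext fun y => by simp [MonoidHom.pow_apply]

theorem lT_pow (w : N) (l : P →* ℂˣ) (k : ℕ) : lT K.D w (l ^ k) = lT K.D w l ^ k :=
  MonoidHom.ext fun y => by simp [lT_apply, MonoidHom.pow_apply]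

theorem exists_orderOf_eq {l0 : P →* ℂˣ} (hl : l0 ≠ 1) : ∃ y : P, orderOf (l0 y) = p := by
  haveI := Fact.mk K.hp
  obtain ⟨y, hy⟩ : ∃ y, l0 y ≠ 1 := not_forall.1 fun h => hl (MonoidHom.ext h)
  exact ⟨y, orderOf_eq_prime (Units.ext (by simpa using linear_pow_p K l0 y)) hy⟩

theorem col_ne_one {l0 : P →* ℂˣ} (hl : l0 ≠ 1) (j : (ZMod p)ˣ) : col l0 j ≠ 1 := fun h => by
  haveI := Fact.mk K.hp
  obtain ⟨y, hy⟩ := exists_orderOf_eq K hl
  have h1 : l0 y ^ (j : ZMod p).val = 1 := by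
    simpa [col, MonoidHom.pow_apply] using DFunLike.congr_fun h y
  have h2 := orderOf_dvd_of_pow_eq_one h1
  rw [hy] at h2
  exact j.ne_zero ((ZMod.val_eq_zero _).1 (Nat.eq_zero_of_dvd_of_lt h2 (ZMod.val_lt _)))

theorem col_injective {l0 : P →* ℂˣ} (hl : l0 ≠ 1) :
    Function.Injective (col (p := p) l0) := fun i j h => by
  haveI := Fact.mk K.hp
  obtain ⟨y, hy⟩ := exists_orderOf_eq K hl
  have h0 : l0 y ^ (i : ZMod p).val = l0 y ^ (j : ZMod p).val := by
    simpa [col, MonoidHom.pow_apply] using DFunLike.congr_fun h y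
  have h1 := pow_inj_mod.1 h0
  rw [hy, Nat.mod_eq_of_lt (ZMod.val_lt _), Nat.mod_eq_of_lt (ZMod.val_lt _)] at h1
  exact Units.ext (ZMod.val_injective p h1)

theorem exists_col {l0 m : P →* ℂˣ} (hl : l0 ≠ 1) (hm : m ≠ 1) :
    ∃ j : (ZMod p)ˣ, col l0 j = m := by
  haveI := Fact.mk K.hp
  obtain ⟨k, hk, rfl⟩ := exists_dual_pow K hl hm
  have hk0 : (k : ZMod p) ≠ 0 := fun h => hk ((ZMod.natCast_eq_zero_iff k p).1 h)
  exact ⟨Units.mk0 _ hk0, by rw [col, Units.val_mk0, ZMod.val_natCast, linear_pow_mod K]⟩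

/-- Sums over the nontrivial linear characters. -/
theorem sum_col {l0 : P →* ℂˣ} (hl : l0 ≠ 1) [Fact p.Prime] (F : (P →* ℂˣ) → ℤ) (h1 : F 1 = 0) :
    ∑ l, F l = ∑ j : (ZMod p)ˣ, F (col l0 j) := by
  classical
  rw [← Finset.sum_image (f := F) fun i _ j _ h => col_injective K hl h]
  refine (Finset.sum_subset (Finset.subset_univ _) fun l _ hlm => ?_).symm
  by_cases h : l = 1
  · rw [h, h1]
  · obtain ⟨j, rfl⟩ := exists_col K hl h
    exact absurd (Finset.mem_image.2 ⟨j, Finset.mem_univ _, rfl⟩) hlm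

theorem card_centralizer : Nat.card (Subgroup.centralizer (P : Set G)) = p * Nat.card V := by
  have hle : Subgroup.centralizer (P : Set G) ≤ N := K.hN ▸ Subgroup.centralizer_le_normalizer _
  have h := Subgroup.card_mul_index ((Subgroup.centralizer (P : Set G)).subgroupOf N)
  rw [K.D.he, Nat.card_congr (Subgroup.subgroupOfEquivOfLe hle).toEquiv, K.D.hcard, K.hP,
    mul_comm e] at h
  exact Nat.eq_of_mul_eq_mul_right (CCSylow.e_pos K.D) h

theorem mem_centralizer_of_fix {l : P →* ℂˣ} (hl : l ≠ 1) (x : N) (h : lT K.D x l = l) :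
    (x : G) ∈ Subgroup.centralizer (P : Set G) := by
  refine Subgroup.mem_centralizer_iff.2 fun y hy => ?_
  have h1 := DFunLike.congr_fun h ⟨y, hy⟩
  rw [lT_apply] at h1
  have h2 : l (⟨(x : G) * y * (x : G)⁻¹, K.D.hNP x x.2 y hy⟩ * ⟨y, hy⟩⁻¹) = 1 := by
    rw [map_mul, map_inv, h1, mul_inv_cancel]
  have h3 : (x : G) * y * (x : G)⁻¹ * y⁻¹ = 1 := by
    simpa using congrArg Subtype.val ((linear_eq_one_iff K hl _).1 h2)
  exact (mul_inv_eq_iff_eq_mul.1 (mul_inv_eq_one.1 h3)).symm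

theorem fix_of_mem_centralizer (x : N) (hx : (x : G) ∈ Subgroup.centralizer (P : Set G))
    (l : P →* ℂˣ) : lT K.D x l = l := by
  refine MonoidHom.ext fun y => ?_
  rw [lT_apply]
  congr 1
  refine Subtype.ext ?_
  show (x : G) * y * (x : G)⁻¹ = y
  rw [← Subgroup.mem_centralizer_iff.1 hx y y.2, mul_inv_cancel_right]

omit K [Fintype P] [Fintype V] [Fintype N] [Fintype (P →* ℂˣ)] in
theorem irr_regular_fixed {σ : ℂ ≃+* ℂ} (hσ : FixesP p σ) (χ : IrrCharacter G) {g : G}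
    (hg : ¬ p ∣ orderOf g) : σ ((χ : G → ℂ) g) = (χ : G → ℂ) g := by
  classical
  have h := CharGalois.map_char
    (IsCharacter.comp (IsIrrCharacter.isCharacter χ.2) (Subgroup.zpowers g).subtype)
    σ.toRingHom (k := 1)
    (fun z hz => by
      rw [pow_one]
      exact hσ z ⟨_, by rw [Nat.card_zpowers]; exact hg, hz⟩)
    ⟨g, Subgroup.mem_zpowers g⟩
  simpa using h

variable (hM : IsPModular p M) (b : IrrCharacter V)

include hM

open scoped Classical in
set_option maxHeartbeats 4000000 in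
/-- The two families exist. -/
theorem exists_families :
    ∃ (eb : ℕ) (X Y : Finset (IrrCharacter G)) (δ : ℤ) (sg : IrrCharacter G → ℤ),
      Families K b eb X Y δ sg := by
  haveI := Fact.mk K.hp
  obtain ⟨ζ, hζ⟩ : ∃ ζ : ℂ, IsPrimitiveRoot ζ p :=
    ⟨_, Complex.isPrimitiveRoot_exp p K.hp.ne_zero⟩
  obtain ⟨l0, hl0⟩ := exists_dual_ne_one K
  have hndvd : ∀ k : (ZMod p)ˣ, ¬ p ∣ (k : ZMod p).val := fun k h => k.ne_zero (by
    rw [← ZMod.natCast_zmod_val (k : ZMod p)]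
    exact (ZMod.natCast_eq_zero_iff _ _).2 h)
  choose σ hσ hσpow using fun k : (ZMod p)ˣ => exists_sigma hM (hndvd k)
  have hσζ : ∀ k, σ k ζ = ζ ^ (k : ZMod p).val := fun k => hσpow k ζ hζ.pow_eq_one
  letI hsmul : SMul (ZMod p)ˣ (IrrCharacter G) := ⟨fun k χ => galT (σ k) χ⟩
  letI hact : MulAction (ZMod p)ˣ (IrrCharacter G) :=
    { one_smul := fun χ => galT_eq_self K.hp K.hsq (hσ 1) hζ
        (by rw [hσζ, Units.val_one, ZMod.val_one, pow_one]) χ
      mul_smul := fun k k' χ => by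
        show galT (σ (k * k')) χ = galT (σ k) (galT (σ k') χ)
        rw [← galT_trans]
        refine galT_eq_of_eq K.hp K.hsq (hσ _) (FixesP.trans (hσ k') (hσ k)) hζ ?_ χ
        rw [RingEquiv.trans_apply, hσζ, hσζ, map_pow, hσζ, ← pow_mul, Units.val_mul, ZMod.val_mul]
        have h := pow_mod_orderOf ζ ((k : ZMod p).val * (k' : ZMod p).val)
        rw [← hζ.eq_orderOf] at h
        exact h }
  -- every automorphism fixing the regular roots of unity acts as one of the chosen ones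
  have hcover : ∀ τ : ℂ ≃+* ℂ, FixesP p τ → ∀ χ : IrrCharacter G,
      ∃ k : (ZMod p)ˣ, galT τ χ = k • χ := by
    intro τ hτ χ
    have h1 : IsPrimitiveRoot (τ ζ) p := hζ.map_of_injective τ.injective
    obtain ⟨i, hi, hik⟩ := hζ.eq_pow_of_pow_eq_one h1.pow_eq_one
    have hi0 : (i : ZMod p) ≠ 0 := fun h => by
      have h2 := Nat.eq_zero_of_dvd_of_lt ((ZMod.natCast_eq_zero_iff i p).1 h) hi
      rw [h2, pow_zero] at hik
      exact h1.ne_one K.hp.one_lt hik.symm
    refine ⟨Units.mk0 _ hi0, galT_eq_of_eq K.hp K.hsq hτ (hσ _) hζ ?_ χ⟩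
    rw [hσζ, Units.val_mk0, ZMod.val_natCast, Nat.mod_eq_of_lt hi, hik]
  -- the subgroup of units
  let H : Finset N := Finset.univ.filter fun x : N => (x : G) ∈ stabB K b
  have hlt_mul : ∀ (x y : N) (i j : (ZMod p)ˣ), lT K.D x l0 = col l0 i → lT K.D y l0 = col l0 j →
      lT K.D (x * y) l0 = col l0 (i * j) := by
    intro x y i j hx hy
    rw [lT_mul, hx, show col l0 i = l0 ^ (i : ZMod p).val from rfl, lT_pow K, hy, col_pow K,
      mul_comm]
  let U : Subgroup (ZMod p)ˣ :=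
    { carrier := {j | ∃ x ∈ H, lT K.D x l0 = col l0 j}
      one_mem' := ⟨1, Finset.mem_filter.2 ⟨Finset.mem_univ _, one_mem (stabB K b)⟩, by
        rw [lT_one, col_one K]⟩
      mul_mem' := by
        rintro i j ⟨x, hx, hxi⟩ ⟨y, hy, hyj⟩
        exact ⟨x * y, Finset.mem_filter.2 ⟨Finset.mem_univ _,
          mul_mem (Finset.mem_filter.1 hx).2 (Finset.mem_filter.1 hy).2⟩, hlt_mul x y i j hxi hyj⟩
      inv_mem' := by
        rintro i ⟨x, hx, hxi⟩
        obtain ⟨j, hj⟩ := exists_col K hl0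
          (fun h => hl0 ((lT_eq_one_iff K.D x⁻¹ l0).1 h) : lT K.D x⁻¹ l0 ≠ 1)
        refine ⟨x⁻¹, Finset.mem_filter.2 ⟨Finset.mem_univ _, inv_mem (Finset.mem_filter.1 hx).2⟩, ?_⟩
        have h1 := hlt_mul x x⁻¹ i j hxi hj.symm
        rw [mul_inv_cancel, lT_one] at h1
        have h2 := col_injective K hl0 ((col_one K l0).trans h1)
        rw [← hj, ← inv_eq_of_mul_eq_one_right h2.symm] }
  have hUmem : ∀ j, j ∈ U ↔ ∃ x ∈ H, lT K.D x l0 = col l0 j := fun j => Iff.rfl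
  -- the fibres
  have hfib : ∀ j ∈ U, (H.filter fun x => lT K.D x l0 = col l0 j).card = p * Nat.card V := by
    intro j hj
    obtain ⟨x0, hx0, hx0j⟩ := hj
    rw [← card_centralizer K, Nat.card_eq_fintype_card, ← Finset.card_univ]
    have hCN : ∀ c : Subgroup.centralizer (P : Set G), (c : G) ∈ N := fun c =>
      K.hN ▸ Subgroup.centralizer_le_normalizer _ c.2
    refine (Finset.card_bij (fun (c : Subgroup.centralizer (P : Set G)) _ => (⟨(c : G), hCN c⟩ : N) * x0) (fun c _ => ?_) ?_ ?_).symm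
    · simp only [H, Finset.mem_filter, Finset.mem_univ, true_and]
      refine ⟨mul_mem (centralizer_le_stabB K b c.2) (Finset.mem_filter.1 hx0).2, ?_⟩
      rw [lT_mul, fix_of_mem_centralizer K ⟨(c : G), hCN c⟩ c.2, hx0j]
    · intro c _ c' _ h
      have h2 := congrArg (fun x : N => (x : G)) (mul_right_cancel h)
      exact Subtype.ext h2
    · intro x hx
      simp only [H, Finset.mem_filter, Finset.mem_univ, true_and] at hx
      have h1 : lT K.D (x * x0⁻¹) l0 = l0 := by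
        rw [lT_mul, hx.2, ← hx0j, ← lT_mul, mul_inv_cancel, lT_one]
      exact ⟨⟨_, mem_centralizer_of_fix K hl0 _ h1⟩, Finset.mem_univ _,
        Subtype.ext (by simp)⟩
  have hH : H.card = Nat.card U * (p * Nat.card V) := by
    have hf : ∀ x : N, ∃ j, lT K.D x l0 = col l0 j := fun x => by
      obtain ⟨j, hj⟩ := exists_col K hl0
        (fun h => hl0 ((lT_eq_one_iff K.D x l0).1 h) : lT K.D x l0 ≠ 1)
      exact ⟨j, hj.symm⟩
    choose φ hφ using hf
    rw [Finset.card_eq_sum_card_fiberwise (f := φ) (t := Finset.univ.filter fun j => j ∈ U)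
      fun x hx => Finset.mem_filter.2 ⟨Finset.mem_univ _, ⟨x, hx, hφ x⟩⟩,
      Finset.sum_congr rfl fun j hj => ?_, Finset.sum_const, smul_eq_mul]
    · congr 1
      rw [Nat.card_eq_fintype_card, Fintype.card_subtype]
    · rw [← hfib j (Finset.mem_filter.1 hj).2]
      congr 1
      exact Finset.filter_congr fun x _ => ⟨fun h => h ▸ hφ x,
        fun h => col_injective K hl0 ((hφ x).symm.trans h)⟩
  have hHN : H.card = Nat.card (stabB K b) := by
    rw [← Nat.card_eq_finsetCard]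
    exact Nat.card_congr
      { toFun := fun x => ⟨(x.1 : G), (Finset.mem_filter.1 x.2).2⟩
        invFun := fun g => ⟨⟨(g : G), stabB_le K b g.2⟩, Finset.mem_filter.2
          ⟨Finset.mem_univ _, g.2⟩⟩
        left_inv := fun x => rfl
        right_inv := fun g => rfl }
  -- the matrix
  let a : IrrCharacter G → (ZMod p)ˣ → ℤ := fun χ j => acoef K χ b (col l0 j)
  have heq : ∀ (k : (ZMod p)ˣ) χ j, a (k • χ) (k * j) = a χ j := by
    intro k χ j
    show acoef K (galT (σ k) χ) b (col l0 (k * j)) = _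
    rw [mul_comm k j, ← col_pow K]
    exact acoef_sigma K (hσ k) (hσpow k) χ _ b
  have hgram : ∀ i j, ∑ χ, a χ i * a χ j =
      (Nat.card U : ℤ) + if j / i ∈ U then 1 else 0 := by
    intro i j
    have h := acoef_gram K b (col_ne_one K hl0 i) (col_ne_one K hl0 j)
    have h' : ∀ s t : Finset N, (∀ x : N, x ∈ s ↔ (x : G) ∈ stabB K b) →
        (∀ x : N, x ∈ t ↔ (x : G) ∈ stabB K b ∧ lT K.D x (col l0 i) = col l0 j) →
        ((Nat.card P * Nat.card V : ℕ) : ℂ) * ∑ χ : IrrCharacter G,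
          ((a χ i : ℤ) : ℂ) * (a χ j : ℤ) = (s.card : ℂ) + (t.card : ℂ) := by
      intro s t hs ht
      rw [h]
      congr 3 <;> ext x <;> simp [hs, ht]
    have hS : (H.filter fun x : N =>
        lT K.D x (col l0 i) = col l0 j).card = if j / i ∈ U then p * Nat.card V else 0 := by
      have hiff : ∀ x : N, lT K.D x (col l0 i) = col l0 j ↔ lT K.D x l0 = col l0 (j / i) := by
        intro x
        obtain ⟨k, hk⟩ := exists_col K hl0
          (fun h => hl0 ((lT_eq_one_iff K.D x l0).1 h) : lT K.D x l0 ≠ 1)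
        rw [show col l0 i = l0 ^ (i : ZMod p).val from rfl, lT_pow K, ← hk, col_pow K]
        constructor
        · intro h
          rw [← col_injective K hl0 h, mul_div_cancel_right]
        · intro h
          rw [col_injective K hl0 h, div_mul_cancel]
      simp only [hiff]
      split_ifs with hU
      · exact hfib _ hU
      · rw [Finset.card_eq_zero, Finset.filter_eq_empty_iff]
        exact fun x hx hx' => hU ⟨x, hx, hx'⟩
    replace h := h' H (H.filter fun x : N => lT K.D x (col l0 i) = col l0 j)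
      (fun x => by simp [H]) (fun x => by simp [H])
    rw [hS, hH, K.hP] at h
    have hc0 : ((p * Nat.card V : ℕ) : ℂ) ≠ 0 :=
      Nat.cast_ne_zero.2 (mul_ne_zero K.hp.ne_zero Nat.card_pos.ne')
    have h2 : ((∑ χ, a χ i * a χ j : ℤ) : ℂ) =
        (((Nat.card U : ℤ) + if j / i ∈ U then 1 else 0 : ℤ) : ℂ) := by
      refine mul_left_cancel₀ hc0 ?_
      push_cast at h ⊢
      rw [h]
      split_ifs <;> push_cast <;> ring
    exact_mod_cast h2
  have hsum : ∀ χ, ∑ l, acoef K χ b l = ∑ j, a χ j := fun χ =>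
    sum_col K hl0 _ (acoef_one K χ b)
  have hcardA : (Fintype.card (ZMod p)ˣ : ℤ) = (p : ℤ) - 1 := by
    rw [ZMod.card_units]; have := K.hp.one_lt; omega
  have hbound : ∀ χ, |∑ ψ ∈ orb (ZMod p)ˣ χ, ∑ j, a ψ j| ≤ (Fintype.card (ZMod p)ˣ : ℤ) := by
    intro χ
    rw [hcardA, ← Finset.sum_congr rfl fun ψ _ => hsum ψ]
    refine abs_sum_acoef_le K b _ hM ?_ ?_ (ψ0 := χ) (mem_orb.2 ⟨1, one_smul _ χ⟩)
    · intro τ hτ ψ hψ
      obtain ⟨k, rfl⟩ := mem_orb.1 hψ
      obtain ⟨k', hk'⟩ := hcover τ hτ (k • χ)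
      exact mem_orb.2 ⟨k' * k, by rw [mul_smul, hk']⟩
    · intro ψ hψ ψ' hψ'
      obtain ⟨k, rfl⟩ := mem_orb.1 hψ
      obtain ⟨k', rfl⟩ := mem_orb.1 hψ'
      exact ⟨σ (k' * k⁻¹), hσ _, show (k' * k⁻¹) • (k • χ) = k' • χ by
        rw [← mul_smul, inv_mul_cancel_right]⟩
  obtain ⟨X, Y, δ, hδ, hdis, hYne, hX, hY, hzero, hrowX, hrowY, horb⟩ :=
    exists_structure U a heq hgram hbound
  choose! sg hsg hsgrow hsgfix using hrowX
  refine ⟨Nat.card U, X, Y, δ, sg, ⟨hHN ▸ hH, hδ, hdis, hYne, hX, by rw [hY, ZMod.card_units],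
    ?_, hsg, ?_, ?_, ?_, ?_, ?_, ?_⟩⟩
  · intro χ hx hy l
    by_cases hl : l = 1
    · rw [hl, acoef_one]
    · obtain ⟨j, rfl⟩ := exists_col K hl0 hl
      exact hzero χ hx hy j
  · intro χ hχ l hl
    obtain ⟨j, rfl⟩ := exists_col K hl0 hl
    exact hsgrow χ hχ j
  · intro χ hχ τ hτ
    obtain ⟨k, hk⟩ := hcover τ hτ χ
    rw [hk, hsgfix χ hχ]
  · intro θ hθ
    obtain ⟨j0, hj0⟩ := hrowY θ hθ
    rw [hsum, Fintype.sum_equiv (Equiv.divRight j0) _ (fun j => if j ∈ U then δ else 0) hj0,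
      ← Finset.sum_filter, Finset.sum_const, nsmul_eq_mul, mul_comm, Nat.card_eq_fintype_card,
      Fintype.card_subtype]
  · intro θ hθ l
    by_cases hl : l = 1
    · exact Or.inl (by rw [hl, acoef_one])
    · obtain ⟨j, rfl⟩ := exists_col K hl0 hl
      obtain ⟨j0, hj0⟩ := hrowY θ hθ
      have h : a θ j = _ := hj0 j
      by_cases hU : j / j0 ∈ U
      · exact Or.inr (by show a θ j = δ; simp_all)
      · exact Or.inl (by show a θ j = 0; simp_all)
  · intro θ hθ τ hτ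
    obtain ⟨k, hk⟩ := hcover τ hτ θ
    rw [hk, ← horb θ hθ]
    exact mem_orb.2 ⟨k, rfl⟩
  · intro θ hθ θ' hθ'
    rw [← horb θ hθ] at hθ'
    obtain ⟨k, rfl⟩ := mem_orb.1 hθ'
    exact ⟨σ k, hσ k, rfl⟩

end Cfsg.Agent.DefOne
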