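/-
Consequences of the two families: the relation on the regular elements and values at `p`-elements.
-/
import Cfsg.Agent.Lib.DefOne.Main

set_option linter.unusedSectionVars false
set_option linter.style.haveILetI false

namespace Cfsg.Agent.DefOne

open Cfsg Cfsg.Agent.Char Cfsg.Agent.Blocks Cfsg.Agent.CCSylow

open scoped ComplexConjugate

universe u

variable {G : Type u} [Group G] [Fintype G] {p : ℕ}
  {P V N : Subgroup G} {e : ℕ} (K : Conf p P V N e)
  [Fintype P] [Fintype V] [Fintype N] [Fintype (P →* ℂˣ)]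
  {b : IrrCharacter V} {eb : ℕ} {X Y : Finset (IrrCharacter G)} {δ : ℤ}
  {sg : IrrCharacter G → ℤ}

include K

namespace Families

variable (F : Families K b eb X Y δ sg)

include F

theorem eb_pos : 0 < eb := by
  refine Nat.pos_of_ne_zero fun h => ?_
  have h1 := F.card_stab
  rw [h, zero_mul] at h1
  exact Nat.card_pos.ne' h1

theorem eb_dvd : eb ∣ p - 1 := ⟨Y.card, by rw [← F.cardY, mul_comm]⟩

theorem card_Y : Y.card = (p - 1) / eb := by
  rw [← F.cardY, Nat.mul_div_cancel _ (eb_pos K F)]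

theorem sum_X {χ : IrrCharacter G} (hχ : χ ∈ X) :
    ∑ l, acoef K χ b l = ((p : ℤ) - 1) * sg χ := by
  classical
  rw [← Finset.add_sum_erase _ _ (Finset.mem_univ (1 : P →* ℂˣ)), acoef_one, zero_add,
    Finset.sum_congr rfl fun l hl => F.rowX χ hχ l (Finset.ne_of_mem_erase hl), Finset.sum_const,
    Finset.card_erase_of_mem (Finset.mem_univ _), Finset.card_univ, card_dual K.D, K.hP,
    nsmul_eq_mul, Nat.cast_sub K.hp.pos, Nat.cast_one]

theorem agree {θ θ' : IrrCharacter G} (hθ : θ ∈ Y) (hθ' : θ' ∈ Y) {g : G}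
    (hg : ¬ p ∣ orderOf g) : (θ : G → ℂ) g = (θ' : G → ℂ) g := by
  obtain ⟨σ, hσ, rfl⟩ := F.transY θ hθ θ' hθ'
  rw [galT_apply, irr_regular_fixed hσ θ hg]

/-- The relation on the regular elements. -/
theorem relation {θ : IrrCharacter G} (hθ : θ ∈ Y) {g : G} (hg : ¬ p ∣ orderOf g) :
    ∑ χ ∈ X, (sg χ : ℂ) * (χ : G → ℂ) g + (δ : ℂ) * (θ : G → ℂ) g = 0 := by
  classical
  have h0 : ∑ χ : IrrCharacter G, ((∑ l, acoef K χ b l : ℤ) : ℂ) * (χ : G → ℂ) g = 0 := by
    simp only [Int.cast_sum, Finset.sum_mul]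
    rw [Finset.sum_comm]
    exact Finset.sum_eq_zero fun l _ => acoef_regular K b l hg
  rw [← Finset.sum_subset (Finset.subset_univ (X ∪ Y)) fun χ _ hχ => by
      rw [Finset.mem_union, not_or] at hχ
      simp [F.zero χ hχ.1 hχ.2],
    Finset.sum_union F.disj,
    Finset.sum_congr rfl fun χ hχ => show _ = ((p : ℂ) - 1) * ((sg χ : ℂ) * (χ : G → ℂ) g) by
      rw [sum_X K F hχ]; push_cast; ring,
    Finset.sum_congr rfl fun χ (hχ : χ ∈ Y) => show _ = (δ : ℂ) * eb * (θ : G → ℂ) g by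
      rw [F.sumY χ hχ, agree K F hχ hθ hg]; push_cast; ring,
    ← Finset.mul_sum, Finset.sum_const, nsmul_eq_mul] at h0
  have hY : (Y.card : ℂ) * eb = (p : ℂ) - 1 := by
    rw [← Nat.cast_mul, F.cardY, Nat.cast_sub K.hp.pos, Nat.cast_one]
  have hp1 : (p : ℂ) - 1 ≠ 0 := sub_ne_zero.2 (Nat.cast_ne_one.2 K.hp.ne_one)
  refine mul_left_cancel₀ hp1 ?_
  rw [mul_zero]
  linear_combination h0 - (δ : ℂ) * (θ : G → ℂ) g * hY

/-- The exact value of a component on the first family. -/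
theorem phi_X {χ : IrrCharacter G} (hχ : χ ∈ X) {y : P} (hy : y ≠ 1) :
    phi (χ : G → ℂ) b y = (sg χ : ℂ) := by
  classical
  have h := sum_linear K.D y
  rw [if_neg hy, ← Finset.add_sum_erase _ _ (Finset.mem_univ (1 : P →* ℂˣ))] at h
  rw [phi_eq_acoef K χ b hy, ← Finset.add_sum_erase _ _ (Finset.mem_univ (1 : P →* ℂˣ)), acoef_one,
    Int.cast_zero, zero_mul, zero_add, Finset.sum_congr rfl fun l hl => by
      rw [F.rowX χ hχ l (Finset.ne_of_mem_erase hl)], ← Finset.mul_sum]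
  simp only [MonoidHom.one_apply, Units.val_one] at h
  linear_combination (-(sg χ : ℂ)) * h

theorem exists_ne_zero {χ : IrrCharacter G} (hχ : χ ∈ X ∨ χ ∈ Y) :
    ∑ l, acoef K χ b l ≠ 0 := by
  rcases hχ with h | h
  · rw [sum_X K F h]
    have := K.hp.one_lt
    rcases F.signX χ h with e | e <;> rw [e] <;> omega
  · rw [F.sumY χ h]
    have := eb_pos K F
    rcases F.sign with e | e <;> rw [e] <;> omega

end Families

/-- A component at a nontrivial `p`-element is congruent to the sum of the decomposition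
numbers. -/
theorem phi_congr {M : Ideal AlgInt} [M.IsPrime] (hM : IsPModular p M) (χ : IrrCharacter G)
    (b : IrrCharacter V) {y : P} (hy : y ≠ 1) :
    MemLocalIdeal M (phi (χ : G → ℂ) b y + ((∑ l, acoef K χ b l : ℤ) : ℂ)) := by
  rw [phi_eq_acoef K χ b hy, Int.cast_sum, neg_add_eq_sub, ← Finset.sum_sub_distrib]
  refine memLocalIdeal_sum _ _ fun l _ => ?_
  rw [show (acoef K χ b l : ℂ) - (acoef K χ b l : ℂ) * (l y : ℂ) =
    (-(acoef K χ b l) : ℤ) * ((l y : ℂ) - 1) by push_cast; ring]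
  exact MemLocalIdeal.mul_left (intCast_mem (locRing M) _)
    (memLocalIdeal_sub_one_of_pow_eq_one hM (k := 1) (by rw [pow_one]; exact linear_pow_p K l y))

end Cfsg.Agent.DefOne
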