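/-
The blocks of full defect of a group with a Sylow subgroup of prime order.
-/
import Cfsg.Agent.Lib.DefOne.Apply
import Cfsg.Agent.Lib.Blocks.SecondMain
import Cfsg.Agent.Lib.Blocks.Congruence
import Cfsg.Agent.Lib.Blocks.SubsectionRow
import Cfsg.Agent.Lib.Blocks.Covering
import Cfsg.Agent.Lib.Blocks.ExtFirstMain
import Cfsg.Agent.Lib.Blocks.Defect

set_option linter.unusedSectionVars false
set_option linter.style.haveILetI false

namespace Cfsg.Agent.DefOne

open Cfsg Cfsg.Agent.Char Cfsg.Agent.Blocks Cfsg.Agent.CCSylow Cfsg.Agent.BrauerPairs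

open scoped ComplexConjugate

universe u

variable {G : Type u} [Group G] [Fintype G] {p : ℕ} {M : Ideal AlgInt} [M.IsPrime]

/-- A reformulation of the conjugacy of the inducing blocks. -/
theorem exists_conj_inducing' [Fact p.Prime] (hM : IsPModular p M) {P C : Subgroup G}
    (hC : C = P ⊔ Subgroup.centralizer (P : Set G)) {B : Set (IrrCharacter G)}
    (hD : IsDefectGroup p M B P) {b b' : Set (IrrCharacter C)}
    (hb : IsInducedBlock M C b B) (hb' : IsInducedBlock M C b' B) :
    ∃ n ∈ Subgroup.normalizer (P : Set G), ∀ θ ∈ b, ∃ θ' ∈ b', ∀ x : C,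
      ∀ hx : n * (x : G) * n⁻¹ ∈ C,
        (θ' : C → ℂ) x = (θ : C → ℂ) ⟨n * (x : G) * n⁻¹, hx⟩ := by
  subst hC
  exact exists_conj_inducing hM hD hb hb'

variable {P V N : Subgroup G} {e : ℕ} (K : Conf p P V N e)
  [Fintype P] [Fintype V] [Fintype N] [Fintype (P →* ℂˣ)]

include K

theorem orderOf_P' {y : G} (hy : y ∈ P) (hy1 : y ≠ 1) : orderOf y = p :=
  (K.hp.eq_one_or_self_of_dvd _
    ((Subgroup.orderOf_dvd_natCard P hy).trans K.hP.dvd)).resolve_left
    fun h => hy1 (orderOf_eq_one_iff.1 h)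

theorem exists_ne_one_P : ∃ y : P, y ≠ 1 := by
  haveI : Nontrivial P := Finite.one_lt_card_iff_nontrivial.1 (K.hP.symm ▸ K.hp.one_lt)
  exact exists_ne _

theorem factorization_card : (Nat.card G).factorization p = 1 := by
  have h1 : 1 ≤ (Nat.card G).factorization p :=
    (K.hp.dvd_iff_one_le_factorization Nat.card_pos.ne').1 (K.hP ▸ Subgroup.card_subgroup_dvd_card P)
  have h2 : ¬ 2 ≤ (Nat.card G).factorization p := fun h =>
    K.hsq ((K.hp.pow_dvd_iff_le_factorization Nat.card_pos.ne').2 h)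
  omega

/-- The rows attached to `b`. -/
def InR (χ : IrrCharacter G) (b : IrrCharacter V) : Prop := ∃ l, acoef K χ b l ≠ 0

theorem mem_iff_inR {b : IrrCharacter V} {eb : ℕ} {X Y : Finset (IrrCharacter G)} {δ : ℤ}
    {sg : IrrCharacter G → ℤ} (F : Families K b eb X Y δ sg) (χ : IrrCharacter G) :
    χ ∈ X ∨ χ ∈ Y ↔ InR K χ b := by
  refine ⟨fun h => ?_, fun ⟨l, hl⟩ => ?_⟩
  · by_contra h'
    exact Families.exists_ne_zero K F h
      (Finset.sum_eq_zero fun l _ => Classical.byContradiction fun hl => h' ⟨l, hl⟩)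
  · by_contra h
    push Not at h
    exact hl (F.zero χ h.1 h.2 l)

theorem phi_eq_zero_of_not_inR {χ : IrrCharacter G} {b : IrrCharacter V} (h : ¬ InR K χ b) {y : P}
    (hy : y ≠ 1) : phi (χ : G → ℂ) b y = 0 := by
  rw [phi_eq_acoef K χ b hy]
  simp only [InR, not_exists, not_not] at h
  simp [h]

theorem not_inR_of_phi_eq_zero {χ : IrrCharacter G} {b : IrrCharacter V}
    (h : ∀ y : P, y ≠ 1 → phi (χ : G → ℂ) b y = 0) : ¬ InR K χ b := by
  rintro ⟨l, hl⟩
  refine hl ?_
  have h1 := acoef_eq_phi K χ b l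
  rw [Finset.sum_eq_zero fun y _ => ?_, mul_zero] at h1
  · exact_mod_cast h1
  · by_cases hy : y = 1
    · subst hy; simp
    · rw [h y hy, zero_mul]

theorem bT_mul (x y : N) (b : IrrCharacter V) :
    bT K.D (x * y) b = bT K.D y (bT K.D x b) :=
  Subtype.ext (funext fun v => congrArg (b : V → ℂ) (Subtype.ext (by
    show ((x : G) * y) * (v : G) * ((x : G) * y)⁻¹ = x * ((y : G) * v * (y : G)⁻¹) * (x : G)⁻¹
    group)))

theorem bT_one (b : IrrCharacter V) : bT K.D (1 : N) b = b :=
  Subtype.ext (funext fun v => congrArg (b : V → ℂ) (Subtype.ext (by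
    show (1 : G) * (v : G) * (1 : G)⁻¹ = v
    group)))

theorem bT_apply_one (w : N) (b : IrrCharacter V) :
    (bT K.D w b : V → ℂ) 1 = (b : V → ℂ) 1 :=
  congrArg (b : V → ℂ) (Subtype.ext (by show (w : G) * 1 * (w : G)⁻¹ = 1; group))

theorem acoef_bT (χ : IrrCharacter G) (w : N) (b : IrrCharacter V) (l : P →* ℂˣ) :
    acoef K χ (bT K.D w b) (lT K.D w l) = acoef K χ b l := by
  unfold acoef
  rw [nco_inv K.D (IsIrrCharacter.isCharacter χ.2) w l b]
  congr 2
  conv_lhs => rw [← lT_triv K.D w]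
  exact nco_inv K.D (IsIrrCharacter.isCharacter χ.2) w 1 b

theorem lT_bijective (w : N) : Function.Bijective (lT K.D w) := by
  have h : ∀ (a : N) (l : P →* ℂˣ), lT K.D a⁻¹ (lT K.D a l) = l := fun a l => by
    rw [← lT_mul, mul_inv_cancel, lT_one]
  refine ⟨Function.LeftInverse.injective (h w), fun l => ⟨lT K.D w⁻¹ l, ?_⟩⟩
  simpa using h w⁻¹ l

theorem sum_acoef_bT (χ : IrrCharacter G) (w : N) (b : IrrCharacter V) :
    ∑ l, acoef K χ (bT K.D w b) l = ∑ l, acoef K χ b l := by
  rw [← Fintype.sum_bijective _ (lT_bijective K w) (fun l => acoef K χ (bT K.D w b) (lT K.D w l))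
    (fun l => acoef K χ (bT K.D w b) l) fun _ => rfl]
  exact Finset.sum_congr rfl fun l _ => acoef_bT K χ w b l

theorem inR_bT (χ : IrrCharacter G) (w : N) (b : IrrCharacter V) :
    InR K χ (bT K.D w b) ↔ InR K χ b := by
  refine ⟨fun ⟨l, hl⟩ => ?_, fun ⟨l, hl⟩ => ⟨lT K.D w l, by rwa [acoef_bT]⟩⟩
  obtain ⟨l', rfl⟩ := (lT_bijective K w).2 l
  exact ⟨l', by rwa [← acoef_bT K χ w b l']⟩

/-- The values on a section through the components. -/
theorem expansion_phi (χ : IrrCharacter G) (y : P) (v : V) :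
    (χ : G → ℂ) ((y : G) * v) = ∑ b : IrrCharacter V, phi (χ : G → ℂ) b y * (b : V → ℂ) v := by
  rw [expansion K.D (IsCharacter.isClassFunction (IsIrrCharacter.isCharacter χ.2)) y v,
    Finset.sum_comm]
  exact Finset.sum_congr rfl fun b _ => by rw [phi_eq_sum K, Finset.sum_mul]

/-- The `N`-orbit of a character of `V`. -/
noncomputable def orbB (b : IrrCharacter V) : Finset (IrrCharacter V) :=
  open Classical in Finset.univ.image fun w : N => bT K.D w b

theorem mem_orbB {b b' : IrrCharacter V} : b' ∈ orbB K b ↔ ∃ w : N, bT K.D w b = b' := by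
  simp [orbB]

theorem card_orbB (b : IrrCharacter V) :
    (orbB K b).card * Nat.card (stabB K b) = Nat.card N := by
  classical
  rw [Nat.card_eq_fintype_card (α := N), ← Finset.card_univ,
    Finset.card_eq_sum_card_image (fun w : N => bT K.D w b) Finset.univ, Finset.sum_congr rfl fun b' hb' => ?_,
    Finset.sum_const, smul_eq_mul]
  · congr 1
  · obtain ⟨w0, -, rfl⟩ := Finset.mem_image.1 hb'
    rw [← Nat.card_eq_finsetCard]
    refine Nat.card_congr
      { toFun := fun w => ⟨((w.1 * w0⁻¹ : N) : G), (w.1 * w0⁻¹).2, ?_⟩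
        invFun := fun g => ⟨⟨(g : G), stabB_le K b g.2⟩ * w0,
          Finset.mem_filter.2 ⟨Finset.mem_univ _, ?_⟩⟩
        left_inv := fun w => Subtype.ext (Subtype.ext (by simp))
        right_inv := fun g => Subtype.ext (by simp) }
    · show bT K.D (w.1 * w0⁻¹) b = b
      rw [bT_mul K, (Finset.mem_filter.1 w.2).2, ← bT_mul K, mul_inv_cancel, bT_one K]
    · obtain ⟨hg, hgb⟩ := g.2
      rw [bT_mul K, show bT K.D (⟨(g : G), stabB_le K b g.2⟩ : N) b = b from hgb]

variable (hM : IsPModular p M)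

include hM

/-- Characters of degree divisible by `p` vanish on the singular sections. -/
theorem section_zero_of_dvd {χ : IrrCharacter G} (h : p ∣ charDegree (χ : G → ℂ)) {y : P}
    (hy : y ≠ 1) (v : V) : (χ : G → ℂ) ((y : G) * v) = 0 := by
  classical
  have hy1 : (y : G) ≠ 1 := fun h => hy (Subtype.ext h)
  have hdeg : (charDegree (χ : G → ℂ)).factorization p = (Nat.card G).factorization p :=
    le_antisymm (degExp_le_card χ) (by
      rw [factorization_card K]
      exact (K.hp.dvd_iff_one_le_factorization (charDegree_pos χ).ne').1 h)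
  have hB : IsPBlock M ({χ} : Set (IrrCharacter G)) :=
    blockOf_eq_singleton hM χ hdeg ▸ isPBlock_blockOf χ
  have hv : ¬ p ∣ orderOf (v : G) := fun h' =>
    K.hV (h'.trans (Subgroup.orderOf_dvd_natCard V v.2))
  have hz := blockPair_eq_zero_of_pPart hM hB
    ((isPPart_one_iff K.hp).2 (by simpa using K.hp.ne_one) : IsPPart p (1 : G) 1)
    (h := (y : G) * v) (y := (y : G)) ⟨(v : G), rfl, K.D.pv _ y.2 _ v.2,
      ⟨1, by rw [orderOf_P' K y.2 hy1, pow_one]⟩, hv⟩
    fun hc => hy1 (isConj_one_right.1 hc)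
  rw [blockPair_eq_finsum, finsum_mem_singleton] at hz
  exact (map_eq_zero (starRingEnd ℂ)).1 ((mul_eq_zero.1 hz).resolve_left (irr_one_ne_zero χ))

theorem not_dvd_of_inR {χ : IrrCharacter G} {b : IrrCharacter V} (h : InR K χ b) :
    ¬ p ∣ charDegree (χ : G → ℂ) := fun hd => by
  refine not_inR_of_phi_eq_zero K (fun y hy => ?_) h
  simp [phi, section_zero_of_dvd K hM hd hy]

theorem exists_inR {χ : IrrCharacter G} (h : ¬ p ∣ charDegree (χ : G → ℂ)) :
    ∃ b : IrrCharacter V, InR K χ b := by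
  by_contra hn
  push Not at hn
  obtain ⟨y, hy⟩ := exists_ne_one_P K
  have hy1 : (y : G) ≠ 1 := fun h => hy (Subtype.ext h)
  have h0 : (χ : G → ℂ) y = 0 := by
    have := expansion_phi K χ y 1
    rw [OneMemClass.coe_one, mul_one] at this
    rw [this, Finset.sum_eq_zero fun b _ => ?_]
    rw [phi_eq_zero_of_not_inR K (hn b) hy, zero_mul]
  have h1 := char_sub_one_mem hM (IsIrrCharacter.isCharacter χ.2) (x := (y : G))
    ⟨1, by rw [orderOf_P' K y.2 hy1, pow_one]⟩
  rw [h0, zero_sub, irr_one_eq_charDegree] at h1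
  have h2 := MemLocalIdeal.neg h1
  rw [neg_neg, natCast_memLocalIdeal_iff hM] at h2
  exact h h2

theorem phi_ne_zero {χ : IrrCharacter G} {b : IrrCharacter V} (h : InR K χ b) {y : P}
    (hy : y ≠ 1) : phi (χ : G → ℂ) b y ≠ 0 := by
  obtain ⟨eb, X, Y, δ, sg, F⟩ := exists_families K hM b
  intro h0
  have hc := phi_congr K hM χ b hy
  rw [h0, zero_add, intCast_memLocalIdeal_iff hM] at hc
  have hp1 := K.hp.one_lt
  rcases (mem_iff_inR K F χ).2 h with hX | hY
  · rw [Families.sum_X K F hX] at hc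
    have : (p : ℤ) ∣ sg χ := by
      have := dvd_sub (dvd_mul_right (p : ℤ) (sg χ)) hc
      simpa [sub_mul] using this
    rcases F.signX χ hX with e | e <;> rw [e] at this
    · exact absurd (Int.le_of_dvd one_pos this) (by omega)
    · rw [dvd_neg] at this
      exact absurd (Int.le_of_dvd one_pos this) (by omega)
  · rw [F.sumY χ hY] at hc
    have hpe : (p : ℤ) ∣ (eb : ℤ) := by
      rcases F.sign with e | e <;> rw [e] at hc <;> simpa using hc
    have h3 := Nat.le_of_dvd (Families.eb_pos K F) (Int.natCast_dvd_natCast.1 hpe)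
    have h4 := Nat.le_of_dvd (by omega) (Families.eb_dvd K F)
    omega

/-! ## The centralizer -/

variable {C : Subgroup G} [Fintype C] (hC : C = Subgroup.centralizer (P : Set G))

omit hM in
/-- The product map onto the centralizer. -/
noncomputable def muC (hC : C = Subgroup.centralizer (P : Set G)) : P × V →* C :=
  (mu K.D).codRestrict C fun x => hC ▸ (K.hC _).2 ⟨_, x.1.2, _, x.2.2, rfl⟩

omit hM in
theorem muC_bijective : Function.Bijective (muC K hC) := by
  refine ⟨(injective_iff_map_eq_one _).2 fun x hx => ?_, fun c => ?_⟩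
  · have h : (x.1 : G) * x.2 = 1 := congrArg Subtype.val hx
    have h1 : (x.1 : G) = (x.2 : G)⁻¹ := eq_inv_of_mul_eq_one_left h
    have h2 : (x.1 : G) ∈ P ⊓ V := ⟨x.1.2, h1 ▸ V.inv_mem x.2.2⟩
    rw [Subgroup.inf_eq_bot_of_coprime K.D.cop, Subgroup.mem_bot] at h2
    rw [h2, one_mul] at h
    exact Prod.ext (Subtype.ext h2) (Subtype.ext h)
  · have hc := c.2
    simp only [hC] at hc
    obtain ⟨y, hy, v, hv, hyv⟩ := (K.hC _).1 hc
    exact ⟨(⟨y, hy⟩, ⟨v, hv⟩), Subtype.ext hyv⟩

omit hM in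
theorem V_le (hC : C = Subgroup.centralizer (P : Set G)) : V ≤ C := fun v hv =>
  hC ▸ (K.hC v).2 ⟨1, one_mem P, v, hv, one_mul v⟩

omit hM in
/-- The projection to `V`. -/
noncomputable def prV (hC : C = Subgroup.centralizer (P : Set G)) : C →* V :=
  (MonoidHom.snd P V).comp (MulEquiv.ofBijective _ (muC_bijective K hC)).symm.toMonoidHom

omit hM in
theorem prV_muC (x : P × V) : prV K hC (muC K hC x) = x.2 := by
  show (MonoidHom.snd P V) ((MulEquiv.ofBijective _ (muC_bijective K hC)).symm _) = _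
  rw [show muC K hC x = MulEquiv.ofBijective _ (muC_bijective K hC) x from rfl,
    MulEquiv.symm_apply_apply]
  rfl

omit hM in
theorem prV_incl (v : V) : prV K hC ⟨(v : G), V_le K hC v.2⟩ = v := by
  have h := prV_muC K hC (1, v)
  rwa [show muC K hC (1, v) = ⟨(v : G), V_le K hC v.2⟩ from Subtype.ext (one_mul (v : G))] at h

omit hM in
/-- The inflation to the centralizer. -/
noncomputable def thetaC (hC : C = Subgroup.centralizer (P : Set G)) (b : IrrCharacter V) :
    IrrCharacter C :=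
  ⟨fun c => (b : V → ℂ) (prV K hC c),
    IsIrrCharacter.comp b.2 (prV K hC) fun v => ⟨_, prV_incl K hC v⟩⟩

omit hM in
/-- The multiplicity of `b` in the restriction to `V`. -/
noncomputable def resV (hC : C = Subgroup.centralizer (P : Set G)) (f : C → ℂ) (b : IrrCharacter V) :
    ℂ :=
  (Nat.card V : ℂ)⁻¹ * ∑ v : V, f ⟨(v : G), V_le K hC v.2⟩ * conj ((b : V → ℂ) v)

omit hM in
open scoped Classical in
theorem resV_thetaC (b b' : IrrCharacter V) :
    resV K hC (thetaC K hC b : C → ℂ) b' = if b = b' then 1 else 0 := by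
  rw [resV, Finset.sum_congr rfl fun v _ => show _ = (b : V → ℂ) v * conj ((b' : V → ℂ) v) by
    show (b : V → ℂ) (prV K hC _) * _ = _
    rw [prV_incl]]
  have h := classInner_irr b.2 b'.2
  rw [classInner] at h
  rw [h]
  by_cases hb : b = b'
  · simp [hb]
  · rw [if_neg hb, if_neg fun hh => hb (Subtype.ext hh)]

theorem mem_blockOf_thetaC (b : IrrCharacter V) (ψ : IrrCharacter C) :
    ψ ∈ blockOf M (thetaC K hC b : C → ℂ) ↔ resV K hC (ψ : C → ℂ) b ≠ 0 := by
  classical
  haveI : (V.subgroupOf C).Normal := ⟨fun v hv c => by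
    have hc : (c : G) ∈ N := K.hN ▸ Subgroup.centralizer_le_normalizer _ (hC ▸ c.2)
    exact K.D.hNV _ hc _ hv⟩
  let E : V.subgroupOf C ≃* V := Subgroup.subgroupOfEquivOfLe (V_le K hC)
  let bS : IrrCharacter V → IrrCharacter (V.subgroupOf C) := fun b' =>
    ⟨fun n => (b' : V → ℂ) (E n), IsIrrCharacter.comp b'.2 E.toMonoidHom E.surjective⟩
  have hcard : Nat.card (V.subgroupOf C) = Nat.card V := Nat.card_congr E.toEquiv
  have hres : ∀ (ξ : IrrCharacter C) (b' : IrrCharacter V),
      classInner (fun n : V.subgroupOf C => (ξ : C → ℂ) n) (bS b' : V.subgroupOf C → ℂ) =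
        resV K hC (ξ : C → ℂ) b' := by
    intro ξ b'
    rw [classInner, resV, hcard]
    congr 1
    refine Fintype.sum_equiv E.toEquiv _ _ fun n => ?_
    rfl
  have hidx : ∃ k : ℕ, (V.subgroupOf C).index = p ^ k := by
    refine ⟨1, ?_⟩
    have h := Subgroup.card_mul_index (V.subgroupOf C)
    rw [hcard, show Nat.card C = p * Nat.card V by rw [hC, card_centralizer K], mul_comm p] at h
    rw [pow_one]
    exact Nat.eq_of_mul_eq_mul_left Nat.card_pos h
  rw [mem_blockOf, sameBlock_iff_common_constituent _ hM (hcard ▸ K.hV) hidx]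
  constructor
  · rintro ⟨θ, h1, h2⟩
    obtain ⟨b', rfl⟩ : ∃ b', bS b' = θ :=
      ⟨⟨fun v => (θ : V.subgroupOf C → ℂ) (E.symm v),
        IsIrrCharacter.comp θ.2 E.symm.toMonoidHom E.symm.surjective⟩,
        Subtype.ext (funext fun n => congrArg (θ : V.subgroupOf C → ℂ) (E.symm_apply_apply n))⟩
    rw [hres, resV_thetaC] at h1
    rw [hres] at h2
    by_cases hb : b = b'
    · rwa [hb]
    · exact absurd (if_neg hb) h1
  · intro h
    exact ⟨bS b, by rw [hres, resV_thetaC, if_pos rfl]; exact one_ne_zero, by rwa [hres]⟩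

/-- A component not killed by the second main theorem gives the inducing block. -/
theorem induced_of_inR {χ : IrrCharacter G} {b : IrrCharacter V} (h : InR K χ b) :
    IsInducedBlock M C (blockOf M (thetaC K hC b : C → ℂ)) (blockOf M (χ : G → ℂ)) := by
  classical
  by_contra hnot
  obtain ⟨y, hy⟩ := exists_ne_one_P K
  have hy1 : (y : G) ≠ 1 := fun h => hy (Subtype.ext h)
  refine phi_ne_zero K hM h hy ?_
  have hC' : C = Subgroup.centralizer ({(y : G)} : Set G) :=
    hC.trans (centralizer_singleton_eq K.hp K.hP y.2 hy1).symm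
  have hreg : ∀ v : V, ¬ p ∣ orderOf (⟨(v : G), V_le K hC v.2⟩ : C) := fun v hd => by
    rw [← Subgroup.orderOf_coe] at hd
    exact K.hV (hd.trans (Subgroup.orderOf_dvd_natCard V v.2))
  have hcl := isClassFunction_secFun hC'
    (IsCharacter.isClassFunction (IsIrrCharacter.isCharacter χ.2))
  have hzero : ∀ c ∈ blocks M C, ∑ v : V, blockPart c (secFun (y : G) C (χ : G → ℂ))
      ⟨(v : G), V_le K hC v.2⟩ * conj ((b : V → ℂ) v) = 0 := by
    intro c hc
    by_cases hcb : c = blockOf M (thetaC K hC b : C → ℂ)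
    · subst hcb
      refine Finset.sum_eq_zero fun v _ => ?_
      rw [blockPart_secFun_eq_zero hM ⟨1, by rw [orderOf_P' K y.2 hy1, pow_one]⟩ hC'
        (isPBlock_blockOf χ) (self_mem_blockOf χ) (isPBlock_blockOf _) hnot (hreg v), zero_mul]
    · simp only [blockPart_eq_sum, Finset.sum_mul]
      rw [Finset.sum_comm]
      refine Finset.sum_eq_zero fun ψ hψ => ?_
      have h0 : resV K hC (ψ : C → ℂ) b = 0 := by
        by_contra h0
        exact hcb (isPBlock_eq_of_mem (mem_blocks.1 hc) (isPBlock_blockOf _)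
          (Finset.mem_filter.1 hψ).2 ((mem_blockOf_thetaC K hM hC b ψ).2 h0))
      rw [resV, mul_eq_zero, inv_eq_zero, Nat.cast_eq_zero] at h0
      have h1 := h0.resolve_left Nat.card_pos.ne'
      simp only [mul_assoc, ← Finset.mul_sum, h1, mul_zero]
  rw [phi, Finset.sum_congr rfl fun (v : V) _ => show _ = (∑ c ∈ blocks M C,
      blockPart c (secFun (y : G) C (χ : G → ℂ)) ⟨(v : G), V_le K hC v.2⟩) * conj ((b : V → ℂ) v) by
    rw [sum_blockPart hcl]; rfl]
  simp only [Finset.sum_mul]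
  rw [Finset.sum_comm, Finset.sum_eq_zero hzero, mul_zero]

omit [Fintype C] in
/-- A block containing a character of degree prime to `p` has `P` as a defect group. -/
theorem isDefectGroup_P {B : Set (IrrCharacter G)} (hB : IsPBlock M B) {χ : IrrCharacter G}
    (hχ : χ ∈ B) (hdeg : ¬ p ∣ charDegree (χ : G → ℂ)) : IsDefectGroup p M B P := by
  haveI := Fact.mk K.hp
  obtain ⟨D, hD⟩ := exists_isDefectGroup (p := p) hB
  have hd : blockDefect p B = 1 := by
    have h1 := degExp_ge hM hB hχ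
    rw [Nat.factorization_eq_zero_of_not_dvd hdeg, factorization_card K] at h1
    have h2 := blockDefect_le (p := p) B
    rw [factorization_card K] at h2
    omega
  have hcard : Nat.card D = p := by rw [card_defectGroup hM hB hD, hd, pow_one]
  have hidx : ∀ H : Subgroup G, Nat.card H = p → ¬ p ∣ H.index := fun H hH hdvd => K.hsq (by
    rw [← Subgroup.card_mul_index H, hH, pow_two]
    exact mul_dvd_mul_left p hdvd)
  let S1 : Sylow p G := IsPGroup.toSylow (isPGroup_defectGroup hD) (hidx D hcard)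
  let S2 : Sylow p G :=
    IsPGroup.toSylow (IsPGroup.of_card (n := 1) (by rw [pow_one]; exact K.hP)) (hidx P K.hP)
  obtain ⟨g, hg⟩ := MulAction.exists_smul_eq G S1 S2
  have he : D.map (MulAut.conj g).toMonoidHom = P := congrArg (fun S : Sylow p G => (S : Subgroup G)) hg
  exact he ▸ IsDefectGroup.map_conj hD g

/-- Characters sharing a block come from conjugate characters of `V`. -/
theorem exists_conj_of_block {χ χ' : IrrCharacter G} {b b' : IrrCharacter V} (h : InR K χ b)
    (h' : InR K χ' b') (hB : blockOf M (χ : G → ℂ) = blockOf M (χ' : G → ℂ)) :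
    ∃ w : N, bT K.D w b = b' := by
  classical
  haveI := Fact.mk K.hp
  let C := Subgroup.centralizer (P : Set G)
  haveI : Fintype C := Fintype.ofFinite _
  have hi := induced_of_inR K hM (C := C) rfl h
  have hi' := induced_of_inR K hM (C := C) rfl h'
  rw [← hB] at hi'
  have hD := isDefectGroup_P K hM (isPBlock_blockOf χ) (self_mem_blockOf χ) (not_dvd_of_inR K hM h)
  have hPC : P ≤ C := fun y hy => (K.hC y).2 ⟨y, hy, 1, one_mem V, mul_one y⟩
  obtain ⟨n, hn, hconj⟩ := exists_conj_inducing' hM (sup_eq_right.2 hPC).symm hD hi hi'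
  obtain ⟨θ', hθ', he⟩ := hconj _ (self_mem_blockOf (thetaC K (C := C) rfl b))
  have hnN : n ∈ N := K.hN ▸ hn
  refine ⟨⟨n, hnN⟩, ?_⟩
  have h1 := (mem_blockOf_thetaC K hM (C := C) rfl b' θ').1 hθ'
  have h2 : resV K (C := C) rfl (θ' : C → ℂ) b' =
      resV K (C := C) rfl (thetaC K (C := C) rfl (bT K.D ⟨n, hnN⟩ b) : C → ℂ) b' := by
    rw [resV, resV]
    congr 1
    refine Finset.sum_congr rfl fun v _ => ?_
    congr 1
    have hv : n * (v : G) * n⁻¹ ∈ V := K.D.hNV n hnN _ v.2
    rw [he ⟨(v : G), V_le K rfl v.2⟩ (V_le K rfl hv)]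
    show (b : V → ℂ) (prV K (C := C) rfl _) = (bT K.D ⟨n, hnN⟩ b : V → ℂ) (prV K (C := C) rfl _)
    rw [prV_incl K (C := C) rfl v, prV_incl K (C := C) rfl ⟨_, hv⟩]
    rfl
  rw [h2, resV_thetaC] at h1
  by_contra hne
  exact h1 (if_neg hne)

/-- A block with a character of degree prime to `p` consists of the rows of one character of
`V`. -/
theorem block_eq {χ : IrrCharacter G} {b : IrrCharacter V} (h : InR K χ b) :
    blockOf M (χ : G → ℂ) = {ψ | InR K ψ b} := by
  ext ψ
  constructor
  · intro hψ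
    have he : blockOf M (χ : G → ℂ) = blockOf M (ψ : G → ℂ) :=
      isPBlock_eq_blockOf (isPBlock_blockOf χ) hψ
    have hdeg : ¬ p ∣ charDegree (ψ : G → ℂ) := fun hd => by
      have h1 : (charDegree (ψ : G → ℂ)).factorization p = (Nat.card G).factorization p :=
        le_antisymm (degExp_le_card ψ) (by
          rw [factorization_card K]
          exact (K.hp.dvd_iff_one_le_factorization (charDegree_pos ψ).ne').1 hd)
      rw [blockOf_eq_singleton hM ψ h1] at he
      have : χ = ψ := by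
        have h2 := self_mem_blockOf (M := M) χ
        rw [he] at h2
        exact h2
      exact not_dvd_of_inR K hM h (this ▸ hd)
    obtain ⟨b', hb'⟩ := exists_inR K hM hdeg
    obtain ⟨w, rfl⟩ := exists_conj_of_block K hM h hb' he
    exact (inR_bT K ψ w b).1 hb'
  · intro hψ
    let C := Subgroup.centralizer (P : Set G)
    haveI : Fintype C := Fintype.ofFinite _
    have := isInducedBlock_unique (induced_of_inR K hM (C := C) rfl h)
      (induced_of_inR K hM (C := C) rfl hψ)
    rw [this]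
    exact self_mem_blockOf ψ

open scoped Classical in
/-- Degrees modulo `p`. -/
theorem degree_congr' {χ : IrrCharacter G} {b : IrrCharacter V} (h : InR K χ b) :
    (charDegree (χ : G → ℂ) : ℤ) ≡
      -((orbB K b).card * charDegree (b : V → ℂ) * ∑ l, acoef K χ b l) [ZMOD p] := by
  obtain ⟨y, hy⟩ := exists_ne_one_P K
  have hy1 : (y : G) ≠ 1 := fun h => hy (Subtype.ext h)
  have hval : (χ : G → ℂ) y = ∑ b' ∈ orbB K b, phi (χ : G → ℂ) b' y * (b : V → ℂ) 1 := by
    have h1 := expansion_phi K χ y 1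
    rw [OneMemClass.coe_one, mul_one] at h1
    rw [h1, ← Finset.sum_subset (Finset.subset_univ (orbB K b)) fun b' _ hb' => ?_]
    · refine Finset.sum_congr rfl fun b' hb' => ?_
      obtain ⟨w, rfl⟩ := (mem_orbB K).1 hb'
      rw [bT_apply_one K]
    · have hn : ¬ InR K χ b' := fun h' => hb' ((mem_orbB K).2 (exists_conj_of_block K hM h h' rfl))
      rw [phi_eq_zero_of_not_inR K hn hy, zero_mul]
  have h1 : MemLocalIdeal M ((χ : G → ℂ) y +
      ((orbB K b).card : ℂ) * ((b : V → ℂ) 1 * ((∑ l, acoef K χ b l : ℤ) : ℂ))) := by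
    rw [hval, ← nsmul_eq_mul, ← Finset.sum_const, ← Finset.sum_add_distrib]
    refine memLocalIdeal_sum _ _ fun b' hb' => ?_
    obtain ⟨w, rfl⟩ := (mem_orbB K).1 hb'
    rw [← sum_acoef_bT K χ w b, mul_comm (phi _ _ _), ← mul_add]
    exact MemLocalIdeal.mul_left (mem_locRing.1 (mem_locRing_of_isIntegral (irr_isIntegral b 1)))
      (phi_congr K hM χ _ hy)
  have h2 := MemLocalIdeal.sub h1
    (char_sub_one_mem hM (IsIrrCharacter.isCharacter χ.2) ⟨1, by rw [orderOf_P' K y.2 hy1, pow_one]⟩)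
  rw [irr_one_eq_charDegree, irr_one_eq_charDegree] at h2
  refine (Int.modEq_iff_dvd.2 ?_).symm
  rw [← intCast_memLocalIdeal_iff hM]
  convert h2 using 1
  push_cast
  ring

end Cfsg.Agent.DefOne
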