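/-
The principal block of a group with a Sylow subgroup of prime order.
-/
import Cfsg.Agent.Lib.DefOne.Apply
import Cfsg.Agent.Lib.Blocks.SecondMain
import Cfsg.Agent.Lib.Blocks.Congruence
import Cfsg.Agent.Lib.Blocks.SubsectionRow

set_option linter.unusedSectionVars false
set_option linter.style.haveILetI false

namespace Cfsg.Agent.DefOne

open Cfsg Cfsg.Agent.Char Cfsg.Agent.Blocks Cfsg.Agent.CCSylow

open scoped ComplexConjugate

universe u

variable {G : Type u} [Group G] [Fintype G] {p : ℕ} {M : Ideal AlgInt} [M.IsPrime]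
  {P V N : Subgroup G} {e : ℕ} (K : Conf p P V N e)
  [Fintype P] [Fintype V] [Fintype N] [Fintype (P →* ℂˣ)]

/-- The trivial character of `V`. -/
def trivB (V : Subgroup G) [Fintype V] : IrrCharacter V := ⟨fun _ => 1, isIrrCharacter_one⟩

include K

theorem stabB_triv : stabB K (trivB V) = N :=
  le_antisymm (stabB_le K _) fun _ hx => ⟨hx, Subtype.ext (funext fun _ => rfl)⟩

theorem eb_triv {eb : ℕ} {X Y : Finset (IrrCharacter G)} {δ : ℤ} {sg : IrrCharacter G → ℤ}
    (F : Families K (trivB V) eb X Y δ sg) : eb = e := by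
  have h := F.card_stab
  rw [stabB_triv K, K.D.hcard, K.hP] at h
  exact (Nat.eq_of_mul_eq_mul_right (Nat.mul_pos K.hp.pos Nat.card_pos) h).symm

theorem orderOf_P {y : G} (hy : y ∈ P) (hy1 : y ≠ 1) : orderOf y = p :=
  (K.hp.eq_one_or_self_of_dvd _
    ((Subgroup.orderOf_dvd_natCard P hy).trans K.hP.dvd)).resolve_left
    fun h => hy1 (orderOf_eq_one_iff.1 h)

theorem centralizer_P {y : G} (hy : y ∈ P) (hy1 : y ≠ 1) :
    Subgroup.centralizer (P : Set G) = Subgroup.centralizer ({y} : Set G) :=
  (centralizer_singleton_eq K.hp K.hP hy hy1).symm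

theorem V_le_centralizer : V ≤ Subgroup.centralizer (P : Set G) := fun v hv =>
  (K.hC v).2 ⟨1, one_mem P, v, hv, one_mul v⟩

theorem V_normal : (V.subgroupOf (Subgroup.centralizer (P : Set G))).Normal := ⟨fun v hv c => by
  have hc : (c : G) ∈ N := K.hN ▸ Subgroup.centralizer_le_normalizer _ c.2
  exact K.D.hNV _ hc _ hv⟩

/-- A regular element of the centralizer lies in `V`. -/
theorem mem_V_of_regular {x : G} (hx : x ∈ Subgroup.centralizer (P : Set G))
    (hreg : ¬ p ∣ orderOf x) : x ∈ V := by
  obtain ⟨y, hy, v, hv, rfl⟩ := (K.hC x).1 hx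
  by_cases hy1 : y = 1
  · rw [hy1, one_mul]; exact hv
  exfalso
  refine hreg ?_
  have hov : ¬ p ∣ orderOf v := fun h => K.hV (h.trans (Subgroup.orderOf_dvd_natCard V hv))
  rw [(show Commute y v from K.D.pv y hy v hv).orderOf_mul_eq_mul_orderOf_of_coprime
    (by rw [orderOf_P K hy hy1]; exact K.hp.coprime_iff_not_dvd.2 hov), orderOf_P K hy hy1]
  exact dvd_mul_right p _

variable (hM : IsPModular p M)

include hM

/-- Characters of the principal block are constant on the section of a nontrivial element. -/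
theorem section_const {χ : IrrCharacter G} (hχ : χ ∈ principalBlock M G) {y : G} (hy : y ∈ P)
    (hy1 : y ≠ 1) {v : G} (hv : v ∈ V) : (χ : G → ℂ) (y * v) = (χ : G → ℂ) y := by
  haveI : Fintype (Subgroup.centralizer (P : Set G)) := Fintype.ofFinite _
  haveI := V_normal K
  exact irr_section_of_kernel hM ⟨1, by rw [orderOf_P K hy hy1, pow_one]⟩ (centralizer_P K hy hy1)
    hχ (V.subgroupOf _)
    (by rw [Nat.card_congr (Subgroup.subgroupOfEquivOfLe (V_le_centralizer K)).toEquiv]; exact K.hV)
    (v := ⟨v, V_le_centralizer K hv⟩) hv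

theorem phi_principal {χ : IrrCharacter G} (hχ : χ ∈ principalBlock M G) {y : P} (hy : y ≠ 1) :
    phi (χ : G → ℂ) (trivB V) y = (χ : G → ℂ) y := by
  have hy1 : (y : G) ≠ 1 := fun h => hy (Subtype.ext h)
  rw [phi, Finset.sum_congr rfl fun v _ => show _ = (χ : G → ℂ) y by
    rw [section_const K hM hχ y.2 hy1 v.2]
    show (χ : G → ℂ) y * conj (1 : ℂ) = _
    rw [map_one, mul_one], Finset.sum_const, Finset.card_univ, nsmul_eq_mul,
    ← Nat.card_eq_fintype_card, inv_mul_cancel_left₀ (Nat.cast_ne_zero.2 Nat.card_pos.ne')]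

/-- Characters of the principal block do not vanish on `P`. -/
theorem value_ne_zero {χ : IrrCharacter G} (hχ : χ ∈ principalBlock M G) {y : G} (hy : y ∈ P)
    (hy1 : y ≠ 1) : (χ : G → ℂ) y ≠ 0 := by
  intro h0
  have h : MemLocalIdeal M (centralChar (fun _ : G => (1 : ℂ)) y - centralChar (χ : G → ℂ) y) := hχ y
  simp only [centralChar, h0, mul_zero, zero_div, sub_zero, mul_one, div_one] at h
  rw [natCast_memLocalIdeal_iff hM] at h
  refine K.hsq ?_
  rw [← Subgroup.card_mul_index (Subgroup.centralizer ({y} : Set G)), pow_two]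
  refine mul_dvd_mul ?_ h
  rw [← centralizer_P K hy hy1, card_centralizer K]
  exact dvd_mul_right p _

/-- Outside the principal block the component vanishes. -/
theorem phi_not_principal {χ : IrrCharacter G} (hχ : χ ∉ principalBlock M G) {y : P} (hy : y ≠ 1) :
    phi (χ : G → ℂ) (trivB V) y = 0 := by
  classical
  have hy1 : (y : G) ≠ 1 := fun h => hy (Subtype.ext h)
  haveI : Fintype (Subgroup.centralizer (P : Set G)) := Fintype.ofFinite _
  haveI := V_normal K
  have hpair : blockPair (principalBlock M G) (y : G) (y : G) = (p : ℂ) := by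
    have h1 := sum_normSq_section_principal hM (x := (y : G))
      ⟨1, by rw [orderOf_P K y.2 hy1, pow_one]⟩ (centralizer_P K y.2 hy1)
      (y := (1 : Subgroup.centralizer (P : Set G))) (by simpa using K.hp.ne_one)
    rw [OneMemClass.coe_one, mul_one] at h1
    have hidx : (V.subgroupOf (Subgroup.centralizer (P : Set G))).index = p ^ 1 := by
      have h := Subgroup.card_mul_index (V.subgroupOf (Subgroup.centralizer (P : Set G)))
      rw [Nat.card_congr (Subgroup.subgroupOfEquivOfLe (V_le_centralizer K)).toEquiv,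
        card_centralizer K, mul_comm p] at h
      rw [pow_one]
      exact Nat.eq_of_mul_eq_mul_left Nat.card_pos h
    have hfac : (Nat.card (Subgroup.centralizer (P : Set G))).factorization p = 1 := by
      rw [card_centralizer K, Nat.factorization_mul K.hp.ne_zero Nat.card_pos.ne']
      rw [Finsupp.add_apply, K.hp.factorization_self, Nat.factorization_eq_zero_of_not_dvd K.hV]
    rw [h1, blockPair_principal_of_pComplement hM (V.subgroupOf _)
      (by rw [Nat.card_congr (Subgroup.subgroupOfEquivOfLe (V_le_centralizer K)).toEquiv]; exact K.hV)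
      ⟨1, hidx⟩ (by simpa using K.hp.ne_one), hfac, pow_one]
  have htot : ∑ χ : IrrCharacter G,
      phi (χ : G → ℂ) (trivB V) y * conj (phi (χ : G → ℂ) (trivB V) y) = (p : ℂ) := by
    rw [phi_gram K (trivB V) hy]
    have hcard : (Finset.univ.filter fun x : N => (x : G) ∈ stabB K (trivB V) ∧
        (x : G) * y * (x : G)⁻¹ = y).card = p * Nat.card V := by
      rw [← card_centralizer K, ← Nat.card_eq_finsetCard]
      refine Nat.card_congr
        { toFun := fun x => ⟨(x.1 : G), ?_⟩
          invFun := fun c => ⟨⟨(c : G), K.hN ▸ Subgroup.centralizer_le_normalizer _ c.2⟩, ?_⟩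
          left_inv := fun x => rfl
          right_inv := fun c => rfl }
      · rw [centralizer_P K y.2 hy1, Subgroup.mem_centralizer_singleton_iff]
        have := (Finset.mem_filter.1 x.2).2.2
        exact (mul_inv_eq_iff_eq_mul.1 this)
      · refine Finset.mem_filter.2 ⟨Finset.mem_univ _, ?_, ?_⟩
        · rw [stabB_triv K]; exact K.hN ▸ Subgroup.centralizer_le_normalizer _ c.2
        · show (c : G) * y * (c : G)⁻¹ = y
          rw [← Subgroup.mem_centralizer_iff.1 c.2 y y.2, mul_inv_cancel_right]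
    rw [hcard, Nat.cast_mul, mul_comm (p : ℂ), inv_mul_cancel_left₀
      (Nat.cast_ne_zero.2 Nat.card_pos.ne')]
  rw [← Finset.sum_filter_add_sum_filter_not Finset.univ (· ∈ principalBlock M G)] at htot
  have hB : ∑ ψ ∈ Finset.univ.filter (· ∈ principalBlock M G),
      phi (ψ : G → ℂ) (trivB V) y * conj (phi (ψ : G → ℂ) (trivB V) y) = (p : ℂ) := by
    rw [← hpair]
    unfold blockPair
    refine Finset.sum_congr (by ext; simp) fun ψ hψ => ?_
    rw [phi_principal K hM (by simpa using hψ) hy]
  rw [hB, add_eq_left] at htot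
  have hre : ∑ ψ ∈ Finset.univ.filter (fun ψ => ¬ ψ ∈ principalBlock M G),
      Complex.normSq (phi (ψ : G → ℂ) (trivB V) y) = 0 := by
    simp only [Complex.mul_conj, ← Complex.ofReal_sum, Complex.ofReal_eq_zero] at htot
    exact htot
  exact Complex.normSq_eq_zero.1
    ((Finset.sum_eq_zero_iff_of_nonneg fun ψ _ => Complex.normSq_nonneg _).1 hre χ
      (Finset.mem_filter.2 ⟨Finset.mem_univ _, hχ⟩))

/-- The principal block is the union of the two families. -/
theorem principal_eq {eb : ℕ} {X Y : Finset (IrrCharacter G)} {δ : ℤ} {sg : IrrCharacter G → ℤ}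
    (F : Families K (trivB V) eb X Y δ sg) :
    principalBlock M G = (X : Set (IrrCharacter G)) ∪ (Y : Set (IrrCharacter G)) := by
  classical
  ext χ
  refine ⟨fun hχ => ?_, fun hχ => ?_⟩
  · by_contra h
    simp only [Set.mem_union, Finset.mem_coe, not_or] at h
    haveI : Nontrivial P := Finite.one_lt_card_iff_nontrivial.1 (K.hP.symm ▸ K.hp.one_lt)
    obtain ⟨y, hy⟩ := exists_ne (1 : P)
    refine value_ne_zero K hM hχ y.2 (fun h' => hy (Subtype.ext h')) ?_
    rw [← phi_principal K hM hχ hy, phi_eq_acoef K χ _ hy]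
    simp [F.zero χ h.1 h.2]
  · by_contra h
    refine Families.exists_ne_zero K F hχ (Finset.sum_eq_zero fun l _ => ?_)
    have h1 := acoef_eq_phi K χ (trivB V) l
    rw [Finset.sum_eq_zero fun y _ => ?_, mul_zero] at h1
    · exact_mod_cast h1
    · by_cases hy : y = 1
      · subst hy; simp
      · rw [phi_not_principal K hM h hy, zero_mul]

/-- Degrees modulo `p`. -/
theorem degree_congr {χ : IrrCharacter G} (hχ : χ ∈ principalBlock M G) :
    (charDegree (χ : G → ℂ) : ℤ) ≡ -(∑ l, acoef K χ (trivB V) l) [ZMOD p] := by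
  haveI : Nontrivial P := Finite.one_lt_card_iff_nontrivial.1 (K.hP.symm ▸ K.hp.one_lt)
  obtain ⟨y, hy⟩ := exists_ne (1 : P)
  have hy1 : (y : G) ≠ 1 := fun h => hy (Subtype.ext h)
  have h1 := phi_congr K hM χ (trivB V) hy
  rw [phi_principal K hM hχ hy] at h1
  have h2 := MemLocalIdeal.sub h1
    (char_sub_one_mem hM (IsIrrCharacter.isCharacter χ.2) ⟨1, by rw [orderOf_P K y.2 hy1, pow_one]⟩)
  rw [irr_one_eq_charDegree] at h2
  refine (Int.modEq_iff_dvd.2 ?_).symm
  rw [← intCast_memLocalIdeal_iff hM]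
  convert h2 using 1
  push_cast
  ring

end Cfsg.Agent.DefOne
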