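/-
A norm estimate on the centralizer of a Sylow subgroup of prime order, outside the centre.
-/
import Cfsg.Agent.Lib.DefOne.Setup

set_option linter.unusedSectionVars false
set_option linter.style.haveILetI false

namespace Cfsg.Agent.DefOne

open Cfsg Cfsg.Agent.Char Cfsg.Agent.CCSylow

open scoped ComplexConjugate

universe u

variable {G : Type u} [Group G] [Fintype G]

/-- The square sum of an irreducible character over a set whose conjugates are controlled. -/
theorem sum_normSq_lt (η : IrrCharacter G) (D : Finset G) (N : Subgroup G) (h1 : (1 : G) ∉ D)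
    (hTI : ∀ u ∈ D, ∀ g : G, g * u * g⁻¹ ∈ D → g ∈ N) :
    ∑ u ∈ D, Complex.normSq ((η : G → ℂ) u) < (Nat.card N : ℝ) := by
  classical
  set F : G → ℝ := fun x => Complex.normSq ((η : G → ℂ) x) with hF
  have hcl : ∀ g u : G, F (g * u * g⁻¹) = F u := fun g u => by
    simp only [hF]
    rw [IsCharacter.isClassFunction (IsIrrCharacter.isCharacter η.2) u g]
  have hall : ∑ x : G, F x = (Nat.card G : ℝ) := by
    have h := classInner_self_irr η.2
    rw [classInner, inv_mul_eq_iff_eq_mul₀ (Nat.cast_ne_zero.2 Nat.card_pos.ne'), mul_one] at h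
    simp only [Complex.mul_conj, ← Complex.ofReal_sum] at h
    simp only [hF]
    exact_mod_cast h
  have hfib : ∀ x : G, ((Finset.univ ×ˢ D).filter fun a : G × G => a.1 * a.2 * a.1⁻¹ = x).card ≤
      Nat.card N := by
    intro x
    set T := (Finset.univ ×ˢ D).filter fun a : G × G => a.1 * a.2 * a.1⁻¹ = x with hT
    rcases T.eq_empty_or_nonempty with h | ⟨a, ha⟩
    · simp [h]
    simp only [hT, Finset.mem_filter, Finset.mem_product, Finset.mem_univ, true_and] at ha
    rw [Nat.card_eq_fintype_card, ← Finset.card_univ (α := N),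
      ← Finset.card_image_of_injective _ (f := fun n : N => (a.1 * (n : G), (n : G)⁻¹ * a.2 * n))
        fun n m h => Subtype.ext (mul_left_cancel (congrArg Prod.fst h))]
    refine Finset.card_le_card fun b hb => ?_
    simp only [hT, Finset.mem_filter, Finset.mem_product, Finset.mem_univ, true_and] at hb
    have e : (a.1⁻¹ * b.1) * b.2 * (a.1⁻¹ * b.1)⁻¹ = a.2 := by
      rw [show (a.1⁻¹ * b.1) * b.2 * (a.1⁻¹ * b.1)⁻¹ = a.1⁻¹ * (b.1 * b.2 * b.1⁻¹) * a.1 by group,
        hb.2, ← ha.2]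
      group
    refine Finset.mem_image.2 ⟨⟨a.1⁻¹ * b.1, hTI _ hb.1 _ (e.symm ▸ ha.1)⟩, Finset.mem_univ _,
      Prod.ext (mul_inv_cancel_left _ _) ?_⟩
    show (a.1⁻¹ * b.1)⁻¹ * a.2 * (a.1⁻¹ * b.1) = b.2
    rw [← e]
    group
  have hpush : (Nat.card G : ℝ) * ∑ u ∈ D, F u =
      ∑ x : G, (((Finset.univ ×ˢ D).filter fun a : G × G => a.1 * a.2 * a.1⁻¹ = x).card : ℝ) * F x := by
    have h2 : ∑ a ∈ (Finset.univ : Finset G) ×ˢ D, F (a.1 * a.2 * a.1⁻¹) =
        (Nat.card G : ℝ) * ∑ u ∈ D, F u := by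
      rw [Finset.sum_product]
      simp only [hcl, Finset.sum_const, Finset.card_univ, nsmul_eq_mul, Nat.card_eq_fintype_card]
    rw [← h2, ← Finset.sum_fiberwise (Finset.univ ×ˢ D) (fun a : G × G => a.1 * a.2 * a.1⁻¹)]
    refine Finset.sum_congr rfl fun x _ => ?_
    rw [Finset.sum_congr rfl fun a ha => show F (a.1 * a.2 * a.1⁻¹) = F x by
      rw [(Finset.mem_filter.1 ha).2], Finset.sum_const, nsmul_eq_mul]
  have hzero : ((Finset.univ ×ˢ D).filter fun a : G × G => a.1 * a.2 * a.1⁻¹ = 1).card = 0 := by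
    rw [Finset.card_eq_zero, Finset.filter_eq_empty_iff]
    intro a ha h
    rw [conj_eq_one_iff] at h
    exact h1 (h ▸ (Finset.mem_product.1 ha).2)
  have hG : (0 : ℝ) < Nat.card G := Nat.cast_pos.2 Nat.card_pos
  have hN : (0 : ℝ) < Nat.card N := Nat.cast_pos.2 Nat.card_pos
  have hF1 : 0 < F 1 := Complex.normSq_pos.2 (IsIrrCharacter.one_ne_zero η.2)
  refine lt_of_mul_lt_mul_left ?_ hG.le
  rw [hpush]
  refine lt_of_lt_of_le (Finset.sum_lt_sum (fun x _ => ?_) ⟨1, Finset.mem_univ _, ?_⟩)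
    (le_of_eq (show ∑ x : G, (Nat.card N : ℝ) * F x = (Nat.card G : ℝ) * Nat.card N by
      rw [← Finset.mul_sum, hall, mul_comm]))
  · exact mul_le_mul_of_nonneg_right (by exact_mod_cast hfib x) (Complex.normSq_nonneg _)
  · rw [hzero, Nat.cast_zero, zero_mul]
    exact mul_pos hN hF1

variable {p : ℕ} {P V N : Subgroup G} {e : ℕ} (K : Conf p P V N e)
  [Fintype P] [Fintype V] [Fintype N] [Fintype (P →* ℂˣ)]

include K

theorem mu_injective : Function.Injective (mu K.D) := by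
  refine (injective_iff_map_eq_one _).2 fun x hx => ?_
  have h : (x.1 : G) * x.2 = 1 := hx
  have h1 : (x.1 : G) = (x.2 : G)⁻¹ := eq_inv_of_mul_eq_one_left h
  have h2 : (x.1 : G) ∈ P ⊓ V := ⟨x.1.2, h1 ▸ V.inv_mem x.2.2⟩
  rw [Subgroup.inf_eq_bot_of_coprime K.D.cop, Subgroup.mem_bot] at h2
  rw [h2, one_mul] at h
  exact Prod.ext (Subtype.ext h2) (Subtype.ext h)

variable (Z : Subgroup G) [Z.Normal] (hZV : Z ≤ V)
  (hTI : ∀ u ∈ Subgroup.centralizer (P : Set G), u ∉ Z → ∀ g : G,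
    g * u * g⁻¹ ∈ Subgroup.centralizer (P : Set G) → g * u * g⁻¹ ∉ Z → g ∈ N)
  (η : IrrCharacter G) (hker : ∀ x ∈ Z, (η : G → ℂ) x = (η : G → ℂ) 1)

include hZV hTI hker

theorem TI_estimates :
    ((p : ℝ) * Nat.card V) *
        (∑ l : P →* ℂˣ, ∑ b : IrrCharacter V,
          (nco K.D (IsIrrCharacter.isCharacter η.2) l b : ℝ) ^ 2) -
        (Nat.card Z : ℝ) * (charDegree (η : G → ℂ) : ℝ) ^ 2 < (e : ℝ) * (p * Nat.card V) ∧
    ∀ b : IrrCharacter V, (∀ v : V, (b : V → ℂ) v = 1) →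
      ∑ l : P →* ℂˣ, ((nco K.D (IsIrrCharacter.isCharacter η.2) l b : ℝ) -
        (Nat.card Z : ℝ) * charDegree (η : G → ℂ) / (p * Nat.card V)) ^ 2 < e := by
  classical
  set hη := IsIrrCharacter.isCharacter η.2
  set d := charDegree (η : G → ℂ) with hd
  have hdeg : (η : G → ℂ) 1 = (d : ℂ) := CharX.irr_deg η
  set f' : G → ℂ := fun x => if x ∈ Z then 0 else (η : G → ℂ) x with hf'
  have hcl' : IsClassFunction G f' := fun a c => by
    simp only [hf']
    have hiff : c * a * c⁻¹ ∈ Z ↔ a ∈ Z := by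
      refine ⟨fun h => ?_, fun h => Subgroup.Normal.conj_mem ‹Z.Normal› a h c⟩
      have := Subgroup.Normal.conj_mem ‹Z.Normal› _ h c⁻¹
      simpa [mul_assoc] using this
    rw [IsCharacter.isClassFunction hη a c]
    simp [hiff]
  have hmem : ∀ x : P × V, mu K.D x ∈ Z ↔ x.1 = 1 ∧ (x.2 : G) ∈ Z := by
    intro x
    refine ⟨fun h => ?_, fun ⟨h1, h2⟩ => ?_⟩
    · have h' : (x.1 : G) * x.2 ∈ Z := h
      have h2 : (x.1 : G) ∈ P ⊓ V := ⟨x.1.2, by
        have := V.mul_mem (hZV h') (V.inv_mem x.2.2)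
        rwa [mul_inv_cancel_right] at this⟩
      rw [Subgroup.inf_eq_bot_of_coprime K.D.cop, Subgroup.mem_bot] at h2
      rw [h2, one_mul] at h'
      exact ⟨Subtype.ext h2, h'⟩
    · show (x.1 : G) * x.2 ∈ Z
      rw [h1, OneMemClass.coe_one, one_mul]
      exact h2
  have hcardZ : (Finset.univ.filter fun x : P × V => mu K.D x ∈ Z).card = Nat.card Z := by
    rw [← Nat.card_eq_finsetCard]
    refine Nat.card_congr
      { toFun := fun x => ⟨(x.1.2 : G), ((hmem _).1 (Finset.mem_filter.1 x.2).2).2⟩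
        invFun := fun z => ⟨((1 : P), ⟨(z : G), hZV z.2⟩),
          Finset.mem_filter.2 ⟨Finset.mem_univ _, (hmem _).2 ⟨rfl, z.2⟩⟩⟩
        left_inv := fun x => Subtype.ext (Prod.ext
          ((hmem _).1 (Finset.mem_filter.1 x.2).2).1.symm rfl)
        right_inv := fun z => rfl }
  set S : Finset G :=
    (Finset.univ.filter fun x : P × V => mu K.D x ∉ Z).image (mu K.D) with hS
  have hCmu : ∀ x : P × V, mu K.D x ∈ Subgroup.centralizer (P : Set G) := fun x =>
    (K.hC _).2 ⟨_, x.1.2, _, x.2.2, rfl⟩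
  have hlt := sum_normSq_lt η S N (fun h1 => by
      obtain ⟨x, hx, he⟩ := Finset.mem_image.1 h1
      exact (Finset.mem_filter.1 hx).2 (he ▸ one_mem Z))
    (fun u hu g hg => by
      obtain ⟨x, hx, rfl⟩ := Finset.mem_image.1 hu
      obtain ⟨y, hy, hy'⟩ := Finset.mem_image.1 hg
      exact hTI _ (hCmu x) (Finset.mem_filter.1 hx).2 g (hy' ▸ hCmu y)
        (hy' ▸ (Finset.mem_filter.1 hy).2))
  rw [hS, Finset.sum_image fun x _ y _ h => mu_injective K h, K.D.hcard, K.hP] at hlt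
  push_cast at hlt
  set T : ℝ := ∑ x ∈ Finset.univ.filter fun x : P × V => mu K.D x ∉ Z,
    Complex.normSq ((η : G → ℂ) (mu K.D x)) with hT
  -- the two Parseval identities
  have hpars : ∀ f : G → ℂ, IsClassFunction G f →
      ∑ x : P × V, Complex.normSq (f (mu K.D x)) = ((p : ℝ) * Nat.card V) *
        ∑ l : P →* ℂˣ, ∑ b : IrrCharacter V, Complex.normSq (co K.D f l b) := by
    intro f hf
    have h := sum_full K.D f f hf
    simp only [Complex.mul_conj, ← Complex.ofReal_sum, K.hP] at h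
    have hV : (Nat.card V : ℂ) ≠ 0 := Nat.cast_ne_zero.2 Nat.card_pos.ne'
    rw [inv_mul_eq_iff_eq_mul₀ hV] at h
    have h2 : (∑ v : V, ∑ y : P, Complex.normSq (f ((y : G) * v))) =
        (Nat.card V : ℝ) * ((p : ℝ) * ∑ l : P →* ℂˣ, ∑ b : IrrCharacter V,
          Complex.normSq (co K.D f l b)) := by exact_mod_cast h
    rw [Fintype.sum_prod_type, Finset.sum_comm]
    refine h2.trans ?_
    ring
  have hTsplit : ∑ x : P × V, Complex.normSq ((η : G → ℂ) (mu K.D x)) =
      T + (Nat.card Z : ℝ) * (d : ℝ) ^ 2 := by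
    rw [← Finset.sum_filter_add_sum_filter_not Finset.univ (fun x : P × V => mu K.D x ∈ Z),
      Finset.sum_congr rfl fun x hx => show _ = (d : ℝ) ^ 2 by
        rw [hker _ (Finset.mem_filter.1 hx).2, hdeg, Complex.normSq_natCast, sq],
      Finset.sum_const, hcardZ, nsmul_eq_mul, hT, add_comm]
  have hTf : ∑ x : P × V, Complex.normSq (f' (mu K.D x)) = T := by
    rw [hT, Finset.sum_filter]
    refine Finset.sum_congr rfl fun x _ => ?_
    simp only [hf']
    by_cases h : mu K.D x ∈ Z <;> simp [h]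
  refine ⟨?_, fun b hb => ?_⟩
  · have h1 : ∀ (l : P →* ℂˣ) (b : IrrCharacter V),
        Complex.normSq (co K.D (η : G → ℂ) l b) = (nco K.D hη l b : ℝ) ^ 2 := fun l b => by
      rw [co_eq K.D hη, Complex.normSq_natCast, sq]
    have := hpars _ (IsCharacter.isClassFunction hη)
    simp only [h1] at this
    rw [← this, hTsplit, add_sub_cancel_right]
    exact hlt
  have hco : ∀ l : P →* ℂˣ, co K.D f' l b = (((nco K.D hη l b : ℝ) -
      (Nat.card Z : ℝ) * d / (p * Nat.card V) : ℝ) : ℂ) := by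
    intro l
    have hz : co K.D (η : G → ℂ) l b - co K.D f' l b =
        (Nat.card Z : ℂ) * d / (p * Nat.card V) := by
      unfold co classInner
      rw [← mul_sub, ← Finset.sum_sub_distrib,
        Finset.sum_congr rfl fun x _ => show _ = if mu K.D x ∈ Z then (d : ℂ) else 0 by
          simp only [hf']
          by_cases h : mu K.D x ∈ Z
          · rw [if_pos h, if_pos h, hker _ h, hdeg, ((hmem x).1 h).1, map_one, Units.val_one,
              hb x.2, mul_one, map_one, mul_one, zero_mul, sub_zero]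
          · rw [if_neg h, if_neg h, sub_self],
        ← Finset.sum_filter, Finset.sum_const, hcardZ, nsmul_eq_mul, Nat.card_prod, K.hP]
      push_cast
      rw [inv_mul_eq_div]
    rw [co_eq K.D hη] at hz
    push_cast
    linear_combination -hz
  have hle : ∑ l : P →* ℂˣ, Complex.normSq (co K.D f' l b) ≤
      ∑ l : P →* ℂˣ, ∑ b : IrrCharacter V, Complex.normSq (co K.D f' l b) :=
    Finset.sum_le_sum fun l _ => Finset.single_le_sum
      (f := fun b => Complex.normSq (co K.D f' l b)) (fun _ _ => Complex.normSq_nonneg _)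
      (Finset.mem_univ b)
  have hpV : (0 : ℝ) < (p : ℝ) * Nat.card V :=
    mul_pos (Nat.cast_pos.2 K.hp.pos) (Nat.cast_pos.2 Nat.card_pos)
  have h2 : ((p : ℝ) * Nat.card V) * ∑ l : P →* ℂˣ, Complex.normSq (co K.D f' l b) <
      ((p : ℝ) * Nat.card V) * e := by
    refine lt_of_le_of_lt (mul_le_mul_of_nonneg_left hle hpV.le) ?_
    rw [← hpars f' hcl', hTf, mul_comm _ (e : ℝ)]
    exact hlt
  have h3 := lt_of_mul_lt_mul_left h2 hpV.le
  refine lt_of_eq_of_lt ?_ h3
  exact Finset.sum_congr rfl fun l _ => by rw [hco l, Complex.normSq_ofReal, sq]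

end Cfsg.Agent.DefOne
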