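/-
A faithful character of degree `d` with `2 d + 1 < p` forces a normal Sylow `p`-subgroup,
when the group order has the prime `p` exactly once.
-/
import Cfsg.Agent.Lib.DefOne.General
import Cfsg.Agent.Lib.DefOne.Principal
import Cfsg.Agent.Lib.DefOne.TI
import Cfsg.Agent.Lib.DefOne.Arith
import Cfsg.Agent.Lib.Char.PermChar
import Cfsg.Agent.Lib.Char.Clifford
import Cfsg.Agent.Lib.Char.DegreeCenter
import Cfsg.Agent.Lib.Blocks.RegTrExact

set_option linter.unusedSectionVars false
set_option linter.style.haveILetI false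

namespace Cfsg.Agent.DefOne

open Cfsg Cfsg.Agent.Char Cfsg.Agent.Blocks Cfsg.Agent.CCSylow

open scoped ComplexConjugate

universe u

variable {G : Type u} [Group G] [Fintype G] {p : ℕ}

omit [Fintype G] in
/-- A normal subgroup of order `p` contains every element of order `p` if `p²` does not divide the
group order. -/
theorem mem_of_normal_prime [Finite G] (hp : p.Prime) (hsq : ¬ p ^ 2 ∣ Nat.card G) {H : Subgroup G}
    [H.Normal] (hH : Nat.card H = p) {x : G} (hx : x ^ p = 1) : x ∈ H := by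
  have h1 : orderOf (x : G ⧸ H) ∣ p :=
    orderOf_dvd_of_pow_eq_one (by rw [← QuotientGroup.mk_pow, hx]; rfl)
  rcases hp.eq_one_or_self_of_dvd _ h1 with h | h
  · exact (QuotientGroup.eq_one_iff x).1 (orderOf_eq_one_iff.1 h)
  · refine absurd ?_ hsq
    rw [← H.card_mul_index, hH, pow_two, Subgroup.index_eq_card]
    have h2 : orderOf (x : G ⧸ H) ∣ Nat.card (G ⧸ H) := orderOf_dvd_natCard _
    rw [h] at h2
    exact mul_dvd_mul_left p h2

omit [Fintype G] in
theorem pow_eq_one_of_card {P : Subgroup G} (hP : Nat.card P = p) {y : G} (hy : y ∈ P) :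
    y ^ p = 1 := by
  have h := congrArg Subtype.val (pow_card_eq_one' (x := (⟨y, hy⟩ : P)))
  rw [hP] at h
  exact h

omit [Fintype G] in
/-- An element whose character value has full absolute value is central. -/
theorem mem_center_of_norm [Finite G] {χ : G → ℂ} (h : IsIrrCharacter G χ)
    (hf : ∀ g : G, χ g = χ 1 → g = 1) {d : ℕ} (hd : χ 1 = d) {y : G} (hy : ‖χ y‖ = (d : ℝ)) :
    y ∈ Subgroup.center G := by
  obtain ⟨n, ρ, -, rfl⟩ := h
  have hfin : (Module.finrank ℂ (Fin n → ℂ) : ℝ) = d := by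
    exact_mod_cast ρ.char_one.symm.trans hd
  obtain ⟨ω, hω⟩ := (norm_char_eq_iff ρ y).1 (hy.trans hfin.symm)
  refine Subgroup.mem_center_iff.2 fun g => ?_
  have h1 : ρ (g * y) = ρ (y * g) := by
    simp [map_mul, hω, ← Module.End.one_eq_id]
  have h2 : ρ (g * y * (y * g)⁻¹) = 1 := by
    rw [map_mul ρ (g * y), h1, ← map_mul, mul_inv_cancel, map_one]
  exact mul_inv_eq_one.1 (hf _ (by rw [Representation.char_one]; unfold Representation.character; rw [h2, LinearMap.trace_one]))

/-! ## The rows of a small character -/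

variable {M : Ideal AlgInt} [M.IsPrime] {P V N : Subgroup G} {e : ℕ} (K : Conf p P V N e)
  [Fintype P] [Fintype V] [Fintype N] [Fintype (P →* ℂˣ)]

include K

theorem card_dual_eq : Fintype.card (P →* ℂˣ) = p := by rw [card_dual K.D, K.hP]

theorem deg_eq_nat (η : IrrCharacter G) :
    ∑ γ : IrrCharacter V, (∑ l, nco K.D (IsIrrCharacter.isCharacter η.2) l γ) *
      charDegree (γ : V → ℂ) = charDegree (η : G → ℂ) := by
  have h := deg_eq K.D (IsIrrCharacter.isCharacter η.2) (CharX.irr_deg η)
  unfold CCSylow.col at h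
  exact_mod_cast h

theorem const_of_not_inR {χ : IrrCharacter G} {γ : IrrCharacter V} (h : ¬ InR K χ γ)
    (l : P →* ℂˣ) :
    nco K.D (IsIrrCharacter.isCharacter χ.2) l γ =
      nco K.D (IsIrrCharacter.isCharacter χ.2) 1 γ := by
  by_contra hne
  exact h ⟨l, fun h0 => hne (by simp only [acoef] at h0; omega)⟩

theorem charDegree_bT (w : N) (b : IrrCharacter V) :
    charDegree (bT K.D w b : V → ℂ) = charDegree (b : V → ℂ) := by
  simp only [charDegree, bT_apply_one K w b]

variable (hM : IsPModular p M)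

include hM

/-- The shape of a character of degree less than `(p - 1) / 2`. -/
theorem char_structure (χ : IrrCharacter G) (hd : 2 * charDegree (χ : G → ℂ) + 1 < p)
    (hker : ∃ y : P, (χ : G → ℂ) y ≠ (χ : G → ℂ) 1) :
    ∃ β : IrrCharacter V, charDegree (χ : G → ℂ) = e * charDegree (β : V → ℂ) ∧
      ∑ l, ∑ γ, nco K.D (IsIrrCharacter.isCharacter χ.2) l γ ^ 2 = e ∧
      ∀ l γ, nco K.D (IsIrrCharacter.isCharacter χ.2) l γ ≠ 0 →
        nco K.D (IsIrrCharacter.isCharacter χ.2) l γ = 1 ∧
          charDegree (γ : V → ℂ) = charDegree (β : V → ℂ) := by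
  classical
  have hd0 : 0 < charDegree (χ : G → ℂ) := CharX.irr_deg_pos χ
  obtain ⟨β, hβ⟩ := exists_inR K hM (χ := χ) (fun h => by have := Nat.le_of_dvd hd0 h; omega)
  obtain ⟨eb, X, Y, δ, sg, F⟩ := exists_families K hM β
  have hχ := IsIrrCharacter.isCharacter χ.2
  have hdeg := deg_eq_nat K χ
  have hle : ∀ γ, ∑ l, nco K.D hχ l γ ≤ charDegree (χ : G → ℂ) := fun γ => by
    refine le_trans (Nat.le_mul_of_pos_right _ (CharX.irr_deg_pos γ)) ?_
    rw [← hdeg]
    exact Finset.single_le_sum
      (f := fun γ : IrrCharacter V => (∑ l, nco K.D hχ l γ) * charDegree (γ : V → ℂ))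
      (fun _ _ => Nat.zero_le _) (Finset.mem_univ γ)
  have hcard := card_dual_eq K
  have hzero : ∀ γ, γ ∉ orbB K β → ∀ l, nco K.D hχ l γ = 0 := by
    intro γ hγ l
    have hn : ¬ InR K χ γ := fun h => hγ ((mem_orbB K).2 (exists_conj_of_block K hM hβ h rfl))
    rw [const_of_not_inR K hn]
    have h1 := hle γ
    rw [Finset.sum_congr rfl fun l _ => const_of_not_inR K hn l, Finset.sum_const,
      Finset.card_univ, hcard, smul_eq_mul] at h1
    rcases Nat.eq_zero_or_pos (nco K.D hχ 1 γ) with h | h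
    · exact h
    · have := Nat.le_mul_of_pos_right p h; omega
  obtain ⟨l0, hl0, hl0n⟩ : ∃ l, l ≠ 1 ∧ nco K.D hχ l β ≠ 0 := by
    by_contra h
    push Not at h
    obtain ⟨y, hy⟩ := hker
    refine hy (kernel_of_trivial K.D hχ (fun l hl γ => ?_) y)
    by_cases hγ : γ ∈ orbB K β
    · obtain ⟨w, rfl⟩ := (mem_orbB K).1 hγ
      obtain ⟨l', rfl⟩ := (lT_bijective K w).2 l
      rw [nco_inv]
      exact h l' fun h1 => hl (by rw [h1, lT_triv])
    · exact hzero γ hγ l
  have hac : ∀ l, acoef K χ β l = (nco K.D hχ 1 β : ℤ) - nco K.D hχ l β := fun l => rfl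
  have hge : ∀ k, (∀ l, l ≠ 1 → k ≤ nco K.D hχ l β) →
      nco K.D hχ 1 β + (p - 1) * k ≤ ∑ l, nco K.D hχ l β := by
    intro k hk
    rw [← Finset.add_sum_erase _ _ (Finset.mem_univ (1 : P →* ℂˣ))]
    refine Nat.add_le_add_left (le_trans (le_of_eq ?_) (Finset.card_nsmul_le_sum _ _ k
      fun l hl => hk l (Finset.ne_of_mem_erase hl))) _
    rw [Finset.card_erase_of_mem (Finset.mem_univ _), Finset.card_univ, hcard, smul_eq_mul]
  have hp1 := K.hp.two_le
  obtain ⟨hsum, hle1⟩ : (∑ l, nco K.D hχ l β = eb) ∧ ∀ l, nco K.D hχ l β ≤ 1 := by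
    rcases (mem_iff_inR K F χ).2 hβ with hX | hY
    · exfalso
      have hrow := F.rowX χ hX
      have h0 := hrow l0 hl0
      rw [hac] at h0
      have h2 := hge 1 fun l hl => by
        have h1 := hrow l hl
        rw [hac] at h1
        omega
      have := hle β
      omega
    · have hval := F.valY χ hY
      have hs := F.sumY χ hY
      rcases F.sign with rfl | rfl
      · exfalso
        have h0 := hval l0
        rw [hac] at h0
        have h1' := hle β
        by_cases h2 : 2 ≤ nco K.D hχ 1 β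
        · have h3 := hge 1 fun l hl => by
            have h1 := hval l
            rw [hac] at h1
            omega
          omega
        · have hz : acoef K χ β l0 = 0 := by rw [hac]; omega
          have hub : ∑ l, acoef K χ β l ≤ (p : ℤ) - 2 := by
            rw [← Finset.sum_erase (a := (1 : P →* ℂˣ)) Finset.univ (acoef_one K χ β),
              ← Finset.sum_erase (a := l0) _ hz]
            refine (Finset.sum_le_card_nsmul _ _ 1 fun l _ => ?_).trans ?_
            · rcases hval l with h | h <;> rw [h] <;> norm_num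
            · rw [Finset.card_erase_of_mem (Finset.mem_erase.2 ⟨hl0, Finset.mem_univ _⟩),
                Finset.card_erase_of_mem (Finset.mem_univ _), Finset.card_univ, hcard]
              simp only [nsmul_eq_mul, mul_one]
              omega
          rw [hs, one_mul] at hub
          have hYc : 2 ≤ Y.card := by
            by_contra hc
            have h3 : Y.card ≤ 1 := by omega
            have h4 := Nat.mul_le_mul_right eb h3
            rw [F.cardY] at h4
            omega
          have heb : 2 * eb ≤ p - 1 := F.cardY ▸ Nat.mul_le_mul_right eb hYc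
          have hsum' : (p : ℤ) * nco K.D hχ 1 β - eb = ((∑ l, nco K.D hχ l β : ℕ) : ℤ) := by
            rw [show (eb : ℤ) = ∑ l, acoef K χ β l by rw [hs, one_mul]]
            simp only [hac, Finset.sum_sub_distrib, Finset.sum_const, Finset.card_univ, hcard,
              nsmul_eq_mul, Nat.cast_sum]
            ring
          rw [show nco K.D hχ 1 β = 1 by omega] at hsum'
          omega
      · have h10 : nco K.D hχ 1 β = 0 := by
          by_contra hne
          have h3 := hge 1 fun l hl => by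
            have h1 := hval l
            rw [hac] at h1
            omega
          have := hle β
          omega
        refine ⟨?_, fun l => ?_⟩
        · have hs' : ((∑ l, nco K.D hχ l β : ℕ) : ℤ) = eb := by
            simp only [hac, h10, Nat.cast_zero, zero_sub, Finset.sum_neg_distrib, neg_mul, one_mul,
              neg_inj] at hs
            push_cast
            exact hs
          exact_mod_cast hs'
        · have h1 := hval l
          rw [hac, h10] at h1
          omega
  have horb : ∀ γ ∈ orbB K β, (∑ l, nco K.D hχ l γ = eb) ∧ (∀ l, nco K.D hχ l γ ≤ 1) ∧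
      charDegree (γ : V → ℂ) = charDegree (β : V → ℂ) := by
    intro γ hγ
    obtain ⟨w, rfl⟩ := (mem_orbB K).1 hγ
    refine ⟨?_, fun l => ?_, charDegree_bT K w β⟩
    · rw [← hsum]
      exact (Fintype.sum_bijective _ (lT_bijective K w) _ _ fun l => (nco_inv K.D hχ w l β).symm).symm
    · obtain ⟨l', rfl⟩ := (lT_bijective K w).2 l
      rw [nco_inv]
      exact hle1 l'
  have hoe : (orbB K β).card * eb = e := by
    have h := card_orbB K β
    rw [F.card_stab, K.D.hcard, K.hP, ← mul_assoc] at h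
    exact Nat.eq_of_mul_eq_mul_right (Nat.mul_pos K.hp.pos Nat.card_pos) h
  refine ⟨β, ?_, ?_, fun l γ hne => ?_⟩
  · rw [← hdeg, ← Finset.sum_subset (Finset.subset_univ (orbB K β)) fun γ _ hγ => ?_,
      Finset.sum_congr rfl fun γ hγ => show _ = eb * charDegree (β : V → ℂ) by
        rw [(horb γ hγ).1, (horb γ hγ).2.2],
      Finset.sum_const, smul_eq_mul, ← mul_assoc, hoe]
    rw [Finset.sum_eq_zero fun l _ => hzero γ hγ l, zero_mul]
  · rw [Finset.sum_comm, ← Finset.sum_subset (Finset.subset_univ (orbB K β)) fun γ _ hγ =>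
        Finset.sum_eq_zero fun l _ => by simp [hzero γ hγ l],
      Finset.sum_congr rfl fun γ hγ => show _ = eb by
        rw [← (horb γ hγ).1]
        refine Finset.sum_congr rfl fun l _ => ?_
        rcases Nat.le_one_iff_eq_zero_or_eq_one.1 ((horb γ hγ).2.1 l) with h | h <;> rw [h] <;> rfl,
      Finset.sum_const, smul_eq_mul, hoe]
  · by_cases hγ : γ ∈ orbB K β
    · exact ⟨by have := (horb γ hγ).2.1 l; omega, (horb γ hγ).2.2⟩
    · exact absurd (hzero γ hγ l) hne

/-- The row of the trivial character of `V`. -/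
theorem rows_trivB (η : IrrCharacter G) :
    (∃ (k : ℕ) (S : Finset (P →* ℂˣ)),
      nco K.D (IsIrrCharacter.isCharacter η.2) 1 (trivB V) ≤ k ∧ p ≤ S.card + e ∧
      ∀ l ∈ S, nco K.D (IsIrrCharacter.isCharacter η.2) l (trivB V) = k) ∨
    (InR K η (trivB V) ∧ ∀ l, l ≠ 1 → nco K.D (IsIrrCharacter.isCharacter η.2) l (trivB V) + 1 =
      nco K.D (IsIrrCharacter.isCharacter η.2) 1 (trivB V)) := by
  classical
  have hη := IsIrrCharacter.isCharacter η.2
  obtain ⟨eb, X, Y, δ, sg, F⟩ := exists_families K hM (trivB V)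
  have he : eb = e := eb_triv K F
  have he0 := CCSylow.e_pos K.D
  have hcard := card_dual_eq K
  have hac : ∀ l, acoef K η (trivB V) l =
      (nco K.D hη 1 (trivB V) : ℤ) - nco K.D hη l (trivB V) := fun l => rfl
  by_cases hR : InR K η (trivB V)
  swap
  · exact Or.inl ⟨_, Finset.univ, le_rfl, by rw [Finset.card_univ, hcard]; omega,
      fun l _ => const_of_not_inR K hR l⟩
  rcases (mem_iff_inR K F η).2 hR with hX | hY
  · rcases F.signX η hX with hs | hs
    · refine Or.inr ⟨hR, fun l hl => ?_⟩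
      have h := F.rowX η hX l hl
      rw [hac, hs] at h
      omega
    · refine Or.inl ⟨nco K.D hη 1 (trivB V) + 1, Finset.univ.erase 1, Nat.le_succ _, ?_,
        fun l hl => ?_⟩
      · rw [Finset.card_erase_of_mem (Finset.mem_univ _), Finset.card_univ, hcard]
        omega
      · have h := F.rowX η hX l (Finset.ne_of_mem_erase hl)
        rw [hac, hs] at h
        omega
  · refine Or.inl ⟨_, Finset.univ.filter fun l => acoef K η (trivB V) l = 0, le_rfl, ?_,
      fun l hl => ?_⟩
    · have hs := F.sumY η hY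
      rw [← Finset.sum_filter_add_sum_filter_not Finset.univ
          (fun l => acoef K η (trivB V) l = 0),
        Finset.sum_eq_zero fun l hl => (Finset.mem_filter.1 hl).2, zero_add,
        Finset.sum_congr rfl fun l hl => (F.valY η hY l).resolve_left (Finset.mem_filter.1 hl).2,
        Finset.sum_const, nsmul_eq_mul, mul_comm, he] at hs
      have hδ : δ ≠ 0 := by rcases F.sign with h | h <;> rw [h] <;> norm_num
      have h1 := mul_left_cancel₀ hδ hs
      have h2 := Finset.card_filter_add_card_filter_not (s := Finset.univ)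
        (fun l : P →* ℂˣ => acoef K η (trivB V) l = 0)
      rw [Finset.card_univ, hcard] at h2
      omega
    · have h := (Finset.mem_filter.1 hl).2
      rw [hac] at h
      omega

variable (Z : Subgroup G) [Z.Normal] (hZV : Z ≤ V)
  (hTI : ∀ u ∈ Subgroup.centralizer (P : Set G), u ∉ Z → ∀ g : G,
    g * u * g⁻¹ ∈ Subgroup.centralizer (P : Set G) → g * u * g⁻¹ ∉ Z → g ∈ N)

include hZV hTI

/-- The bound for a constituent of `χ · conj χ`. -/
theorem constituent_bound (η : IrrCharacter G) (hker : ∀ x ∈ Z, (η : G → ℂ) x = (η : G → ℂ) 1)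
    {b : ℕ} (hb : 1 ≤ b) (he2 : 2 ≤ e) (hp : 2 * (e * b) + 3 ≤ p)
    (hZb : Nat.card Z * b ^ 2 ≤ Nat.card V)
    (hnt : ∃ l : P →* ℂˣ, l ≠ 1 ∧ ∃ γ, nco K.D (IsIrrCharacter.isCharacter η.2) l γ ≠ 0)
    (hA : nco K.D (IsIrrCharacter.isCharacter η.2) 1 (trivB V) + 1 ≤ e) :
    (nco K.D (IsIrrCharacter.isCharacter η.2) 1 (trivB V) : ℝ) * (((e * b : ℕ) : ℝ) ^ 2 - 1) <
      ((e : ℝ) - 1) * charDegree (η : G → ℂ) := by
  classical
  have hη := IsIrrCharacter.isCharacter η.2
  set d := charDegree (η : G → ℂ) with hddef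
  set A := nco K.D hη 1 (trivB V) with hAdef
  have hd0 : (0 : ℝ) < d := Nat.cast_pos.2 (CharX.irr_deg_pos η)
  have he2R : (2 : ℝ) ≤ e := by exact_mod_cast he2
  rcases Nat.eq_zero_or_pos A with hA0 | hA1
  · rw [hA0, Nat.cast_zero, zero_mul]
    exact mul_pos (by linarith) hd0
  have hcard := card_dual_eq K
  have htriv1 : charDegree (trivB V : V → ℂ) = 1 := by simp [charDegree, trivB]
  have hle : ∑ l, nco K.D hη l (trivB V) ≤ d := by
    rw [hddef, ← deg_eq_nat K η]
    refine le_trans (le_of_eq ?_) (Finset.single_le_sum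
      (f := fun γ : IrrCharacter V => (∑ l, nco K.D hη l γ) * charDegree (γ : V → ℂ))
      (fun _ _ => Nat.zero_le _) (Finset.mem_univ (trivB V)))
    simp only [htriv1, mul_one]
  have hexc : A = 1 → InR K η (trivB V) →
      (∀ l, l ≠ 1 → nco K.D hη l (trivB V) + 1 = A) →
      ∃ γ : IrrCharacter V, γ ≠ trivB V ∧ ∀ l, 1 ≤ nco K.D hη l γ := by
    intro hA' hR hrow
    obtain ⟨l, hl, γ, hγ⟩ := hnt
    have hne : γ ≠ trivB V := fun h => by
      subst h
      have := hrow l hl
      omega
    refine ⟨γ, hne, fun l' => ?_⟩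
    have hn : ¬ InR K η γ := fun h => by
      obtain ⟨w, hw⟩ := exists_conj_of_block K hM hR h rfl
      exact hne (hw.symm.trans (Subtype.ext (funext fun _ => rfl)))
    rw [const_of_not_inR K hn l', ← const_of_not_inR K hn l]
    exact Nat.one_le_iff_ne_zero.2 hγ
  rcases Nat.lt_or_ge b 2 with hb2 | hb2
  · -- `b = 1`
    obtain rfl : b = 1 := by omega
    rw [mul_one] at hp ⊢
    suffices h : A * (e + 1) < d by
      have h' : (A : ℝ) * ((e : ℝ) + 1) < d := by exact_mod_cast h
      nlinarith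
    rcases rows_trivB K hM η with ⟨k, S, hk, hS, hkS⟩ | ⟨hR, hrow⟩
    · have h1 : S.card * k ≤ d := by
        refine le_trans (le_trans ?_ (Finset.sum_le_sum_of_subset (Finset.subset_univ S))) hle
        rw [Finset.sum_congr rfl hkS, Finset.sum_const, smul_eq_mul]
      refine lt_of_lt_of_le ?_ h1
      calc A * (e + 1) < A * S.card := Nat.mul_lt_mul_of_pos_left (by omega) hA1
        _ ≤ S.card * k := by rw [mul_comm A]; exact Nat.mul_le_mul_left _ hk
    · by_cases hA2 : A = 1
      · obtain ⟨γ, hγ, hk⟩ := hexc hA2 hR hrow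
        have h2 : (∑ l, nco K.D hη l (trivB V)) * charDegree (trivB V : V → ℂ) +
            (∑ l, nco K.D hη l γ) * charDegree (γ : V → ℂ) ≤ d := by
          rw [hddef, ← deg_eq_nat K η, ← Finset.sum_pair
            (f := fun γ : IrrCharacter V => (∑ l, nco K.D hη l γ) * charDegree (γ : V → ℂ))
            hγ.symm]
          exact Finset.sum_le_sum_of_subset (Finset.subset_univ _)
        have h3 : p ≤ ∑ l, nco K.D hη l γ := by
          refine le_trans (le_of_eq ?_) (Finset.card_nsmul_le_sum Finset.univ _ 1 fun l _ => hk l)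
          rw [Finset.card_univ, hcard, smul_eq_mul, mul_one]
        have h4 := h3.trans (Nat.le_mul_of_pos_right _ (CharX.irr_deg_pos γ))
        rw [hA2]
        omega
      · have h1 : A + (p - 1) * (A - 1) ≤ d := by
          refine le_trans (le_of_eq ?_) hle
          rw [← Finset.add_sum_erase _ _ (Finset.mem_univ (1 : P →* ℂˣ)),
            Finset.sum_congr rfl fun l hl => show _ = A - 1 by
              have := hrow l (Finset.ne_of_mem_erase hl); omega,
            Finset.sum_const, Finset.card_erase_of_mem (Finset.mem_univ _), Finset.card_univ, hcard,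
            smul_eq_mul]
        refine lt_of_lt_of_le ?_ h1
        obtain ⟨a, ha⟩ : ∃ a, A = a + 2 := ⟨A - 2, by omega⟩
        rw [ha] at *
        have h5 : (2 * e + 2) * (a + 1) ≤ (p - 1) * (a + 1) := Nat.mul_le_mul_right _ (by omega)
        rw [show a + 2 - 1 = a + 1 from rfl]
        nlinarith
  -- `b ≥ 2`
  have hpn : 4 * e + 3 ≤ p := by nlinarith
  have hpR : 4 * (e : ℝ) + 3 ≤ p := by exact_mod_cast hpn
  obtain ⟨hT1, hT2⟩ := TI_estimates K Z hZV hTI η hker
  have hT := hT2 (trivB V) fun _ => rfl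
  set c : ℝ := (Nat.card Z : ℝ) * d / (p * Nat.card V) with hc
  set w : ℝ := (Nat.card V : ℝ) / Nat.card Z with hwdef
  have hZ0 : (0 : ℝ) < Nat.card Z := Nat.cast_pos.2 Nat.card_pos
  have hV0 : (0 : ℝ) < Nat.card V := Nat.cast_pos.2 Nat.card_pos
  have hp0 : (0 : ℝ) < p := Nat.cast_pos.2 K.hp.pos
  have hbw : (b : ℝ) ^ 2 ≤ w := by
    rw [hwdef, le_div_iff₀ hZ0, mul_comm]
    exact_mod_cast hZb
  have hcw : c * p * w = d := by rw [hc, hwdef]; field_simp
  have hb1R : (1 : ℝ) ≤ b := by exact_mod_cast hb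
  suffices hkey : (A : ℝ) * ((e : ℝ) ^ 2 * (b : ℝ) ^ 2) ≤ ((e : ℝ) - 1) * d by
    have hA1R : (0 : ℝ) < A := Nat.cast_pos.2 hA1
    push_cast
    nlinarith
  have hfrom : ∀ k : ℝ, (A : ℝ) ≤ k → k * (e : ℝ) ^ 2 ≤ c * p * ((e : ℝ) - 1) →
      (A : ℝ) * ((e : ℝ) ^ 2 * (b : ℝ) ^ 2) ≤ ((e : ℝ) - 1) * d := by
    intro k hk h
    calc (A : ℝ) * ((e : ℝ) ^ 2 * (b : ℝ) ^ 2) = ((A : ℝ) * (e : ℝ) ^ 2) * (b : ℝ) ^ 2 := by ring
      _ ≤ (k * (e : ℝ) ^ 2) * (b : ℝ) ^ 2 := by gcongr
      _ ≤ (c * p * ((e : ℝ) - 1)) * (b : ℝ) ^ 2 := by gcongr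
      _ ≤ (c * p * ((e : ℝ) - 1)) * w := by
          refine mul_le_mul_of_nonneg_left hbw (le_trans ?_ h)
          exact mul_nonneg (le_trans (Nat.cast_nonneg _) hk) (sq_nonneg _)
      _ = ((e : ℝ) - 1) * d := by rw [← hcw]; ring
  rcases rows_trivB K hM η with ⟨k, S, hk, hS, hkS⟩ | ⟨hR, hrow⟩
  · refine hfrom k (by exact_mod_cast hk) (majority_bound (s := (S.card : ℝ)) ?_ ?_ ?_ ?_)
    · rcases Nat.lt_or_ge e 3 with h | h
      · have : e = 2 := by omega
        subst this
        exact Or.inl ⟨by norm_num, by push_cast at hpR; linarith⟩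
      · exact Or.inr ⟨by exact_mod_cast h, hpR⟩
    · exact_mod_cast (le_trans hA1 hk)
    · have : (p : ℝ) ≤ S.card + e := by exact_mod_cast hS
      linarith
    · refine lt_of_le_of_lt ?_ hT
      refine le_trans (le_of_eq ?_) (Finset.sum_le_univ_sum_of_nonneg (s := S) fun l => sq_nonneg _)
      rw [Finset.sum_congr rfl fun l hl => show _ = ((k : ℝ) - c) ^ 2 by rw [hkS l hl],
        Finset.sum_const, nsmul_eq_mul]
  · by_cases hA2 : A = 1
    · obtain ⟨γ, hγ, hk⟩ := hexc hA2 hR hrow
      have hsq : (p : ℝ) + 1 ≤ ∑ l, ∑ b', (nco K.D hη l b' : ℝ) ^ 2 := by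
        rw [Finset.sum_comm]
        refine le_trans ?_ (Finset.sum_le_univ_sum_of_nonneg (s := {γ, trivB V})
          fun b' => Finset.sum_nonneg fun l _ => sq_nonneg _)
        rw [Finset.sum_pair hγ]
        refine add_le_add (le_trans (le_of_eq ?_) (Finset.card_nsmul_le_sum Finset.univ _ 1
          fun l _ => one_le_pow₀ (by exact_mod_cast hk l))) ?_
        · rw [Finset.card_univ, hcard, nsmul_eq_mul, mul_one]
        · refine le_trans (le_of_eq ?_) (Finset.single_le_sum (fun l _ => sq_nonneg _)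
            (Finset.mem_univ (1 : P →* ℂˣ)))
          rw [← hAdef, hA2]
          norm_num
      have hx : (p : ℝ) * w * ((p : ℝ) + 1 - e) < (d : ℝ) ^ 2 := by
        have h1 : (p : ℝ) * Nat.card V * ((p : ℝ) + 1 - e) < (Nat.card Z : ℝ) * (d : ℝ) ^ 2 := by
          have := mul_le_mul_of_nonneg_left hsq (mul_nonneg hp0.le hV0.le)
          nlinarith [hT1]
        rw [hwdef, mul_div_assoc', div_mul_eq_mul_div, div_lt_iff₀ hZ0, mul_comm ((d : ℝ) ^ 2)]
        exact h1
      rw [hA2, Nat.cast_one, one_mul]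
      refine exceptional_bound (p := (p : ℝ)) (w := w) ?_ hb1R ?_ hpR hbw hd0.le hx
      · rcases Nat.lt_or_ge e 3 with h | h
        · exact Or.inl (by exact_mod_cast (show e = 2 by omega))
        · exact Or.inr (by exact_mod_cast h)
      · exact_mod_cast hp
    · obtain ⟨a, ha⟩ : ∃ a : ℕ, A = a + 1 := ⟨A - 1, by omega⟩
      refine hfrom ((a : ℝ) + 1) (by rw [ha]; push_cast; exact le_rfl)
        (plus_bound (by exact_mod_cast (show 3 ≤ e by omega)) hpR
          (by exact_mod_cast (show 1 ≤ a by omega)) ?_)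
      refine lt_of_le_of_lt (le_of_eq ?_) hT
      rw [← Finset.add_sum_erase _ _ (Finset.mem_univ (1 : P →* ℂˣ)),
        Finset.sum_congr rfl fun l hl => show _ = ((a : ℝ) - c) ^ 2 by
          rw [show nco K.D hη l (trivB V) = a by
            have := hrow l (Finset.ne_of_mem_erase hl); omega],
        Finset.sum_const, Finset.card_erase_of_mem (Finset.mem_univ _), Finset.card_univ, hcard,
        nsmul_eq_mul, Nat.cast_sub K.hp.one_le, ← hAdef, ha]
      push_cast
      ring

omit hM hZV hTI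

theorem co_combination (m : IrrCharacter G → ℕ) (l : P →* ℂˣ) (γ : IrrCharacter V) :
    co K.D (∑ η : IrrCharacter G, (m η : ℂ) • (η : G → ℂ)) l γ =
      ((∑ η : IrrCharacter G, m η * nco K.D (IsIrrCharacter.isCharacter η.2) l γ : ℕ) : ℂ) := by
  push_cast
  simp only [← co_eq K.D]
  unfold co classInner
  simp only [Finset.sum_apply, Pi.smul_apply, smul_eq_mul, Finset.mul_sum, Finset.sum_mul]
  rw [Finset.sum_comm]
  exact Finset.sum_congr rfl fun η _ => Finset.sum_congr rfl fun x _ => by ring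

theorem co_normSq (χ : IrrCharacter G) :
    co K.D ((χ : G → ℂ) * fun g => conj ((χ : G → ℂ) g)) 1 (trivB V) =
      ((∑ l, ∑ γ, nco K.D (IsIrrCharacter.isCharacter χ.2) l γ ^ 2 : ℕ) : ℂ) := by
  have hχ := IsIrrCharacter.isCharacter χ.2
  have h := sum_full K.D (χ : G → ℂ) (χ : G → ℂ) (IsCharacter.isClassFunction hχ)
  simp only [co_eq K.D hχ, map_natCast] at h
  push_cast
  simp only [sq]
  have hp0 : (Nat.card P : ℂ) ≠ 0 := Nat.cast_ne_zero.2 Nat.card_pos.ne'
  refine mul_left_cancel₀ hp0 (Eq.trans ?_ h)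
  rw [co_eq_sum]
  simp only [trivB, MonoidHom.one_apply, Units.val_one, map_one, mul_one, Pi.mul_apply,
    ← Finset.mul_sum]
  field_simp

end Cfsg.Agent.DefOne
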