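/-
The character degrees of a simple group of order 7920.
-/
import Cfsg.Agent.Lib.DefOne.Principal
import Cfsg.Agent.Lib.DefOne.General
import Cfsg.Agent.Lib.DefOne.DegreeBound
import Cfsg.Agent.Lib.Blocks.RegTrExact
import Cfsg.Agent.Lib.Char.SectionProjection
import Cfsg.Agent.Lib.Char.Degree
import Cfsg.Agent.Lib.Char.PermChar
import Cfsg.Agent.Lib.Char.Complete

set_option linter.unusedSectionVars false
set_option linter.style.haveILetI false

namespace Cfsg.Agent.DefOne.Order7920

open Cfsg Cfsg.Agent.Char Cfsg.Agent.Blocks Cfsg.Agent.CCSylow Cfsg.Agent.DefOne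

open scoped ComplexConjugate

universe u

/-! ## A simple group -/

section Simple

variable {G : Type u} [Group G] [Fintype G] [IsSimpleGroup G] (hnp : ¬ (Nat.card G).Prime)

include hnp

theorem hom_eq_one (f : G →* ℂˣ) : f = 1 := by
  rcases (inferInstance : f.ker.Normal).eq_bot_or_eq_top with h | h
  · exfalso
    apply hnp
    have hinj : Function.Injective f := (MonoidHom.ker_eq_bot_iff f).1 h
    letI : CommGroup G :=
      { (inferInstance : Group G) with
        mul_comm := fun a b => hinj (by rw [map_mul, map_mul, mul_comm]) }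
    exact IsSimpleGroup.prime_card
  · exact MonoidHom.ker_eq_top_iff.1 h

theorem center_trivial {g : G} (hg : g ∈ Subgroup.center G) : g = 1 := by
  rcases (inferInstance : (Subgroup.center G).Normal).eq_bot_or_eq_top with h | h
  · rw [h, Subgroup.mem_bot] at hg; exact hg
  · exfalso
    apply hnp
    letI : CommGroup G :=
      { (inferInstance : Group G) with
        mul_comm := fun a b => (Subgroup.mem_center_iff.1 (h ▸ Subgroup.mem_top b) a) }
    exact IsSimpleGroup.prime_card

theorem eq_principal_of_deg_one {χ : IrrCharacter G} (h : charDegree (χ : G → ℂ) = 1) :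
    χ = principal G := by
  have h1 : (χ : G → ℂ) 1 = 1 := by rw [irr_one_eq_charDegree, h, Nat.cast_one]
  obtain ⟨f, hf⟩ := exists_hom_of_degree_one (irr_isCharacter χ) h1
  refine Subtype.ext (hf.trans ?_)
  funext g
  rw [hom_eq_one hnp f]
  simp [principal]

omit hnp in
theorem faithful {χ : IrrCharacter G} (hne : χ ≠ principal G) (g : G)
    (hg : (χ : G → ℂ) g = (χ : G → ℂ) 1) : g = 1 := by
  obtain ⟨K, hK, hmem, -⟩ := Cfsg.Agent.CharX.exists_ker χ
  rcases hK.eq_bot_or_eq_top with h | h
  · have := (hmem g).2 hg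
    rwa [h, Subgroup.mem_bot] at this
  · exfalso
    have h2 : classInner (χ : G → ℂ) (principal G : G → ℂ) = (χ : G → ℂ) 1 := by
      rw [classInner]
      have hc : ∀ x : G, (χ : G → ℂ) x * conj ((principal G : G → ℂ) x) = (χ : G → ℂ) 1 := fun x => by
        rw [(hmem x).1 (h ▸ Subgroup.mem_top x)]
        simp [principal]
      rw [Finset.sum_congr rfl fun x _ => hc x, Finset.sum_const, Finset.card_univ, nsmul_eq_mul,
        ← Nat.card_eq_fintype_card, inv_mul_cancel_left₀ (Nat.cast_ne_zero.2 Nat.card_pos.ne')]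
    rw [classInner_irr_of_ne χ.2 (principal G).2 (fun e => hne (Subtype.ext e))] at h2
    exact irr_one_ne_zero χ h2.symm

theorem norm_ne {χ : IrrCharacter G} (hne : χ ≠ principal G) {g : G} (hg : g ≠ 1) :
    ‖(χ : G → ℂ) g‖ ≠ (charDegree (χ : G → ℂ) : ℝ) := fun h =>
  hg (center_trivial hnp (mem_center_of_norm χ.2 (faithful hne) (irr_one_eq_charDegree χ) h))

end Simple

/-- A multiset with three possible entries. -/
theorem exists_replicate3 {α : Type*} (u v w : α) (s : Multiset α)
    (h : ∀ x ∈ s, x = u ∨ x = v ∨ x = w) : ∃ a b c : ℕ, s =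
      Multiset.replicate a u + Multiset.replicate b v + Multiset.replicate c w := by
  induction s using Multiset.induction_on with
  | empty => exact ⟨0, 0, 0, by simp⟩
  | cons x s ih =>
    obtain ⟨a, b, c, rfl⟩ := ih fun y hy => h y (Multiset.mem_cons_of_mem hy)
    rcases h x (Multiset.mem_cons_self x _) with rfl | rfl | rfl
    · exact ⟨a + 1, b, c, by simp [Multiset.replicate_succ, Multiset.cons_add]⟩
    · exact ⟨a, b + 1, c, by simp [Multiset.replicate_succ, Multiset.cons_add, Multiset.add_cons]⟩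
    · exact ⟨a, b, c + 1, by simp [Multiset.replicate_succ, Multiset.cons_add, Multiset.add_cons]⟩

/-- A multiset with four possible entries. -/
theorem exists_replicate4 {α : Type*} (u v w z : α) (s : Multiset α)
    (h : ∀ x ∈ s, x = u ∨ x = v ∨ x = w ∨ x = z) : ∃ a b c d : ℕ, s =
      Multiset.replicate a u + Multiset.replicate b v + Multiset.replicate c w +
        Multiset.replicate d z := by
  classical
  obtain ⟨a, b, c, h3⟩ := exists_replicate3 u v w (s.filter (· ≠ z)) fun x hx => by
    obtain ⟨hx1, hx2⟩ := Multiset.mem_filter.1 hx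
    rcases h x hx1 with e | e | e | e
    · exact Or.inl e
    · exact Or.inr (Or.inl e)
    · exact Or.inr (Or.inr e)
    · exact absurd e hx2
  refine ⟨a, b, c, s.count z, ?_⟩
  rw [← h3, ← Multiset.filter_eq' s z]
  conv_lhs => rw [← Multiset.filter_add_not (· ≠ z) s]
  simp only [ne_eq, not_not]

/-- Divisors of the order in the ranges that occur. -/
theorem deg_eleven : ∀ d : ℕ, d < 89 → d ∣ 7920 → (d % 11 = 1 ∨ d % 11 = 10) →
    d = 1 ∨ d = 10 ∨ d = 12 ∨ d = 45 := by decide

theorem deg_five : ∀ d : ℕ, d < 72 → d ∣ 7920 → 11 ∣ d → (d % 5 = 0 ∨ d % 5 = 1 ∨ d % 5 = 4) →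
    d = 11 ∨ d = 44 ∨ d = 55 ∨ d = 66 := by
  intro d hd h1 ⟨k, hk⟩ h2
  subst hk
  have : k ≤ 6 := by omega
  interval_cases k <;> first | omega | norm_num at h1 | norm_num at h2 | norm_num

variable {G : Type u} [Group G] [Fintype G] [IsSimpleGroup G] (hG : Nat.card G = 7920)

include hG

theorem not_prime : ¬ (Nat.card G).Prime := by rw [hG]; norm_num

theorem deg_sq_le (s : Finset (IrrCharacter G)) :
    ∑ χ ∈ s, charDegree (χ : G → ℂ) ^ 2 ≤ 7920 := by
  rw [← hG, ← Cfsg.Agent.CharX.sum_deg_sq]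
  exact Finset.sum_le_sum_of_subset (Finset.subset_univ s)

theorem deg_bound (χ : IrrCharacter G) :
    charDegree (χ : G → ℂ) < 89 ∧ charDegree (χ : G → ℂ) ∣ 7920 := by
  refine ⟨?_, hG ▸ charDegree_dvd_card χ⟩
  have := deg_sq_le hG {χ}
  rw [Finset.sum_singleton] at this
  nlinarith

omit hG in
/-- The possible degree patterns at eleven. -/
theorem arith_eleven (a b c t : ℕ) (δ : ℤ) (hδ : δ = 1 ∨ δ = -1) (habc : a + b + c = 4)
    (hrel : 1 + (-10 * (a : ℤ) + 12 * b + 45 * c) + δ * t = 0)
    (hsq : 1 + (100 * a + 144 * b + 2025 * c) + 2 * t ^ 2 ≤ 7920) (hdvd : t ∣ 7920) :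
    (a = 3 ∧ b = 0 ∧ c = 1 ∧ t = 16) ∨ (a = 2 ∧ b = 2 ∧ c = 0 ∧ t = 5) := by
  have ht : t ≤ 62 := by nlinarith
  have hne : t ≠ 39 ∧ t ≠ 17 ∧ t ≠ 38 ∧ t ≠ 27 ∧ t ≠ 49 := by
    refine ⟨?_, ?_, ?_, ?_, ?_⟩ <;> rintro rfl <;> norm_num at hdvd
  have h60 : t = 60 → 100 * a + 144 * b + 2025 * c ≤ 719 := by
    rintro rfl
    norm_num at hsq
    omega
  rcases hδ with rfl | rfl <;> omega

/-- The basic facts about the principal families. -/
theorem families_facts {p : ℕ} {M : Ideal AlgInt} [M.IsPrime] (hM : IsPModular p M) (hp2 : 2 < p)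
    {P V N : Subgroup G} {e : ℕ} (K : Conf p P V N e) [Fintype P] [Fintype V] [Fintype N]
    [Fintype (P →* ℂˣ)] {eb : ℕ} {X Y : Finset (IrrCharacter G)} {δ : ℤ}
    {sg : IrrCharacter G → ℤ} (F : Families K (trivB V) eb X Y δ sg) :
    X.card = e ∧ Y.card * e = p - 1 ∧
    (∀ χ ∈ X, (charDegree (χ : G → ℂ) : ℤ) ≡ sg χ [ZMOD p]) ∧
    (∀ χ ∈ Y, (charDegree (χ : G → ℂ) : ℤ) ≡ -δ * e [ZMOD p]) ∧
    (∀ θ ∈ Y, ∑ χ ∈ X, sg χ * (charDegree (χ : G → ℂ) : ℤ) +
      δ * (charDegree (θ : G → ℂ) : ℤ) = 0) ∧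
    (∀ θ ∈ Y, ∀ θ' ∈ Y, charDegree (θ : G → ℂ) = charDegree (θ' : G → ℂ)) ∧
    ((principal G ∈ X ∧ sg (principal G) = 1) ∨ Y = {principal G}) := by
  classical
  have hee : eb = e := eb_triv K F
  have hB := principal_eq K hM F
  have hmem : ∀ χ, χ ∈ X ∨ χ ∈ Y → χ ∈ principalBlock M G := fun χ h => by rw [hB]; exact h
  have hX : ∀ χ ∈ X, (charDegree (χ : G → ℂ) : ℤ) ≡ sg χ [ZMOD p] := fun χ hχ => by
    have h := degree_congr K hM (hmem χ (Or.inl hχ))
    rw [Families.sum_X K F hχ] at h
    exact h.trans (Int.modEq_iff_dvd.2 ⟨sg χ, by ring⟩)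
  have h1p : ¬ p ∣ orderOf (1 : G) := by simpa using K.hp.ne_one
  refine ⟨F.cardX.trans hee, hee ▸ F.cardY, hX, fun χ hχ => ?_, fun θ hθ => ?_,
    fun θ hθ θ' hθ' => ?_, ?_⟩
  · have h := degree_congr K hM (hmem χ (Or.inr hχ))
    rw [F.sumY χ hχ, hee] at h
    simpa using h
  · have h := Families.relation K F hθ h1p
    simp only [irr_one_eq_charDegree] at h
    exact_mod_cast h
  · have h := Families.agree K F hθ hθ' h1p
    rw [irr_one_eq_charDegree, irr_one_eq_charDegree] at h
    exact_mod_cast h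
  · have h : principal G ∈ X ∨ principal G ∈ Y := by
      have := Cfsg.Agent.Blocks.principal_mem_principalBlock (M := M) (G := G)
      rw [hB] at this
      exact this
    rcases h with h | h
    · refine Or.inl ⟨h, ?_⟩
      have h2 := hX _ h
      have h3 : charDegree (principal G : G → ℂ) = 1 := Cfsg.Agent.CharX.charDegree_one
      rw [h3] at h2
      rcases F.signX _ h with e1 | e1
      · exact e1
      · rw [e1, Int.modEq_iff_dvd] at h2
        exact absurd (Int.le_of_dvd (by norm_num) (dvd_neg.2 h2)) (by omega)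
    · refine Or.inr (Finset.eq_singleton_iff_unique_mem.2 ⟨h, fun θ hθ => ?_⟩)
      obtain ⟨σ, -, rfl⟩ := F.transY _ h θ hθ
      exact Subtype.ext (funext fun g => map_one σ)

/-- A Sylow configuration at a prime dividing the order once. -/
theorem exists_conf' {p : ℕ} [Fact p.Prime] (hfac : (Nat.card G).factorization p = 1) :
    ∃ (P : Sylow p G) (V : Subgroup G) (e : ℕ),
      Conf p (P : Subgroup G) V (Subgroup.normalizer ((P : Subgroup G) : Set G)) e ∧
      ∃ n, n % p = 1 ∧ n * (e * (p * Nat.card V)) = 7920 := by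
  obtain ⟨P⟩ : Nonempty (Sylow p G) := inferInstance
  have hP : Nat.card P = p := by rw [Sylow.card_eq_multiplicity, hfac, pow_one]
  obtain ⟨V, e, K, -⟩ := exists_conf (Fact.out : p.Prime) P hP
  refine ⟨P, V, e, K, (Subgroup.normalizer ((P : Subgroup G) : Set G)).index, ?_, ?_⟩
  · have h := card_sylow_modEq_one p G
    rw [P.card_eq_index_normalizer] at h
    exact Nat.mod_eq_of_modEq h (Fact.out : p.Prime).one_lt
  · have h := (Subgroup.normalizer ((P : Subgroup G) : Set G)).index_mul_card
    rw [K.D.hcard, K.hP, hG] at h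
    exact h

/-- The principal block at eleven. -/
theorem eleven (M : Ideal AlgInt) [M.IsPrime] (hM : IsPModular 11 M) :
    (∀ Q : Sylow 11 G, Nat.card (Subgroup.centralizer ((Q : Subgroup G) : Set G)) = 11) ∧
    ∃ S : Finset (IrrCharacter G), (∀ χ ∉ S, 11 ∣ charDegree (χ : G → ℂ)) ∧
      (S.val.map (fun χ : IrrCharacter G => charDegree (χ : G → ℂ)) = {1, 10, 10, 10, 45, 16, 16} ∨
        S.val.map (fun χ : IrrCharacter G => charDegree (χ : G → ℂ)) = {1, 10, 10, 12, 12, 5, 5}) := by
  classical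
  haveI : Fact (Nat.Prime 11) := ⟨by norm_num⟩
  have hfac : (Nat.card G).factorization 11 = 1 := by
    rw [hG, show (7920 : ℕ) = 11 * 720 by norm_num,
      Nat.factorization_mul (by norm_num) (by norm_num), Finsupp.add_apply,
      Nat.Prime.factorization_self (by norm_num),
      Nat.factorization_eq_zero_of_not_dvd (by norm_num : ¬ 11 ∣ 720)]
  obtain ⟨P, V, e, K, n, hn1, hn2⟩ := exists_conf' hG (p := 11) hfac
  haveI : Fintype (P : Subgroup G) := Fintype.ofFinite _
  haveI : Fintype V := Fintype.ofFinite _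
  haveI : Fintype (Subgroup.normalizer ((P : Subgroup G) : Set G)) := Fintype.ofFinite _
  haveI : Fintype ((P : Subgroup G) →* ℂˣ) := Fintype.ofFinite _
  obtain ⟨eb, X, Y, δ, sg, F⟩ := exists_families K hM (trivB V)
  obtain ⟨hXc, hYc, hXd, hYd, hrel, hagree, hprin⟩ := families_facts hG hM (by norm_num) K F
  obtain ⟨θ, hθ⟩ := F.nonempty
  have hnp := not_prime hG
  have hB := principal_eq K hM F
  have hd1 : charDegree (principal G : G → ℂ) = 1 := Cfsg.Agent.CharX.charDegree_one
  -- the possible degrees in the first family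
  have hXdeg : ∀ χ ∈ X, χ ≠ principal G →
      (charDegree (χ : G → ℂ) = 10 ∧ sg χ = -1) ∨
      ((charDegree (χ : G → ℂ) = 12 ∨ charDegree (χ : G → ℂ) = 45) ∧ sg χ = 1) := by
    intro χ hχ hne
    obtain ⟨hb1, hb2⟩ := deg_bound hG χ
    have h := hXd χ hχ
    rcases F.signX χ hχ with e1 | e1 <;> rw [e1, Int.ModEq] at h <;>
      rcases deg_eleven _ hb1 hb2 (by omega) with h2 | h2 | h2 | h2
    all_goals first
      | exact absurd (eq_principal_of_deg_one hnp h2) hne
      | exact Or.inl ⟨h2, e1⟩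
      | exact Or.inr ⟨Or.inl h2, e1⟩
      | exact Or.inr ⟨Or.inr h2, e1⟩
      | (rw [h2] at h; norm_num at h)
  -- the centralizer is the Sylow subgroup
  have hV : V = ⊥ := by
    by_contra hV
    obtain ⟨v, hv, hv1⟩ := V.ne_bot_iff_exists_ne_one.1 hV |> fun ⟨w, hw⟩ =>
      (⟨(w : G), w.2, fun h => hw (Subtype.ext h)⟩ : ∃ v, v ∈ V ∧ v ≠ (1 : G))
    have hno : ∀ χ ∈ X, χ ≠ principal G → charDegree (χ : G → ℂ) ≠ 10 := by
      intro χ hχ hne hd
      have hsg : sg χ = -1 := by
        rcases hXdeg χ hχ hne with ⟨-, h⟩ | ⟨h, -⟩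
        · exact h
        · omega
      have hχB : χ ∈ principalBlock M G := by rw [hB]; exact Or.inl hχ
      have hval : ∀ y : (P : Subgroup G), y ≠ 1 → ∀ w ∈ V, (χ : G → ℂ) ((y : G) * w) = -1 := by
        intro y hy w hw
        rw [section_const K hM hχB y.2 (fun h => hy (Subtype.ext h)) hw,
          ← phi_principal K hM hχB hy, Families.phi_X K F hχ hy, hsg]
        simp
      have hsum : ∀ w ∈ V, ∑ y : (P : Subgroup G), (χ : G → ℂ) ((y : G) * w) =
          (χ : G → ℂ) w - 10 := by
        intro w hw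
        rw [← Finset.add_sum_erase _ _ (Finset.mem_univ (1 : (P : Subgroup G))),
          Finset.sum_congr rfl fun y hy => hval y (Finset.ne_of_mem_erase hy) w hw,
          Finset.sum_const, Finset.card_erase_of_mem (Finset.mem_univ _), Finset.card_univ,
          ← Nat.card_eq_fintype_card, K.hP, OneMemClass.coe_one, one_mul]
        simp [sub_eq_add_neg]
      have h0 := hsum 1 (one_mem V)
      simp only [mul_one] at h0
      rw [irr_one_eq_charDegree, hd, Nat.cast_ofNat, sub_self] at h0
      have h2 := hsum v hv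
      rw [sum_translate_eq_zero (irr_isCharacter χ) _ h0 v, eq_comm, sub_eq_zero] at h2
      refine hv1 (faithful hne v ?_)
      rw [h2, irr_one_eq_charDegree, hd, Nat.cast_ofNat]
    have hpos : ∀ χ ∈ X, χ ≠ principal G →
        12 ≤ sg χ * (charDegree (χ : G → ℂ) : ℤ) ∧
        (sg χ * (charDegree (χ : G → ℂ) : ℤ) = 12 ∨ sg χ * (charDegree (χ : G → ℂ) : ℤ) = 45) := by
      intro χ hχ hne
      rcases hXdeg χ hχ hne with ⟨h, -⟩ | ⟨h, hs⟩
      · exact absurd h (hno χ hχ hne)
      · rcases h with h | h <;> rw [h, hs] <;> norm_num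
    have he : e ∣ 10 := by
      have := dvd_card_sub_one K.D
      rwa [K.hP] at this
    have he' : e = 1 ∨ e = 2 ∨ e = 5 ∨ e = 10 := by
      have := Nat.le_of_dvd (by norm_num) he
      interval_cases e <;> first | omega | norm_num at he
    have hθ' := hrel θ hθ
    rcases hprin with ⟨hpX, hpsg⟩ | hY
    · rw [← Finset.add_sum_erase _ _ hpX, hpsg, hd1] at hθ'
      have hsum : ∃ b : ℕ, b ≤ e - 1 ∧ ∑ χ ∈ X.erase (principal G),
          sg χ * (charDegree (χ : G → ℂ) : ℤ) = 12 * (e - 1 : ℕ) + 33 * b := by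
        refine ⟨((X.erase (principal G)).filter fun χ : IrrCharacter G =>
          sg χ * (charDegree (χ : G → ℂ) : ℤ) = 45).card, ?_, ?_⟩
        · rw [← hXc, ← Finset.card_erase_of_mem hpX]
          exact Finset.card_filter_le _ _
        · rw [Finset.sum_congr rfl fun χ hχ => show sg χ * (charDegree (χ : G → ℂ) : ℤ) =
              12 + if sg χ * (charDegree (χ : G → ℂ) : ℤ) = 45 then 33 else 0 by
            rcases (hpos χ (Finset.mem_of_mem_erase hχ) (Finset.ne_of_mem_erase hχ)).2 with h | h <;>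
              rw [h] <;> norm_num,
            Finset.sum_add_distrib, Finset.sum_const, Finset.card_erase_of_mem hpX, hXc,
            ← Finset.sum_filter, Finset.sum_const, nsmul_eq_mul, nsmul_eq_mul]
          ring
      obtain ⟨b, hb, hbs⟩ := hsum
      rw [hbs] at hθ'
      obtain ⟨hb1, hb2⟩ := deg_bound hG θ
      have hθ1 : charDegree (θ : G → ℂ) ≠ 1 := fun h =>
        Finset.disjoint_left.1 F.disj hpX (eq_principal_of_deg_one hnp h ▸ hθ)
      have hval : charDegree (θ : G → ℂ) = 1 + 12 * (e - 1) + 33 * b := by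
        rcases F.sign with e1 | e1 <;> rw [e1] at hθ' <;> push_cast at hθ' <;> omega
      rw [hval] at hb1 hb2 hθ1
      have hb9 : b ≤ 9 := by omega
      rcases he' with rfl | rfl | rfl | rfl <;> interval_cases b <;>
        first | omega | norm_num at hb2
    · subst hY
      have he10 : e = 10 := by simpa using hYc
      have hge : 120 ≤ ∑ χ ∈ X, sg χ * (charDegree (χ : G → ℂ) : ℤ) := by
        refine le_trans (le_of_eq ?_) (Finset.sum_le_sum fun χ hχ => (hpos χ hχ fun h =>
          Finset.disjoint_left.1 F.disj hχ (h ▸ Finset.mem_singleton_self _)).1)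
        rw [Finset.sum_const, hXc, he10]
        norm_num
      rw [Finset.mem_singleton.1 hθ, hd1] at hθ'
      rcases F.sign with e1 | e1 <;> rw [e1] at hθ' <;> omega
  have hV1 : Nat.card V = 1 := by rw [hV, Subgroup.card_bot]
  have he5 : e = 5 := by
    have he : e ∣ 10 := by
      have := dvd_card_sub_one K.D
      rwa [K.hP] at this
    rw [hV1, mul_one] at hn2
    have := Nat.le_of_dvd (by norm_num) he
    interval_cases e <;> norm_num at he <;> omega
  subst he5
  have hY2 : Y.card = 2 := by omega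
  refine ⟨fun Q => ?_, X ∪ Y, fun χ hχ => ?_, ?_⟩
  · obtain ⟨g, rfl⟩ := MulAction.exists_smul_eq G P Q
    have hC : Nat.card (Subgroup.centralizer ((P : Subgroup G) : Set G)) = 11 := by
      rw [card_centralizer K, hV1, mul_one]
    refine Eq.trans ?_ hC
    refine Nat.card_congr (Equiv.subtypeEquiv (MulAut.conj g).toEquiv fun x => ?_).symm
    simp only [Subgroup.mem_centralizer_iff, Sylow.coe_subgroup_smul]
    constructor
    · rintro h _ ⟨y, hy, rfl⟩
      simp only [MulEquiv.toEquiv_eq_coe, MulEquiv.coe_toEquiv, MulAut.conj_apply]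
      show g * y * g⁻¹ * (g * x * g⁻¹) = g * x * g⁻¹ * (g * y * g⁻¹)
      rw [show g * y * g⁻¹ * (g * x * g⁻¹) = g * (y * x) * g⁻¹ by group, h y hy]
      group
    · intro h y hy
      have h2 := h (g * y * g⁻¹) ⟨y, hy, rfl⟩
      simp only [MulEquiv.toEquiv_eq_coe, MulEquiv.coe_toEquiv, MulAut.conj_apply] at h2
      rw [show g * y * g⁻¹ * (g * x * g⁻¹) = g * (y * x) * g⁻¹ by group,
        show g * x * g⁻¹ * (g * y * g⁻¹) = g * (x * y) * g⁻¹ by group] at h2
      exact mul_left_cancel (mul_right_cancel h2)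
  · by_contra hd
    obtain ⟨b, hb⟩ := exists_inR K hM hd
    subst hV
    have hb0 : b = trivB (⊥ : Subgroup G) := Subtype.ext (funext fun x => by
      have hx : x = 1 := Subsingleton.elim _ _
      rw [hx, degree_one_of_comm (fun _ _ => Subsingleton.elim _ _) b.2]
      rfl)
    subst hb0
    exact hχ (Finset.mem_union.2 ((mem_iff_inR K F χ).2 hb))
  · obtain ⟨hpX, hpsg⟩ := hprin.resolve_right fun h => by rw [h] at hY2; simp at hY2
    have hθ' := hrel θ hθ
    rw [← Finset.add_sum_erase _ _ hpX, hpsg, hd1] at hθ'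
    have hsumeq : ∑ χ ∈ X.erase (principal G), sg χ * (charDegree (χ : G → ℂ) : ℤ) =
        ((((X.erase (principal G)).val.map fun χ : IrrCharacter G => charDegree (χ : G → ℂ)).map
          fun d : ℕ => if d = 10 then (-10 : ℤ) else (d : ℤ))).sum := by
      rw [Multiset.map_map]
      refine Finset.sum_congr rfl fun χ hχ => ?_
      simp only [Function.comp_apply]
      rcases hXdeg χ (Finset.mem_of_mem_erase hχ) (Finset.ne_of_mem_erase hχ) with
        ⟨h, hs⟩ | ⟨h | h, hs⟩ <;> rw [h, hs] <;> norm_num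
    obtain ⟨a, b, c, habc⟩ := exists_replicate3 10 12 45
      ((X.erase (principal G)).val.map fun χ : IrrCharacter G => charDegree (χ : G → ℂ)) fun d hd => by
        obtain ⟨χ, hχ, rfl⟩ := Multiset.mem_map.1 hd
        rcases hXdeg χ (Finset.mem_of_mem_erase hχ) (Finset.ne_of_mem_erase hχ) with
          ⟨h, -⟩ | ⟨h, -⟩
        · exact Or.inl h
        · exact Or.inr h
    have hcard : a + b + c = 4 := by
      have := congrArg Multiset.card habc
      simp only [Multiset.card_map, Multiset.card_add, Multiset.card_replicate] at this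
      rw [← this, ← Finset.card_def, Finset.card_erase_of_mem hpX, hXc]
    rw [hsumeq, habc] at hθ'
    simp only [Multiset.map_add, Multiset.map_replicate, Multiset.sum_add,
      Multiset.sum_replicate, nsmul_eq_mul] at hθ'
    norm_num at hθ'
    have hYmap : Y.val.map (fun χ : IrrCharacter G => charDegree (χ : G → ℂ)) =
        Multiset.replicate 2 (charDegree (θ : G → ℂ)) := by
      rw [← hY2]
      exact Multiset.eq_replicate.2 ⟨Multiset.card_map _ _, fun d hd => by
        obtain ⟨χ, hχ, rfl⟩ := Multiset.mem_map.1 hd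
        exact hagree χ hχ θ hθ⟩
    have hsq := deg_sq_le hG (X ∪ Y)
    have hXY : (X ∪ Y).val.map (fun χ : IrrCharacter G => charDegree (χ : G → ℂ)) =
        1 ::ₘ (Multiset.replicate a 10 + Multiset.replicate b 12 + Multiset.replicate c 45) +
          Multiset.replicate 2 (charDegree (θ : G → ℂ)) := by
      rw [← Finset.disjUnion_eq_union X Y F.disj, Finset.disjUnion_val, Multiset.map_add, hYmap]
      conv_lhs => rw [← Finset.insert_erase hpX, Finset.insert_val_of_notMem (Finset.notMem_erase _ _),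
        Multiset.map_cons, hd1, habc]
    have hsq' : 1 + (100 * a + 144 * b + 2025 * c) + 2 * charDegree (θ : G → ℂ) ^ 2 ≤ 7920 := by
      refine le_trans (le_of_eq ?_) hsq
      rw [Finset.sum_eq_multiset_sum,
        show Multiset.map (fun χ : IrrCharacter G => charDegree (χ : G → ℂ) ^ 2) (X ∪ Y).val =
          ((X ∪ Y).val.map fun χ : IrrCharacter G => charDegree (χ : G → ℂ)).map (· ^ 2) from
            by rw [Multiset.map_map]; rfl, hXY]
      simp only [Multiset.map_add, Multiset.map_cons, Multiset.map_replicate, Multiset.sum_add,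
        Multiset.sum_cons, Multiset.sum_replicate, smul_eq_mul]
      ring
    rw [hXY]
    rcases arith_eleven a b c _ δ F.sign hcard (by linarith) hsq' (deg_bound hG θ).2 with
      ⟨rfl, rfl, rfl, ht⟩ | ⟨rfl, rfl, rfl, ht⟩ <;> rw [ht]
    · left; decide
    · right; decide

/-- The blocks at five. -/
theorem five (M : Ideal AlgInt) [M.IsPrime] (hM : IsPModular 5 M)
    (h11 : ∀ Q : Sylow 11 G, Nat.card (Subgroup.centralizer ((Q : Subgroup G) : Set G)) = 11)
    (χ10 : IrrCharacter G) (h10 : charDegree (χ10 : G → ℂ) = 10) :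
    (∀ χ : IrrCharacter G, charDegree (χ : G → ℂ) % 5 = 0 ∨ charDegree (χ : G → ℂ) % 5 = 1 ∨
      charDegree (χ : G → ℂ) % 5 = 4) ∧
    (∀ [DecidableEq (IrrCharacter G)], (Finset.univ.filter fun χ : IrrCharacter G =>
      ¬ 5 ∣ charDegree (χ : G → ℂ)).card = 5) ∧
    ∀ y : G, orderOf y = 5 → Nat.card (Subgroup.centralizer ({y} : Set G)) = 5 := by
  classical
  haveI : Fact (Nat.Prime 5) := ⟨by norm_num⟩
  haveI : Fact (Nat.Prime 11) := ⟨by norm_num⟩
  have hfac : (Nat.card G).factorization 5 = 1 := by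
    rw [hG, show (7920 : ℕ) = 5 * 1584 by norm_num,
      Nat.factorization_mul (by norm_num) (by norm_num), Finsupp.add_apply,
      Nat.Prime.factorization_self (by norm_num),
      Nat.factorization_eq_zero_of_not_dvd (by norm_num : ¬ 5 ∣ 1584)]
  obtain ⟨P, V, e, K, n, hn1, hn2⟩ := exists_conf' hG (p := 5) hfac
  haveI : Fintype (P : Subgroup G) := Fintype.ofFinite _
  haveI : Fintype V := Fintype.ofFinite _
  haveI : Fintype (Subgroup.normalizer ((P : Subgroup G) : Set G)) := Fintype.ofFinite _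
  haveI : Fintype ((P : Subgroup G) →* ℂˣ) := Fintype.ofFinite _
  obtain ⟨eb, X, Y, δ, sg, F⟩ := exists_families K hM (trivB V)
  obtain ⟨hXc, hYc, hXd, hYd, hrel, hagree, hprin⟩ := families_facts hG hM (by norm_num) K F
  have hnp := not_prime hG
  obtain ⟨y, hy⟩ := exists_ne_one_P K
  have hy1 : (y : G) ≠ 1 := fun h => hy (Subtype.ext h)
  have hoy : orderOf (y : G) = 5 := orderOf_P K y.2 hy1
  have hne10 : χ10 ≠ principal G := fun h => by
    rw [h, show charDegree (principal G : G → ℂ) = 1 from Cfsg.Agent.CharX.charDegree_one] at h10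
    omega
  -- no involution centralizes the Sylow subgroup
  have hodd : ¬ 2 ∣ Nat.card V := by
    intro h2
    haveI : Fact (Nat.Prime 2) := ⟨Nat.prime_two⟩
    obtain ⟨t, ht⟩ := exists_prime_orderOf_dvd_card' 2 h2
    have ht1 : (t : G) ≠ 1 := fun h => by
      rw [show t = 1 from Subtype.ext h, orderOf_one] at ht; omega
    have htt : (t : G) * t = 1 := by
      rw [← pow_two, ← SubmonoidClass.coe_pow, ← ht, pow_orderOf_eq_one, OneMemClass.coe_one]
    set z : G := (y : G) * t with hz
    have hcomm : Commute (y : G) (t : G) := K.D.pv _ y.2 _ t.2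
    have hot : orderOf (t : G) = 2 := by rw [Subgroup.orderOf_coe, ht]
    have hzo : orderOf z = 10 := by
      rw [hz, hcomm.orderOf_mul_eq_mul_orderOf_of_coprime (by rw [hoy, hot]; norm_num), hoy, hot]
    obtain ⟨m, hm⟩ : ∃ m : ℕ, ∑ i ∈ Finset.range 10, (χ10 : G → ℂ) (z ^ i) = (10 : ℂ) * m := by
      obtain ⟨m, hm⟩ := IsCharacter.exists_classInner_nat
        (IsCharacter.restrict (irr_isCharacter χ10) (Subgroup.zpowers z))
        (isCharacter_one (G := Subgroup.zpowers z))
      refine ⟨m, ?_⟩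
      rw [← hm, classInner, Nat.card_zpowers, hzo, ← mul_assoc]
      norm_num
      rw [Finset.sum_range]
      exact Fintype.sum_equiv ((finCongr hzo.symm).trans (finEquivZPowers (isOfFinOrder_of_finite z)))
        _ _ fun i => rfl
    have hvan : ∀ i ∈ Finset.range 10, i ≠ 0 → i ≠ 5 → (χ10 : G → ℂ) (z ^ i) = 0 := by
      intro i hi h0 h5
      have hi' := Finset.mem_range.1 hi
      rw [hz, hcomm.mul_pow]
      refine section_zero_of_dvd K hM (by rw [h10]; norm_num) (y := y ^ i) ?_ (t ^ i)
      intro h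
      have := orderOf_dvd_of_pow_eq_one h
      rw [← Subgroup.orderOf_coe, hoy] at this
      omega
    rw [Finset.sum_eq_add_of_mem (0 : ℕ) 5 (by norm_num) (by norm_num) (by norm_num)
      (fun i hi h => hvan i hi h.1 h.2), pow_zero, irr_one_eq_charDegree, h10] at hm
    have hz5 : z ^ 5 = (t : G) := by
      rw [hz, hcomm.mul_pow, show (y : G) ^ 5 = 1 from orderOf_dvd_iff_pow_eq_one.1 (dvd_of_eq hoy),
        one_mul, show (5 : ℕ) = 2 + 2 + 1 by norm_num, pow_add, pow_add, pow_two, htt, one_mul,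
        one_mul, pow_one]
    rw [hz5, Nat.cast_ofNat] at hm
    have hval : (χ10 : G → ℂ) t = (10 : ℂ) * m - 10 := by linear_combination hm
    have hnorm := IsIrrCharacter.norm_le χ10.2 (irr_one_eq_charDegree χ10) (t : G)
    rw [h10, hval, show (10 : ℂ) * m - 10 = ((10 * (m : ℝ) - 10 : ℝ) : ℂ) by push_cast; ring,
      Complex.norm_real, Real.norm_eq_abs, abs_le] at hnorm
    have hm2 : m ≤ 2 := by
      have h := hnorm.2
      push_cast at h
      exact_mod_cast (show (m : ℝ) ≤ 2 by linarith)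
    have hn := norm_ne hnp hne10 ht1
    rw [h10, hval] at hn
    interval_cases m
    · norm_num at hn
    · refine false_of_involution_zero (hom_eq_one hnp) (irr_isCharacter χ10) (m := 5) (by decide)
        (by rw [irr_one_eq_charDegree, h10]) htt ?_
      rw [hval]; norm_num
    · norm_num at hn
  have h11V : ¬ 11 ∣ Nat.card V := by
    intro h
    obtain ⟨x, hx⟩ := exists_prime_orderOf_dvd_card' 11 h
    obtain ⟨Q, hQ⟩ := (IsPGroup.of_card (n := 1) (by
      rw [Nat.card_zpowers, Subgroup.orderOf_coe, hx, pow_one]) :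
        IsPGroup 11 (Subgroup.zpowers (x : G))).exists_le_sylow
    have hQc : Nat.card Q = 11 := by
      rw [Sylow.card_eq_multiplicity, hG, show (7920 : ℕ) = 11 * 720 by norm_num,
        Nat.factorization_mul (by norm_num) (by norm_num), Finsupp.add_apply,
        Nat.Prime.factorization_self (by norm_num),
        Nat.factorization_eq_zero_of_not_dvd (by norm_num : ¬ 11 ∣ 720)]
      norm_num
    have hQe : Subgroup.zpowers (x : G) = (Q : Subgroup G) :=
      Subgroup.eq_of_le_of_card_ge hQ (by rw [Nat.card_zpowers, Subgroup.orderOf_coe, hx, hQc])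
    have hmem : (y : G) ∈ Subgroup.centralizer ((Q : Subgroup G) : Set G) := by
      rw [← hQe]
      refine Subgroup.mem_centralizer_iff.2 fun w hw => ?_
      obtain ⟨i, rfl⟩ := Subgroup.mem_zpowers_iff.1 hw
      exact ((show Commute (x : G) (y : G) from (K.D.pv _ y.2 _ x.2).symm).zpow_left i).eq
    have := Subgroup.orderOf_dvd_natCard _ hmem
    rw [h11 Q, hoy] at this
    norm_num at this
  have he : e ∣ 4 := by
    have := dvd_card_sub_one K.D
    rwa [K.hP] at this
  have hcases : (e = 4 ∧ Nat.card V = 1) ∨ e = 1 := by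
    have hVd : Nat.card V ∣ 7920 := hG ▸ Subgroup.card_subgroup_dvd_card V
    have hVle : Nat.card V ≤ 7920 := Nat.le_of_dvd (by norm_num) hVd
    have hn3 : n * (e * Nat.card V) = 1584 := by
      have : 5 * (n * (e * Nat.card V)) = 5 * 1584 := by linear_combination hn2
      omega
    have hdiv : ∀ v : ℕ, v ∣ 1584 → ¬ 2 ∣ v → ¬ 11 ∣ v → v = 1 ∨ v = 3 ∨ v = 9 := by
      intro v hv h2 h11'
      have h3 : v ∣ 9 := by
        have hco : v.Coprime (16 * 11) := Nat.Coprime.mul_right
          (Nat.Coprime.pow_right 4 ((Nat.prime_two.coprime_iff_not_dvd).2 h2).symm)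
          (((Fact.out : Nat.Prime 11).coprime_iff_not_dvd).2 h11').symm
        exact hco.dvd_of_dvd_mul_left (by rw [show 16 * 11 * 9 = 1584 by norm_num]; exact hv)
      have := Nat.le_of_dvd (by norm_num) h3
      interval_cases v <;> first | omega | norm_num at h3
    have := Nat.le_of_dvd (by norm_num) he
    rcases hdiv (Nat.card V) ⟨n * e, by rw [← hn3]; ring⟩ hodd h11V with h | h | h <;>
      rw [h] at hn3 <;> interval_cases e <;> first | omega | (norm_num at he) | exact Or.inl ⟨rfl, h⟩
  rcases hcases with ⟨rfl, hV1⟩ | rfl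
  swap
  · exfalso
    have hY4 : Y.card = 4 := by omega
    obtain ⟨hpX, hpsg⟩ := hprin.resolve_right fun h => by rw [h] at hY4; simp at hY4
    obtain ⟨θ, hθ⟩ := F.nonempty
    have h := hrel θ hθ
    obtain ⟨a, ha⟩ := Finset.card_eq_one.1 hXc
    rw [ha, Finset.mem_singleton] at hpX
    rw [ha, Finset.sum_singleton, ← hpX, hpsg,
      show charDegree (principal G : G → ℂ) = 1 from Cfsg.Agent.CharX.charDegree_one] at h
    have h1 : charDegree (θ : G → ℂ) = 1 := by
      rcases F.sign with e1 | e1 <;> rw [e1] at h <;> omega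
    refine Finset.disjoint_left.1 F.disj (show principal G ∈ X by rw [ha, hpX]; simp) ?_
    rw [← eq_principal_of_deg_one hnp h1]; exact hθ
  · have hV : V = ⊥ := Subgroup.card_eq_one.1 hV1
    have hset : ∀ χ : IrrCharacter G, ¬ 5 ∣ charDegree (χ : G → ℂ) ↔ χ ∈ X ∪ Y := by
      intro χ
      refine ⟨fun hd => ?_, fun h => ?_⟩
      · obtain ⟨b, hb⟩ := exists_inR K hM hd
        subst hV
        have hb0 : b = trivB (⊥ : Subgroup G) := Subtype.ext (funext fun x => by
          have hx : x = 1 := Subsingleton.elim _ _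
          rw [hx, degree_one_of_comm (fun _ _ => Subsingleton.elim _ _) b.2]
          rfl)
        subst hb0
        exact Finset.mem_union.2 ((mem_iff_inR K F χ).2 hb)
      · exact not_dvd_of_inR K hM ((mem_iff_inR K F χ).1 (Finset.mem_union.1 h))
    refine ⟨fun χ => ?_, fun {_} => ?_, fun z hz => ?_⟩
    · by_cases hd : 5 ∣ charDegree (χ : G → ℂ)
      · exact Or.inl (Nat.mod_eq_zero_of_dvd hd)
      · rcases Finset.mem_union.1 ((hset χ).1 hd) with h | h
        · have h2 := hXd χ h
          rcases F.signX χ h with e1 | e1 <;> rw [e1, Int.ModEq] at h2 <;> omega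
        · have h2 := hYd χ h
          rcases F.sign with e1 | e1 <;> rw [e1, Int.ModEq] at h2 <;> omega
    · rw [show (Finset.univ.filter fun χ : IrrCharacter G => ¬ 5 ∣ charDegree (χ : G → ℂ)) = X ∪ Y
        by ext χ; simp [hset χ], Finset.card_union_of_disjoint F.disj, hXc]
      omega
    · obtain ⟨g, hg⟩ : ∃ g : G, g * z * g⁻¹ ∈ (P : Subgroup G) := by
        obtain ⟨Q, hQ⟩ := (IsPGroup.of_card (n := 1) (by rw [Nat.card_zpowers, hz, pow_one]) :
          IsPGroup 5 (Subgroup.zpowers z)).exists_le_sylow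
        obtain ⟨g, rfl⟩ := MulAction.exists_smul_eq G Q P
        refine ⟨g, ?_⟩
        rw [Sylow.coe_subgroup_smul]
        exact ⟨z, hQ (Subgroup.mem_zpowers z), rfl⟩
      have hgz : g * z * g⁻¹ ≠ 1 := fun h => by
        rw [conj_eq_one_iff] at h; rw [h, orderOf_one] at hz; omega
      have hC : Nat.card (Subgroup.centralizer ({g * z * g⁻¹} : Set G)) = 5 := by
        rw [← centralizer_P K hg hgz, card_centralizer K, hV1, mul_one]
      refine Eq.trans (Nat.card_congr (Equiv.subtypeEquiv (MulAut.conj g).toEquiv fun x => ?_)) hC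
      simp only [Subgroup.mem_centralizer_singleton_iff, MulEquiv.toEquiv_eq_coe, MulEquiv.coe_toEquiv,
        MulAut.conj_apply]
      constructor
      · intro h
        calc g * x * g⁻¹ * (g * z * g⁻¹) = g * (x * z) * g⁻¹ := by group
          _ = g * (z * x) * g⁻¹ := by rw [h]
          _ = g * z * g⁻¹ * (g * x * g⁻¹) := by group
      · intro h
        calc x * z = g⁻¹ * (g * x * g⁻¹ * (g * z * g⁻¹)) * g := by group
          _ = g⁻¹ * (g * z * g⁻¹ * (g * x * g⁻¹)) * g := by rw [h]
          _ = z * x := by group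

/-- All degrees. -/
theorem degrees : (Finset.univ : Finset (IrrCharacter G)).val.map
    (fun χ : IrrCharacter G => charDegree (χ : G → ℂ)) = {1, 10, 10, 10, 45, 16, 16, 11, 44, 55} := by
  classical
  haveI : Fact (Nat.Prime 11) := ⟨by norm_num⟩
  haveI : Fact (Nat.Prime 5) := ⟨by norm_num⟩
  obtain ⟨M, hM⟩ := exists_isPModular_witness 11
  haveI := IsPModular.isPrime hM
  obtain ⟨h11, S, hS, hSd⟩ := eleven hG M hM
  obtain ⟨M', hM'⟩ := exists_isPModular_witness 5
  haveI := IsPModular.isPrime hM'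
  obtain ⟨χ10, -, h10⟩ : ∃ χ ∈ S, charDegree (χ : G → ℂ) = 10 := by
    have : (10 : ℕ) ∈ S.val.map (fun χ : IrrCharacter G => charDegree (χ : G → ℂ)) := by
      rcases hSd with h | h <;> rw [h] <;> decide
    obtain ⟨χ, hχ, he⟩ := Multiset.mem_map.1 this
    exact ⟨χ, hχ, he⟩
  obtain ⟨h5, hcnt, -⟩ := five hG M' hM' h11 χ10 h10
  replace hSd : S.val.map (fun χ : IrrCharacter G => charDegree (χ : G → ℂ)) = {1, 10, 10, 10, 45, 16, 16} := by
    rcases hSd with h | h
    · exact h
    · have : (12 : ℕ) ∈ S.val.map (fun χ : IrrCharacter G => charDegree (χ : G → ℂ)) := by rw [h]; decide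
      obtain ⟨χ, -, he⟩ := Multiset.mem_map.1 this
      have := h5 χ
      omega
  have hall : (Finset.univ : Finset (IrrCharacter G)).val.map (fun χ : IrrCharacter G => charDegree (χ : G → ℂ)) =
      S.val.map (fun χ : IrrCharacter G => charDegree (χ : G → ℂ)) +
        Sᶜ.val.map (fun χ : IrrCharacter G => charDegree (χ : G → ℂ)) := by
    rw [← Multiset.map_add, ← Finset.disjUnion_val _ _ disjoint_compl_right,
      Finset.disjUnion_eq_union, Finset.union_compl]
  have hsum : (((Finset.univ : Finset (IrrCharacter G)).val.map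
      (fun χ : IrrCharacter G => charDegree (χ : G → ℂ))).map (fun m : ℕ => m ^ 2)).sum = 7920 := by
    rw [Multiset.map_map, ← hG]
    exact Cfsg.Agent.CharX.sum_deg_sq
  obtain ⟨a, b, c, d, habcd⟩ := exists_replicate4 11 44 55 66
    (Sᶜ.val.map fun χ : IrrCharacter G => charDegree (χ : G → ℂ)) fun m hm => by
      obtain ⟨χ, hχ, rfl⟩ := Multiset.mem_map.1 hm
      have hs : charDegree (χ : G → ℂ) ^ 2 + 2838 ≤ 7920 := by
        refine le_trans ?_ (deg_sq_le hG (insert χ S))
        rw [Finset.sum_insert (Finset.mem_compl.1 hχ)]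
        refine Nat.add_le_add_left (le_of_eq ?_) _
        rw [Finset.sum_eq_multiset_sum,
          show Multiset.map (fun χ : IrrCharacter G => charDegree (χ : G → ℂ) ^ 2) S.val =
            (S.val.map fun χ : IrrCharacter G => charDegree (χ : G → ℂ)).map (· ^ 2) from
              by rw [Multiset.map_map]; rfl, hSd]
        rfl
      exact deg_five _ (by nlinarith) (deg_bound hG χ).2 (hS χ (Finset.mem_compl.1 hχ)) (h5 χ)
  rw [hall, hSd, habcd] at hsum
  have hc5 : (((Finset.univ : Finset (IrrCharacter G)).val.map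
      (fun χ : IrrCharacter G => charDegree (χ : G → ℂ))).filter (fun m => ¬ 5 ∣ m)).card = 5 := by
    rw [Multiset.filter_map, Multiset.card_map]
    exact hcnt
  rw [hall, hSd, habcd] at hc5 ⊢
  simp only [Multiset.filter_add, Multiset.card_add, Multiset.map_add, Multiset.sum_add,
    Multiset.map_replicate, Multiset.sum_replicate, smul_eq_mul] at hsum hc5
  have h1 : ((({1, 10, 10, 10, 45, 16, 16} : Multiset ℕ)).filter (fun m => ¬ 5 ∣ m)).card = 3 := by
    decide
  have h2 : ((({1, 10, 10, 10, 45, 16, 16} : Multiset ℕ)).map (· ^ 2)).sum = 2838 := by decide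
  have hf : ∀ (k m : ℕ), ((Multiset.replicate k m).filter (fun m => ¬ 5 ∣ m)).card =
      if 5 ∣ m then 0 else k := by
    intro k m
    induction k with
    | zero => simp
    | succ k ih =>
      rw [Multiset.replicate_succ, Multiset.filter_cons]
      split_ifs with h hh <;> simp_all [add_comm]
  rw [h2] at hsum
  rw [h1, hf, hf, hf, hf] at hc5
  norm_num at hsum hc5
  obtain ⟨rfl, rfl, rfl, rfl⟩ : a = 1 ∧ b = 1 ∧ c = 1 ∧ d = 0 := by
    have hc1 : c ≤ 1 := by omega
    have hd2 : d ≤ 1 := by omega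
    interval_cases c <;> interval_cases d <;> omega
  decide

end Cfsg.Agent.DefOne.Order7920
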