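/-
The blocks of positive defect, and the number of characters of degree prime to `p`.
-/
import Cfsg.Agent.Lib.DefOne.General
import Cfsg.Agent.Lib.Char.Complete
import Cfsg.Agent.Lib.Blocks.MinMax

set_option linter.unusedSectionVars false
set_option linter.style.haveILetI false

namespace Cfsg.Agent.DefOne

open Cfsg Cfsg.Agent.Char Cfsg.Agent.Blocks Cfsg.Agent.CCSylow

open scoped ComplexConjugate

universe u

variable {G : Type u} [Group G] [Fintype G] {p : ℕ} {M : Ideal AlgInt} [M.IsPrime]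

/-- An automorphism fixing the `m`-th roots of unity acts on characters as one fixing all roots
of unity of order prime to `p`. -/
theorem exists_fixesP_galT (hM : IsPModular p M) {m : ℕ} (hm : Nat.card G = p * m)
    (hpm : ¬ p ∣ m) {σ : ℂ ≃+* ℂ} (hσ : ∀ z : ℂ, z ^ m = 1 → σ z = z) :
    ∃ τ : ℂ ≃+* ℂ, FixesP p τ ∧ ∀ χ : IrrCharacter G, galT σ χ = galT τ χ := by
  have hp := hM.1
  haveI : NeZero p := ⟨hp.ne_zero⟩
  obtain ⟨ζ, hζ⟩ : ∃ ζ : ℂ, IsPrimitiveRoot ζ p :=
    ⟨_, Complex.isPrimitiveRoot_exp p hp.ne_zero⟩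
  have h1 : IsPrimitiveRoot (σ ζ) p := hζ.map_of_injective σ.injective
  obtain ⟨i, hi, hik⟩ := hζ.eq_pow_of_pow_eq_one h1.pow_eq_one
  have hi0 : ¬ p ∣ i := fun h => by
    rw [Nat.eq_zero_of_dvd_of_lt h hi, pow_zero] at hik
    exact h1.ne_one hp.one_lt hik.symm
  obtain ⟨τ, hτ, hτp⟩ := exists_sigma hM hi0
  refine ⟨τ, hτ, fun χ => ?_⟩
  have hroots : ∀ z : ℂ, z ^ p = 1 → σ z = τ z := fun z hz => by
    obtain ⟨j, -, rfl⟩ := hζ.eq_pow_of_pow_eq_one hz
    rw [map_pow, map_pow, hτp ζ hζ.pow_eq_one, hik]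
  have hall : ∀ z : ℂ, z ^ Nat.card G = 1 → σ z = τ z := by
    intro z hz
    rw [hm] at hz
    have hz0 : z ≠ 0 := fun h0 => by
      rw [h0, zero_pow (mul_ne_zero hp.ne_zero fun h => hpm (by rw [h]; exact dvd_zero p))] at hz
      exact zero_ne_one hz
    have hne : τ z ≠ 0 := (map_ne_zero τ).2 hz0
    have r1 : (σ z / τ z) ^ m = 1 := by
      rw [div_pow, ← map_pow, ← map_pow, hroots (z ^ m) (by rw [← pow_mul, mul_comm, hz]), div_self]
      rw [map_pow]
      exact pow_ne_zero _ hne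
    have r2 : (σ z / τ z) ^ p = 1 := by
      rw [div_pow, ← map_pow, ← map_pow, hσ (z ^ p) (by rw [← pow_mul, hz]),
        hτ (z ^ p) ⟨m, hpm, by rw [← pow_mul, hz]⟩, div_self]
      exact pow_ne_zero _ hz0
    have r3 : (σ z / τ z) ^ Nat.gcd p m = 1 := pow_gcd_eq_one.2 ⟨r2, r1⟩
    rw [show Nat.gcd p m = 1 from hp.coprime_iff_not_dvd.2 hpm, pow_one] at r3
    exact (div_eq_one_iff_eq hne).1 r3
  obtain ⟨k, -, hk⟩ := CharGalois.exists_exponent σ.toRingHom (Nat.card_pos (α := G)).ne'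
  refine Subtype.ext (funext fun g => ?_)
  show σ.toRingHom ((χ : G → ℂ) g) = τ.toRingHom ((χ : G → ℂ) g)
  rw [CharGalois.map_char (IsIrrCharacter.isCharacter χ.2) _ hk,
    CharGalois.map_char (IsIrrCharacter.isCharacter χ.2) τ.toRingHom (k := k) fun z hz =>
      (hall z hz).symm.trans (hk z hz)]

variable {P V N : Subgroup G} {e : ℕ} (K : Conf p P V N e)
  [Fintype P] [Fintype V] [Fintype N] [Fintype (P →* ℂˣ)]

include K

theorem orbB_bT (w : N) (b : IrrCharacter V) : orbB K (bT K.D w b) = orbB K b := by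
  ext b'
  rw [mem_orbB, mem_orbB]
  refine ⟨fun ⟨x, hx⟩ => ⟨w * x, by rw [bT_mul K, hx]⟩, fun ⟨x, hx⟩ => ⟨w⁻¹ * x, ?_⟩⟩
  rw [← bT_mul K, ← mul_assoc, mul_inv_cancel, one_mul, hx]

/-- The summand of a character of `V` in the count, in terms of the order of its stabiliser. -/
noncomputable def countTerm (p v n s : ℕ) : ℚ :=
  ((s / (p * v) + (p - 1) / (s / (p * v)) : ℕ) : ℚ) * (s : ℚ) / (n : ℚ)

variable (hM : IsPModular p M)

include hM

open scoped Classical in
/-- The number of characters of degree prime to `p`. -/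
theorem count_pPrime :
    (Nat.card {χ : IrrCharacter G // ¬ p ∣ charDegree (χ : G → ℂ)} : ℚ) =
      ∑ b : IrrCharacter V,
        countTerm p (Nat.card V) (Nat.card N) (Nat.card (stabB K b)) := by
  set S : Finset (IrrCharacter G) :=
    Finset.univ.filter fun χ : IrrCharacter G => ¬ p ∣ charDegree (χ : G → ℂ) with hS
  have hpos : ∀ b : IrrCharacter V, ((orbB K b).card : ℚ) ≠ 0 := fun b =>
    Nat.cast_ne_zero.2 (Finset.card_ne_zero.2 ⟨b, (mem_orbB K).2 ⟨1, bT_one K b⟩⟩)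
  have hone : ∀ χ ∈ S, ∑ b ∈ Finset.univ.filter (fun b => InR K χ b),
      ((orbB K b).card : ℚ)⁻¹ = 1 := by
    intro χ hχ
    obtain ⟨b0, hb0⟩ := exists_inR K hM (Finset.mem_filter.1 hχ).2
    have hset : Finset.univ.filter (fun b => InR K χ b) = orbB K b0 := by
      ext b
      rw [Finset.mem_filter, mem_orbB]
      refine ⟨fun h => exists_conj_of_block K hM hb0 h.2 rfl, fun ⟨w, hw⟩ =>
        ⟨Finset.mem_univ _, hw ▸ (inR_bT K χ w b0).2 hb0⟩⟩
    rw [hset, Finset.sum_congr rfl fun b hb => show _ = ((orbB K b0).card : ℚ)⁻¹ by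
      obtain ⟨w, rfl⟩ := (mem_orbB K).1 hb
      rw [orbB_bT K w b0], Finset.sum_const, nsmul_eq_mul, mul_inv_cancel₀ (hpos b0)]
  have hterm : ∀ b : IrrCharacter V,
      ∑ _χ ∈ S.filter (fun χ => InR K χ b), ((orbB K b).card : ℚ)⁻¹ =
        countTerm p (Nat.card V) (Nat.card N) (Nat.card (stabB K b)) := by
    intro b
    obtain ⟨eb, X, Y, δ, sg, F⟩ := exists_families K hM b
    have hset : S.filter (fun χ => InR K χ b) = X ∪ Y := by
      ext χ
      rw [Finset.mem_filter, Finset.mem_union, mem_iff_inR K F χ]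
      exact ⟨fun h => h.2,
        fun h => ⟨Finset.mem_filter.2 ⟨Finset.mem_univ _, not_dvd_of_inR K hM h⟩, h⟩⟩
    rw [Finset.sum_const, hset, Finset.card_union_of_disjoint F.disj, F.cardX,
      Families.card_Y K F, nsmul_eq_mul, countTerm, ← card_orbB K b, F.card_stab,
      Nat.mul_div_cancel _ (Nat.mul_pos K.hp.pos Nat.card_pos)]
    have h1 := hpos b
    have h2 : ((eb * (p * Nat.card V) : ℕ) : ℚ) ≠ 0 :=
      Nat.cast_ne_zero.2 (mul_ne_zero (Families.eb_pos K F).ne'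
        (mul_ne_zero K.hp.ne_zero Nat.card_pos.ne'))
    rw [Nat.cast_mul (orbB K b).card, mul_div_assoc, div_mul_cancel_right₀ h2]
  rw [← Finset.sum_congr rfl fun b (_ : b ∈ Finset.univ) => hterm b]
  simp only [Finset.sum_filter]
  rw [Finset.sum_comm]
  rw [Finset.sum_congr rfl fun χ hχ => show _ = (1 : ℚ) by
    rw [← Finset.sum_filter]; exact hone χ hχ, Finset.sum_const, nsmul_one, Nat.card_eq_fintype_card,
    Fintype.card_subtype]

end Cfsg.Agent.DefOne
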