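/-
A group of order divisible exactly once by `p` with a faithful character of degree `d`,
`2 d + 1 < p`, has a normal subgroup of order `p`.
-/
import Cfsg.Agent.Lib.DefOne.DegreeBound

set_option linter.unusedSectionVars false
set_option linter.style.haveILetI false

namespace Cfsg.Agent.DefOne

open Cfsg Cfsg.Agent.Char Cfsg.Agent.Blocks Cfsg.Agent.CCSylow

open scoped ComplexConjugate

universe u

variable {G : Type u} [Group G] [Fintype G] {p : ℕ}

omit [Fintype G] in
theorem eq_top_of_normal_ge [Finite G] (hp : p.Prime) {P : Subgroup G} (hP : Nat.card P = p)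
    (hsq : ¬ p ^ 2 ∣ Nat.card G) (hPn : ¬ P.Normal)
    (hsub : ∀ H : Subgroup G, H ≠ ⊤ → P ≤ H → ∀ g ∈ H, ∀ y ∈ P, g * y * g⁻¹ ∈ P)
    {K : Subgroup G} [K.Normal] (hK : P ≤ K) : K = ⊤ := by
  by_contra h
  refine hPn ⟨fun y hy g => ?_⟩
  haveI : (P.subgroupOf K).Normal := ⟨fun a ha c => hsub K h hK c c.2 a ha⟩
  have hcard : Nat.card (P.subgroupOf K) = p := by
    rw [Nat.card_congr (Subgroup.subgroupOfEquivOfLe hK).toEquiv, hP]
  have hmem : g * y * g⁻¹ ∈ K := Subgroup.Normal.conj_mem ‹K.Normal› y (hK hy) g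
  exact mem_of_normal_prime hp (fun h' => hsq (h'.trans (Subgroup.card_subgroup_dvd_card K)))
    hcard (x := (⟨_, hmem⟩ : K))
    (Subtype.ext (by
      show (g * y * g⁻¹) ^ p = 1
      rw [conj_pow, pow_eq_one_of_card hP hy, mul_one, mul_inv_cancel]))

omit [Fintype G] in
theorem normal_of_le_center {P : Subgroup G} (h : P ≤ Subgroup.center G) : P.Normal :=
  ⟨fun y hy g => by
    rw [Subgroup.mem_center_iff.1 (h hy) g, mul_inv_cancel_right]; exact hy⟩

theorem not_dvd_center (hp : p.Prime) {P : Subgroup G} (hP : Nat.card P = p)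
    (hsq : ¬ p ^ 2 ∣ Nat.card G) (hPn : ¬ P.Normal) : ¬ p ∣ Nat.card (Subgroup.center G) := by
  intro h
  haveI := Fact.mk hp
  obtain ⟨z, hz⟩ := exists_prime_orderOf_dvd_card' p h
  refine hPn (normal_of_le_center fun y hy => ?_)
  have hle : Subgroup.zpowers (z : G) ≤ Subgroup.center G := Subgroup.zpowers_le.2 z.2
  haveI := normal_of_le_center hle
  exact hle (mem_of_normal_prime hp hsq (H := Subgroup.zpowers (z : G))
    (by rw [Nat.card_zpowers, Subgroup.orderOf_coe, hz]) (pow_eq_one_of_card hP hy))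

set_option maxHeartbeats 1000000 in
/-- The irreducible case. -/
theorem normal_of_irr (hp : p.Prime) {P : Subgroup G} (hP : Nat.card P = p)
    (hsq : ¬ p ^ 2 ∣ Nat.card G)
    (hsub : ∀ H : Subgroup G, H ≠ ⊤ → P ≤ H → ∀ g ∈ H, ∀ y ∈ P, g * y * g⁻¹ ∈ P)
    (χ : IrrCharacter G) (hf : ∀ g, (χ : G → ℂ) g = (χ : G → ℂ) 1 → g = 1)
    (hd : 2 * charDegree (χ : G → ℂ) + 1 < p) : P.Normal := by
  classical
  haveI := Fact.mk hp
  by_contra hPn
  set d := charDegree (χ : G → ℂ) with hddef
  have hdeg : (χ : G → ℂ) 1 = (d : ℂ) := CharX.irr_deg χ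
  have hd0 : 0 < d := CharX.irr_deg_pos χ
  -- the degree is at least two
  have hd1 : d ≠ 1 := by
    intro h1
    refine hPn (normal_of_le_center fun y _ => mem_center_of_norm χ.2 hf hdeg ?_)
    have hsum := classInner_self_irr χ.2
    rw [classInner, inv_mul_eq_iff_eq_mul₀ (Nat.cast_ne_zero.2 Nat.card_pos.ne'), mul_one] at hsum
    simp only [Complex.mul_conj, ← Complex.ofReal_sum] at hsum
    have hsum' : ∑ x : G, Complex.normSq ((χ : G → ℂ) x) = ∑ _x : G, (1 : ℝ) := by
      rw [Finset.sum_const, Finset.card_univ, nsmul_eq_mul, mul_one, ← Nat.card_eq_fintype_card]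
      exact_mod_cast hsum
    have hle : ∀ x : G, Complex.normSq ((χ : G → ℂ) x) ≤ 1 := fun x => by
      rw [Complex.normSq_eq_norm_sq]
      have := IsIrrCharacter.norm_le χ.2 hdeg x
      rw [h1, Nat.cast_one] at this
      exact pow_le_one₀ (norm_nonneg _) this
    have h := (Finset.sum_eq_sum_iff_of_le fun x _ => hle x).1 hsum' y (Finset.mem_univ _)
    rw [Complex.normSq_eq_norm_sq] at h
    rw [h1, Nat.cast_one]
    exact (pow_eq_one_iff_of_nonneg (norm_nonneg _) two_ne_zero).1 h
  have hodd : 2 * d + 3 ≤ p := by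
    rcases hp.eq_two_or_odd with h | h <;> omega
  -- the configuration
  have hidx : ¬ p ∣ P.index := fun h => hsq (by
    rw [← P.card_mul_index, hP, pow_two]
    exact mul_dvd_mul_left p h)
  let S : Sylow p G := IsPGroup.toSylow (IsPGroup.of_card (n := 1) (by rw [pow_one]; exact hP)) hidx
  obtain ⟨V, e, K0, -⟩ := exists_conf hp S (show Nat.card P = p from hP)
  have K : Conf p P V (Subgroup.normalizer (P : Set G)) e := K0
  obtain ⟨M, hM⟩ := exists_isPModular_witness p
  haveI := IsPModular.isPrime hM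
  haveI : Fintype P := Fintype.ofFinite _
  haveI : Fintype V := Fintype.ofFinite _
  haveI : Fintype (Subgroup.normalizer (P : Set G)) := Fintype.ofFinite _
  haveI : Fintype (P →* ℂˣ) := Fintype.ofFinite _
  have htop : ∀ L : Subgroup G, L.Normal → P ≤ L → L = ⊤ := fun L hL hPL => by
    haveI := hL
    exact eq_top_of_normal_ge hp hP hsq hPn hsub hPL
  have hker : ∃ y : P, (χ : G → ℂ) y ≠ (χ : G → ℂ) 1 := by
    by_contra h
    push Not at h
    obtain ⟨y, hy⟩ := exists_ne_one_P K
    exact hy (Subtype.ext (hf _ (h y)))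
  obtain ⟨β, hdβ, hsq2, hone⟩ := char_structure K hM χ hd hker
  rw [← hddef] at hdβ
  have hb : 1 ≤ charDegree (β : V → ℂ) := CharX.irr_deg_pos β
  have hχ := IsIrrCharacter.isCharacter χ.2
  -- the index is at least two
  have he2 : 2 ≤ e := by
    by_contra hlt
    have he1 : e = 1 := by have := CCSylow.e_pos K.D; omega
    have hex : ∃ l γ, nco K.D hχ l γ ≠ 0 := by
      by_contra h
      push Not at h
      have h2 := hsq2.trans he1
      simp [h] at h2
    obtain ⟨l, γ, hne⟩ := hex
    have huniq : ∀ l' γ', (l', γ') ≠ (l, γ) → nco K.D hχ l' γ' = 0 := by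
      intro l' γ' hn
      by_contra h'
      have h2 : ∑ x ∈ ({(l', γ'), (l, γ)} : Finset ((P →* ℂˣ) × IrrCharacter V)),
          nco K.D hχ x.1 x.2 ^ 2 ≤ e := by
        refine le_of_le_of_eq ?_ hsq2
        rw [← Fintype.sum_prod_type']
        exact Finset.sum_le_sum_of_subset (Finset.subset_univ _)
      rw [Finset.sum_pair hn] at h2
      simp only [(hone l' γ' h').1, (hone l γ hne).1, one_pow] at h2
      omega
    obtain ⟨y, hy⟩ := exists_ne_one_P K
    have hval : (χ : G → ℂ) y = ((l y : ℂˣ) : ℂ) * (d : ℂ) := by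
      have h := expansion K.D (IsCharacter.isClassFunction hχ) y 1
      rw [OneMemClass.coe_one, mul_one] at h
      rw [h, ← Fintype.sum_prod_type'
        (f := fun l γ => co K.D (χ : G → ℂ) l γ * ((l y : ℂˣ) : ℂ) * (γ : V → ℂ) 1),
        Finset.sum_eq_single (l, γ)]
      · show co K.D (χ : G → ℂ) l γ * _ * _ = _
        rw [co_eq K.D hχ, (hone _ _ hne).1, CharX.irr_deg γ, (hone _ _ hne).2, hdβ, he1]
        simp
      · intro x _ hx
        rw [co_eq K.D hχ, huniq x.1 x.2 hx, Nat.cast_zero, zero_mul, zero_mul]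
      · exact fun h => absurd (Finset.mem_univ _) h
    refine hPn (normal_of_le_center fun z hz => ?_)
    have hy' : (y : G) ∈ Subgroup.center G := mem_center_of_norm χ.2 hf hdeg (by
      rw [hval, norm_mul, Complex.norm_eq_one_of_pow_eq_one (linear_pow_p K l y) hp.ne_zero,
        one_mul, Complex.norm_natCast])
    obtain ⟨i, hi⟩ := exists_pow_eq K hy ⟨z, hz⟩
    rw [show z = (y : G) ^ i by rw [← SubgroupClass.coe_pow, hi]]
    exact pow_mem hy' i
  -- the centre
  have hpc := not_dvd_center hp hP hsq hPn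
  have hZV : Subgroup.center G ≤ V := fun z hz =>
    mem_V_of_regular K (Subgroup.center_le_centralizer _ hz)
      fun h => hpc (h.trans (Subgroup.orderOf_dvd_natCard _ hz))
  have hTI : ∀ u ∈ Subgroup.centralizer (P : Set G), u ∉ Subgroup.center G → ∀ g : G,
      g * u * g⁻¹ ∈ Subgroup.centralizer (P : Set G) → g * u * g⁻¹ ∉ Subgroup.center G →
      g ∈ Subgroup.normalizer (P : Set G) := by
    intro u hu hun g hg _
    have hH : Subgroup.centralizer ({u} : Set G) ≠ ⊤ := fun h => hun (Subgroup.mem_center_iff.2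
      fun x => (Subgroup.mem_centralizer_iff.1 ((Subgroup.eq_top_iff' _).1 h x) u rfl).symm)
    have hPH : P ≤ Subgroup.centralizer ({u} : Set G) := fun y hy =>
      Subgroup.mem_centralizer_iff.2 fun t ht => by
        rw [Set.mem_singleton_iff.1 ht]
        exact (Subgroup.mem_centralizer_iff.1 hu y hy).symm
    obtain ⟨y, hy⟩ := exists_ne_one_P K
    have hmem : g⁻¹ * (y : G) * g ∈ Subgroup.centralizer ({u} : Set G) :=
      Subgroup.mem_centralizer_iff.2 fun t ht => by
        rw [Set.mem_singleton_iff.1 ht]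
        have h1 : (y : G) * (g * u * g⁻¹) = g * u * g⁻¹ * y :=
          Subgroup.mem_centralizer_iff.1 hg y y.2
        calc u * (g⁻¹ * (y : G) * g) = g⁻¹ * (g * u * g⁻¹ * y) * g := by group
          _ = g⁻¹ * ((y : G) * (g * u * g⁻¹)) * g := by rw [h1]
          _ = g⁻¹ * (y : G) * g * u := by group
    haveI : (P.subgroupOf (Subgroup.centralizer ({u} : Set G))).Normal :=
      ⟨fun a ha c => hsub _ hH hPH c c.2 a ha⟩
    have hin : g⁻¹ * (y : G) * g ∈ P := mem_of_normal_prime hp
      (fun h' => hsq (h'.trans (Subgroup.card_subgroup_dvd_card _)))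
      (H := P.subgroupOf (Subgroup.centralizer ({u} : Set G)))
      (by rw [Nat.card_congr (Subgroup.subgroupOfEquivOfLe hPH).toEquiv, hP])
      (x := ⟨_, hmem⟩) (Subtype.ext (by
        show (g⁻¹ * (y : G) * g) ^ p = 1
        have := pow_eq_one_of_card hP y.2
        rw [show g⁻¹ * (y : G) * g = g⁻¹ * (y : G) * g⁻¹⁻¹ by rw [inv_inv], conj_pow, this]
        group))
    have := K.D.hTI (y : G) y.2 (fun h => hy (Subtype.ext h)) g⁻¹ (by rwa [inv_inv])
    simpa using inv_mem this
  have hZb : Nat.card (Subgroup.center G) * charDegree (β : V → ℂ) ^ 2 ≤ Nat.card V := by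
    have hs := classInner_self_irr β.2
    rw [classInner, inv_mul_eq_iff_eq_mul₀ (Nat.cast_ne_zero.2 Nat.card_pos.ne'), mul_one] at hs
    simp only [Complex.mul_conj, ← Complex.ofReal_sum] at hs
    have hs' : ∑ v : V, Complex.normSq ((β : V → ℂ) v) = (Nat.card V : ℝ) := by exact_mod_cast hs
    let T : Finset V := Finset.univ.filter fun v : V => (v : G) ∈ Subgroup.center G
    have hT : T.card = Nat.card (Subgroup.center G) := by
      rw [← Nat.card_eq_finsetCard]
      exact Nat.card_congr
        { toFun := fun v => ⟨(v.1 : G), (Finset.mem_filter.1 v.2).2⟩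
          invFun := fun z => ⟨⟨(z : G), hZV z.2⟩, Finset.mem_filter.2 ⟨Finset.mem_univ _, z.2⟩⟩
          left_inv := fun v => rfl
          right_inv := fun z => rfl }
    have hval : ∀ v ∈ T, Complex.normSq ((β : V → ℂ) v) = (charDegree (β : V → ℂ) : ℝ) ^ 2 := by
      intro v hv
      obtain ⟨c, hc1, hc, -⟩ := IsIrrCharacter.exists_central_scalar β.2 (z := v)
        (Subgroup.mem_center_iff.2 fun g => Subtype.ext
          (Subgroup.mem_center_iff.1 (Finset.mem_filter.1 hv).2 g))
      have h := hc 1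
      rw [mul_one] at h
      rw [Complex.normSq_eq_norm_sq, h, norm_mul, hc1, one_mul, CharX.irr_deg, Complex.norm_natCast]
    have h2 : ∑ v ∈ T, Complex.normSq ((β : V → ℂ) v) ≤ (Nat.card V : ℝ) :=
      hs' ▸ Finset.sum_le_univ_sum_of_nonneg fun v => Complex.normSq_nonneg _
    rw [Finset.sum_congr rfl hval, Finset.sum_const, nsmul_eq_mul, hT] at h2
    exact_mod_cast h2
  -- the character `χ · conj χ`
  have hEc : IsCharacter G ((χ : G → ℂ) * fun g => conj ((χ : G → ℂ) g)) :=
    IsCharacter.mul hχ (IsCharacter.conj hχ)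
  obtain ⟨m, hm⟩ := IsCharacter.exists_decomp hEc
  have hEval : ∀ g, (χ : G → ℂ) g * conj ((χ : G → ℂ) g) =
      ∑ η : IrrCharacter G, (m η : ℂ) * (η : G → ℂ) g := fun g => by
    simpa using congrFun hm g
  have hkerη : ∀ η : IrrCharacter G, m η ≠ 0 → ∀ z ∈ Subgroup.center G,
      (η : G → ℂ) z = (η : G → ℂ) 1 := by
    intro η hη z hz
    refine kernel_constituent m ?_ η hη
    rw [← hEval, ← hEval]
    obtain ⟨c, hc1, hc, -⟩ := IsIrrCharacter.exists_central_scalar χ.2 hz
    have h := hc 1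
    rw [mul_one] at h
    rw [Complex.mul_conj, Complex.mul_conj, Complex.normSq_eq_norm_sq, h, norm_mul, hc1, one_mul,
      ← Complex.normSq_eq_norm_sq]
  let one : IrrCharacter G := ⟨fun _ => 1, isIrrCharacter_one⟩
  have hm1 : m one = 1 := by
    have h := classInner_combination (fun η => (m η : ℂ)) one
    rw [← hm] at h
    have h2 : classInner ((χ : G → ℂ) * fun g => conj ((χ : G → ℂ) g)) (one : G → ℂ) = 1 := by
      rw [← classInner_self_irr χ.2]
      simp [classInner, one]
    rw [h2] at h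
    exact_mod_cast h.symm
  have hA1 : nco K.D (IsIrrCharacter.isCharacter one.2) 1 (trivB V) = 1 := by
    refine Nat.cast_injective (R := ℂ) ((co_eq K.D _ _ _).symm.trans ?_)
    show co K.D (fun _ : G => (1 : ℂ)) 1 (trivB V) = _
    rw [co_one_fun K.D, if_pos ⟨rfl, rfl⟩, Nat.cast_one]
  have hsumA : ∑ η : IrrCharacter G,
      m η * nco K.D (IsIrrCharacter.isCharacter η.2) 1 (trivB V) = e := by
    have h := co_normSq K χ
    rw [hm, co_combination K m, hsq2] at h
    exact_mod_cast h
  have hdegE : ∑ η : IrrCharacter G, m η * charDegree (η : G → ℂ) = d * d := by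
    have h := hEval 1
    simp only [hdeg, map_natCast, CharX.irr_deg] at h
    exact_mod_cast h.symm
  rw [← Finset.add_sum_erase _ _ (Finset.mem_univ one), hm1, hA1, mul_one] at hsumA
  rw [← Finset.add_sum_erase _ _ (Finset.mem_univ one), hm1,
    show charDegree (one : G → ℂ) = 1 by simp [charDegree, one], mul_one] at hdegE
  have hterm : ∀ η ∈ (Finset.univ : Finset (IrrCharacter G)).erase one, m η ≠ 0 →
      (nco K.D (IsIrrCharacter.isCharacter η.2) 1 (trivB V) : ℝ) * ((d : ℝ) ^ 2 - 1) <
        ((e : ℝ) - 1) * charDegree (η : G → ℂ) := by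
    intro η hη hmη
    rw [hdβ]
    refine constituent_bound K hM (Subgroup.center G) hZV hTI η (hkerη η hmη) hb he2
      (by rw [← hdβ]; exact hodd) hZb ?_ ?_
    · by_contra h
      push Not at h
      have hne : (η : G → ℂ) ≠ fun _ => 1 := fun h' => Finset.ne_of_mem_erase hη (Subtype.ext h')
      obtain ⟨L, hL, hLne, hPL⟩ := normal_of_trivial K.D η hne h
      exact hLne (htop L hL hPL)
    · have h1 := Finset.single_le_sum
        (f := fun η : IrrCharacter G => m η * nco K.D (IsIrrCharacter.isCharacter η.2) 1 (trivB V))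
        (fun _ _ => Nat.zero_le _) hη
      have h2 : nco K.D (IsIrrCharacter.isCharacter η.2) 1 (trivB V) ≤
          m η * nco K.D (IsIrrCharacter.isCharacter η.2) 1 (trivB V) :=
        Nat.le_mul_of_pos_left _ (Nat.pos_of_ne_zero hmη)
      omega
  obtain ⟨η0, hη0, hmη0⟩ : ∃ η ∈ (Finset.univ : Finset (IrrCharacter G)).erase one, m η ≠ 0 := by
    by_contra h
    push Not at h
    rw [Finset.sum_eq_zero fun η hη => by rw [h η hη, zero_mul]] at hsumA
    omega
  have hlt : ∑ η ∈ (Finset.univ : Finset (IrrCharacter G)).erase one, (m η : ℝ) *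
        ((nco K.D (IsIrrCharacter.isCharacter η.2) 1 (trivB V) : ℝ) * ((d : ℝ) ^ 2 - 1)) <
      ∑ η ∈ (Finset.univ : Finset (IrrCharacter G)).erase one,
        (m η : ℝ) * (((e : ℝ) - 1) * charDegree (η : G → ℂ)) := by
    refine Finset.sum_lt_sum (fun η hη => ?_) ⟨η0, hη0,
      mul_lt_mul_of_pos_left (hterm η0 hη0 hmη0) (Nat.cast_pos.2 (Nat.pos_of_ne_zero hmη0))⟩
    rcases Nat.eq_zero_or_pos (m η) with h | h
    · simp [h]
    · exact mul_le_mul_of_nonneg_left (hterm η hη h.ne').le (Nat.cast_nonneg _)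
  have hA' := congrArg (fun n : ℕ => (n : ℝ)) hsumA
  have hD' := congrArg (fun n : ℕ => (n : ℝ)) hdegE
  push_cast at hA' hD'
  simp only [← mul_assoc, mul_comm (_ : ℝ) ((e : ℝ) - 1)] at hlt
  rw [← Finset.sum_mul, eq_sub_of_add_eq' hA'] at hlt
  simp only [mul_assoc, ← Finset.mul_sum] at hlt
  rw [eq_sub_of_add_eq' hD', sq] at hlt
  exact lt_irrefl _ hlt

/-- A group with a faithful character of degree `d`, `2 d + 1 < p`, has a normal subgroup of
order `p`. -/
theorem normal_of_small (hp : p.Prime) : ∀ (n : ℕ) (G : Type u) [Group G] [Finite G],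
    Nat.card G = n → ∀ P : Subgroup G, Nat.card P = p → ¬ p ^ 2 ∣ n → ∀ χ : G → ℂ,
      IsCharacter G χ → (∀ g, χ g = χ 1 → g = 1) → 2 * charDegree χ + 1 < p → P.Normal := by
  intro n
  induction n using Nat.strong_induction_on with
  | _ n ih =>
  intro G _ _ hn P hP hsq χ hχ hf hd
  subst hn
  haveI : Fintype G := Fintype.ofFinite G
  -- each irreducible constituent provides a normal subgroup `P ⊔ ker`
  obtain ⟨m, hm⟩ := IsCharacter.exists_decomp hχ
  choose L hL hLm hLmul using fun η : IrrCharacter G =>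
    IsCharacter.exists_kernel (IsIrrCharacter.isCharacter η.2)
  have hdle : ∀ η, m η ≠ 0 → charDegree (η : G → ℂ) ≤ charDegree χ := fun η hη => by
    refine degree_le_of_constituent hχ η.2 ?_ (CharX.deg_spec hχ) (CharX.irr_deg η)
    rw [hm, classInner_combination]
    exact Nat.cast_ne_zero.2 hη
  have hnorm : ∀ η, m η ≠ 0 → (P ⊔ L η).Normal := by
    intro η hη
    haveI := hL η
    by_cases hPL : P ≤ L η
    · rw [sup_eq_right.2 hPL]; infer_instance
    by_cases hbot : L η = ⊥
    · rw [hbot, sup_bot_eq]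
      refine normal_of_irr hp hP hsq ?_ η (fun g hg => ?_) (by have := hdle η hη; omega)
      · intro H hH hPH g hg y hy
        have hlt : Nat.card H < Nat.card G := lt_of_le_of_ne (Subgroup.card_le_card_group H)
          fun h => hH (Subgroup.eq_top_of_card_eq H h)
        have hN := ih _ hlt H rfl (P.subgroupOf H)
          (by rw [Nat.card_congr (Subgroup.subgroupOfEquivOfLe hPH).toEquiv, hP])
          (fun h => hsq (h.trans (Subgroup.card_subgroup_dvd_card H))) (fun x => χ x)
          (IsCharacter.restrict hχ H) (fun x hx => Subtype.ext (hf _ hx))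
          (by simpa [charDegree] using hd)
        exact hN.conj_mem ⟨y, hPH hy⟩ hy ⟨g, hg⟩
      · rw [← Subgroup.mem_bot, ← hbot, hLm]
        exact hg
    · obtain ⟨η', hη'c, hη'v, -⟩ :=
        IsCharacter.deflate (IsIrrCharacter.isCharacter η.2) (L η) fun x hx => (hLm η x).1 hx
      have hlt : Nat.card (G ⧸ L η) < Nat.card G := by
        rw [Subgroup.card_eq_card_quotient_mul_card_subgroup (L η)]
        exact lt_mul_of_one_lt_right Nat.card_pos ((Subgroup.one_lt_card_iff_ne_bot _).2 hbot)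
      have hcard : Nat.card (P.map (QuotientGroup.mk' (L η))) = p := by
        refine (hp.eq_one_or_self_of_dvd _ (hP ▸ Subgroup.card_map_dvd P _)).resolve_left fun h => ?_
        rw [Subgroup.card_eq_one, Subgroup.map_eq_bot_iff, QuotientGroup.ker_mk'] at h
        exact hPL h
      have hN := ih _ hlt (G ⧸ L η) rfl (P.map (QuotientGroup.mk' (L η))) hcard
        (fun h => hsq (h.trans (Subgroup.card_quotient_dvd_card _))) η' hη'c
        (fun q hq => by
          obtain ⟨g, rfl⟩ := QuotientGroup.mk_surjective q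
          rw [hη'v, show η' 1 = (η : G → ℂ) 1 from hη'v 1] at hq
          exact (QuotientGroup.eq_one_iff g).2 ((hLm η g).2 hq))
        (by
          have h1 : charDegree η' = charDegree (η : G → ℂ) := by
            simp only [charDegree, show η' 1 = (η : G → ℂ) 1 from hη'v 1]
          have := hdle η hη
          omega)
      have h2 : (P ⊔ L η) = (P.map (QuotientGroup.mk' (L η))).comap (QuotientGroup.mk' (L η)) := by
        rw [Subgroup.comap_map_eq, QuotientGroup.ker_mk']
      rw [h2]
      exact hN.comap _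
  -- the intersection
  let H : Subgroup G := ⨅ η : {η : IrrCharacter G // m η ≠ 0}, P ⊔ L η.1
  have hH : H.Normal := ⟨fun x hx g => Subgroup.mem_iInf.2 fun η =>
    (hnorm η.1 η.2).conj_mem x (Subgroup.mem_iInf.1 hx η) g⟩
  have hPH : P ≤ H := le_iInf fun η => le_sup_left
  have hexp : ∀ x ∈ H, x ^ p = 1 := by
    intro x hx
    refine hf _ ?_
    rw [hm]
    simp only [Finset.sum_apply, Pi.smul_apply, smul_eq_mul]
    refine Finset.sum_congr rfl fun η _ => ?_
    by_cases hη : m η = 0
    · simp [hη]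
    congr 1
    refine (hLm η _).1 ?_
    haveI := hL η
    have hxm : (x : G) ∈ P ⊔ L η := Subgroup.mem_iInf.1 hx ⟨η, hη⟩
    rw [Subgroup.sup_eq_closure_mul, ← Subgroup.sup_eq_closure_mul] at hxm
    have h1 : QuotientGroup.mk' (L η) x ∈ P.map (QuotientGroup.mk' (L η)) := by
      rw [← Subgroup.mem_comap, Subgroup.comap_map_eq, QuotientGroup.ker_mk']
      exact hxm
    obtain ⟨y, hy, hyx⟩ := Subgroup.mem_map.1 h1
    rw [← QuotientGroup.eq_one_iff]
    show QuotientGroup.mk' (L η) (x ^ p) = 1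
    rw [map_pow, ← hyx, ← map_pow, pow_eq_one_of_card hP hy, map_one]
  haveI := Fact.mk hp
  have hpg : IsPGroup p H := fun x => ⟨1, by
    rw [pow_one]; exact Subtype.ext (hexp x x.2)⟩
  obtain ⟨k, hk⟩ := IsPGroup.iff_card.1 hpg
  have hk1 : k ≤ 1 := by
    by_contra h
    exact hsq (dvd_trans (pow_dvd_pow p (show 2 ≤ k by omega))
      (hk ▸ Subgroup.card_subgroup_dvd_card H))
  have hle : Nat.card H ≤ Nat.card P := by
    rw [hk, hP]
    calc p ^ k ≤ p ^ 1 := Nat.pow_le_pow_right hp.pos hk1
      _ = p := pow_one p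
  rwa [Subgroup.eq_of_le_of_card_ge hPH hle]

end Cfsg.Agent.DefOne
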