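/-
In a group of odd order a faithful character of degree `d`, `2 d + 1 ≤ p`, forces a normal
subgroup of order `p`, when the group order has the prime `p` exactly once.
-/
import Cfsg.Agent.Lib.DefOne.DegreeMain

set_option linter.unusedSectionVars false
set_option linter.style.haveILetI false

namespace Cfsg.Agent.DefOne

open Cfsg Cfsg.Agent.Char Cfsg.Agent.Blocks Cfsg.Agent.CCSylow

open scoped ComplexConjugate

universe u

variable {G : Type u} [Group G] [Fintype G] {p : ℕ}

/-- The degree of an irreducible character divides the order of the group. -/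
theorem deg_dvd_card (η : IrrCharacter G) : charDegree (η : G → ℂ) ∣ Nat.card G :=
  (degree_dvd_index_center η.2 (CharX.irr_deg η)).trans (Subgroup.index_dvd_card _)

/-- The exceptional constituent, in the boundary case. -/
theorem exceptional_bound_one {p f b w x : ℝ} (hf : 3 ≤ f) (hb : 1 ≤ b)
    (hd : 2 * (f * b) + 1 ≤ p) (hp : 4 * f + 3 ≤ p) (hw : b ^ 2 ≤ w) (hx0 : 0 ≤ x)
    (hx : p * w * (p + 1 - f) < x ^ 2) : f ^ 2 * b ^ 2 ≤ (f - 1) * x := by
  refine le_of_pow_le_pow_left₀ two_ne_zero (mul_nonneg (by linarith) hx0) ?_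
  have hfb : 0 ≤ f * b := mul_nonneg (by linarith) (by linarith)
  have h1 : 4 * (f * b) ^ 2 ≤ (p - 1) ^ 2 := by nlinarith
  have h2 : f ^ 2 * (p - 1) ^ 2 ≤ 4 * (f - 1) ^ 2 * (p * (p + 1 - f)) := by
    have h3 : 4 * f ^ 2 ≤ 9 * (f - 1) ^ 2 := by nlinarith
    have h4 : 9 * (p - 1) ^ 2 ≤ 16 * (p * (p + 1 - f)) := by nlinarith
    nlinarith [mul_le_mul h3 h4 (by positivity) (by positivity)]
  have h5 : (f ^ 2 * b ^ 2) ^ 2 ≤ (f - 1) ^ 2 * (p * (p + 1 - f)) * b ^ 2 := by
    nlinarith [mul_le_mul_of_nonneg_left h1 (by positivity : (0 : ℝ) ≤ f ^ 2 * b ^ 2),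
      mul_le_mul_of_nonneg_left h2 (sq_nonneg b)]
  calc (f ^ 2 * b ^ 2) ^ 2 ≤ (f - 1) ^ 2 * (p * (p + 1 - f)) * b ^ 2 := h5
    _ ≤ (f - 1) ^ 2 * (p * (p + 1 - f)) * w :=
        mul_le_mul_of_nonneg_left hw (mul_nonneg (sq_nonneg _) (mul_nonneg (by linarith) (by linarith)))
    _ = (f - 1) ^ 2 * (p * w * (p + 1 - f)) := by ring
    _ ≤ (f - 1) ^ 2 * x ^ 2 := mul_le_mul_of_nonneg_left hx.le (sq_nonneg _)
    _ = ((f - 1) * x) ^ 2 := by ring

section Rows

variable {M : Ideal AlgInt} [M.IsPrime] {P V N : Subgroup G} {e : ℕ} (K : Conf p P V N e)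
  [Fintype P] [Fintype V] [Fintype N] [Fintype (P →* ℂˣ)] (hM : IsPModular p M)

include K hM

/-- The shape of a character of degree at most `(p - 1) / 2`. -/
theorem char_structure_le (χ : IrrCharacter G) (hd : 2 * charDegree (χ : G → ℂ) + 1 ≤ p)
    (hker : ∃ y : P, (χ : G → ℂ) y ≠ (χ : G → ℂ) 1) :
    ∃ β : IrrCharacter V, charDegree (χ : G → ℂ) = e * charDegree (β : V → ℂ) ∧
      ∑ l, ∑ γ, nco K.D (IsIrrCharacter.isCharacter χ.2) l γ ^ 2 = e ∧
      ∀ l γ, nco K.D (IsIrrCharacter.isCharacter χ.2) l γ ≠ 0 →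
        nco K.D (IsIrrCharacter.isCharacter χ.2) l γ = 1 ∧
          charDegree (γ : V → ℂ) = charDegree (β : V → ℂ) := by
  classical
  have hd0 : 0 < charDegree (χ : G → ℂ) := CharX.irr_deg_pos χ
  obtain ⟨β, hβ⟩ := exists_inR K hM (χ := χ) (fun h => by have := Nat.le_of_dvd hd0 h; omega)
  obtain ⟨eb, X, Y, δ, sg, F⟩ := exists_families K hM β
  have hχ := IsIrrCharacter.isCharacter χ.2
  have hdeg := deg_eq_nat K χ
  have hle : ∀ γ, ∑ l, nco K.D hχ l γ ≤ charDegree (χ : G → ℂ) := fun γ => by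
    refine le_trans (Nat.le_mul_of_pos_right _ (CharX.irr_deg_pos γ)) ?_
    rw [← hdeg]
    exact Finset.single_le_sum
      (f := fun γ : IrrCharacter V => (∑ l, nco K.D hχ l γ) * charDegree (γ : V → ℂ))
      (fun _ _ => Nat.zero_le _) (Finset.mem_univ γ)
  have hcard := card_dual_eq K
  have hzero : ∀ γ, γ ∉ orbB K β → ∀ l, nco K.D hχ l γ = 0 := by
    intro γ hγ l
    have hn : ¬ InR K χ γ := fun h => hγ ((mem_orbB K).2 (exists_conj_of_block K hM hβ h rfl))
    rw [const_of_not_inR K hn]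
    have h1 := hle γ
    rw [Finset.sum_congr rfl fun l _ => const_of_not_inR K hn l, Finset.sum_const,
      Finset.card_univ, hcard, smul_eq_mul] at h1
    rcases Nat.eq_zero_or_pos (nco K.D hχ 1 γ) with h | h
    · exact h
    · have := Nat.le_mul_of_pos_right p h; omega
  obtain ⟨l0, hl0, hl0n⟩ : ∃ l, l ≠ 1 ∧ nco K.D hχ l β ≠ 0 := by
    by_contra h
    push Not at h
    obtain ⟨y, hy⟩ := hker
    refine hy (kernel_of_trivial K.D hχ (fun l hl γ => ?_) y)
    by_cases hγ : γ ∈ orbB K β
    · obtain ⟨w, rfl⟩ := (mem_orbB K).1 hγ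
      obtain ⟨l', rfl⟩ := (lT_bijective K w).2 l
      rw [nco_inv]
      exact h l' fun h1 => hl (by rw [h1, lT_triv])
    · exact hzero γ hγ l
  have hac : ∀ l, acoef K χ β l = (nco K.D hχ 1 β : ℤ) - nco K.D hχ l β := fun l => rfl
  have hge : ∀ k, (∀ l, l ≠ 1 → k ≤ nco K.D hχ l β) →
      nco K.D hχ 1 β + (p - 1) * k ≤ ∑ l, nco K.D hχ l β := by
    intro k hk
    rw [← Finset.add_sum_erase _ _ (Finset.mem_univ (1 : P →* ℂˣ))]
    refine Nat.add_le_add_left (le_trans (le_of_eq ?_) (Finset.card_nsmul_le_sum _ _ k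
      fun l hl => hk l (Finset.ne_of_mem_erase hl))) _
    rw [Finset.card_erase_of_mem (Finset.mem_univ _), Finset.card_univ, hcard, smul_eq_mul]
  have hp1 := K.hp.two_le
  obtain ⟨hsum, hle1⟩ : (∑ l, nco K.D hχ l β = eb) ∧ ∀ l, nco K.D hχ l β ≤ 1 := by
    rcases (mem_iff_inR K F χ).2 hβ with hX | hY
    · exfalso
      have hrow := F.rowX χ hX
      have h0 := hrow l0 hl0
      rw [hac] at h0
      have h2 := hge 1 fun l hl => by
        have h1 := hrow l hl
        rw [hac] at h1
        omega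
      have := hle β
      omega
    · have hval := F.valY χ hY
      have hs := F.sumY χ hY
      rcases F.sign with rfl | rfl
      · exfalso
        have h0 := hval l0
        rw [hac] at h0
        have h1' := hle β
        by_cases h2 : 2 ≤ nco K.D hχ 1 β
        · have h3 := hge 1 fun l hl => by
            have h1 := hval l
            rw [hac] at h1
            omega
          omega
        · have hz : acoef K χ β l0 = 0 := by rw [hac]; omega
          have hub : ∑ l, acoef K χ β l ≤ (p : ℤ) - 2 := by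
            rw [← Finset.sum_erase (a := (1 : P →* ℂˣ)) Finset.univ (acoef_one K χ β),
              ← Finset.sum_erase (a := l0) _ hz]
            refine (Finset.sum_le_card_nsmul _ _ 1 fun l _ => ?_).trans ?_
            · rcases hval l with h | h <;> rw [h] <;> norm_num
            · rw [Finset.card_erase_of_mem (Finset.mem_erase.2 ⟨hl0, Finset.mem_univ _⟩),
                Finset.card_erase_of_mem (Finset.mem_univ _), Finset.card_univ, hcard]
              simp only [nsmul_eq_mul, mul_one]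
              omega
          rw [hs, one_mul] at hub
          have hYc : 2 ≤ Y.card := by
            by_contra hc
            have h3 : Y.card ≤ 1 := by omega
            have h4 := Nat.mul_le_mul_right eb h3
            rw [F.cardY] at h4
            omega
          have heb : 2 * eb ≤ p - 1 := F.cardY ▸ Nat.mul_le_mul_right eb hYc
          have hsum' : (p : ℤ) * nco K.D hχ 1 β - eb = ((∑ l, nco K.D hχ l β : ℕ) : ℤ) := by
            rw [show (eb : ℤ) = ∑ l, acoef K χ β l by rw [hs, one_mul]]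
            simp only [hac, Finset.sum_sub_distrib, Finset.sum_const, Finset.card_univ, hcard,
              nsmul_eq_mul, Nat.cast_sum]
            ring
          rw [show nco K.D hχ 1 β = 1 by omega] at hsum'
          omega
      · have h10 : nco K.D hχ 1 β = 0 := by
          by_contra hne
          have h3 := hge 1 fun l hl => by
            have h1 := hval l
            rw [hac] at h1
            omega
          have := hle β
          omega
        refine ⟨?_, fun l => ?_⟩
        · have hs' : ((∑ l, nco K.D hχ l β : ℕ) : ℤ) = eb := by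
            simp only [hac, h10, Nat.cast_zero, zero_sub, Finset.sum_neg_distrib, neg_mul, one_mul,
              neg_inj] at hs
            push_cast
            exact hs
          exact_mod_cast hs'
        · have h1 := hval l
          rw [hac, h10] at h1
          omega
  have horb : ∀ γ ∈ orbB K β, (∑ l, nco K.D hχ l γ = eb) ∧ (∀ l, nco K.D hχ l γ ≤ 1) ∧
      charDegree (γ : V → ℂ) = charDegree (β : V → ℂ) := by
    intro γ hγ
    obtain ⟨w, rfl⟩ := (mem_orbB K).1 hγ
    refine ⟨?_, fun l => ?_, charDegree_bT K w β⟩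
    · rw [← hsum]
      exact (Fintype.sum_bijective _ (lT_bijective K w) _ _ fun l => (nco_inv K.D hχ w l β).symm).symm
    · obtain ⟨l', rfl⟩ := (lT_bijective K w).2 l
      rw [nco_inv]
      exact hle1 l'
  have hoe : (orbB K β).card * eb = e := by
    have h := card_orbB K β
    rw [F.card_stab, K.D.hcard, K.hP, ← mul_assoc] at h
    exact Nat.eq_of_mul_eq_mul_right (Nat.mul_pos K.hp.pos Nat.card_pos) h
  refine ⟨β, ?_, ?_, fun l γ hne => ?_⟩
  · rw [← hdeg, ← Finset.sum_subset (Finset.subset_univ (orbB K β)) fun γ _ hγ => ?_,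
      Finset.sum_congr rfl fun γ hγ => show _ = eb * charDegree (β : V → ℂ) by
        rw [(horb γ hγ).1, (horb γ hγ).2.2],
      Finset.sum_const, smul_eq_mul, ← mul_assoc, hoe]
    rw [Finset.sum_eq_zero fun l _ => hzero γ hγ l, zero_mul]
  · rw [Finset.sum_comm, ← Finset.sum_subset (Finset.subset_univ (orbB K β)) fun γ _ hγ =>
        Finset.sum_eq_zero fun l _ => by simp [hzero γ hγ l],
      Finset.sum_congr rfl fun γ hγ => show _ = eb by
        rw [← (horb γ hγ).1]
        refine Finset.sum_congr rfl fun l _ => ?_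
        rcases Nat.le_one_iff_eq_zero_or_eq_one.1 ((horb γ hγ).2.1 l) with h | h <;> rw [h] <;> rfl,
      Finset.sum_const, smul_eq_mul, hoe]
  · by_cases hγ : γ ∈ orbB K β
    · exact ⟨by have := (horb γ hγ).2.1 l; omega, (horb γ hγ).2.2⟩
    · exact absurd (hzero γ hγ l) hne

variable (Z : Subgroup G) [Z.Normal] (hZV : Z ≤ V)
  (hTI : ∀ u ∈ Subgroup.centralizer (P : Set G), u ∉ Z → ∀ g : G,
    g * u * g⁻¹ ∈ Subgroup.centralizer (P : Set G) → g * u * g⁻¹ ∉ Z → g ∈ N)

include hZV hTI

/-- The bound for a constituent of `χ · conj χ`. -/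
theorem constituent_bound_odd (η : IrrCharacter G) (hker : ∀ x ∈ Z, (η : G → ℂ) x = (η : G → ℂ) 1)
    {b : ℕ} (hb : 1 ≤ b) (he2 : 2 ≤ e) (hp : 2 * (e * b) + 1 ≤ p)
    (heo : Odd e) (hbo : Odd b) (hdo : Odd (charDegree (η : G → ℂ)))
    (hZb : Nat.card Z * b ^ 2 ≤ Nat.card V)
    (hnt : ∃ l : P →* ℂˣ, l ≠ 1 ∧ ∃ γ, nco K.D (IsIrrCharacter.isCharacter η.2) l γ ≠ 0)
    (hA : nco K.D (IsIrrCharacter.isCharacter η.2) 1 (trivB V) + 1 ≤ e) :
    (nco K.D (IsIrrCharacter.isCharacter η.2) 1 (trivB V) : ℝ) * (((e * b : ℕ) : ℝ) ^ 2 - 1) <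
      ((e : ℝ) - 1) * charDegree (η : G → ℂ) := by
  classical
  have hη := IsIrrCharacter.isCharacter η.2
  set d := charDegree (η : G → ℂ) with hddef
  set A := nco K.D hη 1 (trivB V) with hAdef
  have hd0 : (0 : ℝ) < d := Nat.cast_pos.2 (CharX.irr_deg_pos η)
  have he2R : (2 : ℝ) ≤ e := by exact_mod_cast he2
  rcases Nat.eq_zero_or_pos A with hA0 | hA1
  · rw [hA0, Nat.cast_zero, zero_mul]
    exact mul_pos (by linarith) hd0
  have hcard := card_dual_eq K
  have htriv1 : charDegree (trivB V : V → ℂ) = 1 := by simp [charDegree, trivB]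
  have hle : ∑ l, nco K.D hη l (trivB V) ≤ d := by
    rw [hddef, ← deg_eq_nat K η]
    refine le_trans (le_of_eq ?_) (Finset.single_le_sum
      (f := fun γ : IrrCharacter V => (∑ l, nco K.D hη l γ) * charDegree (γ : V → ℂ))
      (fun _ _ => Nat.zero_le _) (Finset.mem_univ (trivB V)))
    simp only [htriv1, mul_one]
  have hexc : A = 1 → InR K η (trivB V) →
      (∀ l, l ≠ 1 → nco K.D hη l (trivB V) + 1 = A) →
      ∃ γ : IrrCharacter V, γ ≠ trivB V ∧ ∀ l, 1 ≤ nco K.D hη l γ := by
    intro hA' hR hrow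
    obtain ⟨l, hl, γ, hγ⟩ := hnt
    have hne : γ ≠ trivB V := fun h => by
      subst h
      have := hrow l hl
      omega
    refine ⟨γ, hne, fun l' => ?_⟩
    have hn : ¬ InR K η γ := fun h => by
      obtain ⟨w, hw⟩ := exists_conj_of_block K hM hR h rfl
      exact hne (hw.symm.trans (Subtype.ext (funext fun _ => rfl)))
    rw [const_of_not_inR K hn l', ← const_of_not_inR K hn l]
    exact Nat.one_le_iff_ne_zero.2 hγ
  rcases Nat.lt_or_ge b 2 with hb2 | hb2
  · -- `b = 1`
    obtain rfl : b = 1 := by omega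
    rw [mul_one] at hp ⊢
    suffices h : A * (e + 1) ≤ d by
      replace h : A * (e + 1) < d := lt_of_le_of_ne h fun h' =>
        Nat.not_even_iff_odd.2 hdo (h' ▸ (heo.add_one).mul_left A)
      have h' : (A : ℝ) * ((e : ℝ) + 1) < d := by exact_mod_cast h
      nlinarith
    rcases rows_trivB K hM η with ⟨k, S, hk, hS, hkS⟩ | ⟨hR, hrow⟩
    · have h1 : S.card * k ≤ d := by
        refine le_trans (le_trans ?_ (Finset.sum_le_sum_of_subset (Finset.subset_univ S))) hle
        rw [Finset.sum_congr rfl hkS, Finset.sum_const, smul_eq_mul]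
      refine le_trans ?_ h1
      calc A * (e + 1) ≤ A * S.card := Nat.mul_le_mul_left A (by omega)
        _ ≤ S.card * k := by rw [mul_comm A]; exact Nat.mul_le_mul_left _ hk
    · by_cases hA2 : A = 1
      · obtain ⟨γ, hγ, hk⟩ := hexc hA2 hR hrow
        have h2 : (∑ l, nco K.D hη l (trivB V)) * charDegree (trivB V : V → ℂ) +
            (∑ l, nco K.D hη l γ) * charDegree (γ : V → ℂ) ≤ d := by
          rw [hddef, ← deg_eq_nat K η, ← Finset.sum_pair
            (f := fun γ : IrrCharacter V => (∑ l, nco K.D hη l γ) * charDegree (γ : V → ℂ))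
            hγ.symm]
          exact Finset.sum_le_sum_of_subset (Finset.subset_univ _)
        have h3 : p ≤ ∑ l, nco K.D hη l γ := by
          refine le_trans (le_of_eq ?_) (Finset.card_nsmul_le_sum Finset.univ _ 1 fun l _ => hk l)
          rw [Finset.card_univ, hcard, smul_eq_mul, mul_one]
        have h4 := h3.trans (Nat.le_mul_of_pos_right _ (CharX.irr_deg_pos γ))
        rw [hA2]
        omega
      · have h1 : A + (p - 1) * (A - 1) ≤ d := by
          refine le_trans (le_of_eq ?_) hle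
          rw [← Finset.add_sum_erase _ _ (Finset.mem_univ (1 : P →* ℂˣ)),
            Finset.sum_congr rfl fun l hl => show _ = A - 1 by
              have := hrow l (Finset.ne_of_mem_erase hl); omega,
            Finset.sum_const, Finset.card_erase_of_mem (Finset.mem_univ _), Finset.card_univ, hcard,
            smul_eq_mul]
        refine le_trans ?_ h1
        obtain ⟨a, ha⟩ : ∃ a, A = a + 2 := ⟨A - 2, by omega⟩
        rw [ha] at *
        have h5 : 2 * e * (a + 1) ≤ (p - 1) * (a + 1) := Nat.mul_le_mul_right _ (by omega)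
        rw [show a + 2 - 1 = a + 1 from rfl]
        nlinarith
  -- `b ≥ 2`
  have hb3 : 3 ≤ b := by rcases hbo with ⟨k, rfl⟩; omega
  have he3 : 3 ≤ e := by rcases heo with ⟨k, rfl⟩; omega
  have hpn : 4 * e + 3 ≤ p := by nlinarith
  have hpR : 4 * (e : ℝ) + 3 ≤ p := by exact_mod_cast hpn
  obtain ⟨hT1, hT2⟩ := TI_estimates K Z hZV hTI η hker
  have hT := hT2 (trivB V) fun _ => rfl
  set c : ℝ := (Nat.card Z : ℝ) * d / (p * Nat.card V) with hc
  set w : ℝ := (Nat.card V : ℝ) / Nat.card Z with hwdef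
  have hZ0 : (0 : ℝ) < Nat.card Z := Nat.cast_pos.2 Nat.card_pos
  have hV0 : (0 : ℝ) < Nat.card V := Nat.cast_pos.2 Nat.card_pos
  have hp0 : (0 : ℝ) < p := Nat.cast_pos.2 K.hp.pos
  have hbw : (b : ℝ) ^ 2 ≤ w := by
    rw [hwdef, le_div_iff₀ hZ0, mul_comm]
    exact_mod_cast hZb
  have hcw : c * p * w = d := by rw [hc, hwdef]; field_simp
  have hb1R : (1 : ℝ) ≤ b := by exact_mod_cast hb
  suffices hkey : (A : ℝ) * ((e : ℝ) ^ 2 * (b : ℝ) ^ 2) ≤ ((e : ℝ) - 1) * d by
    have hA1R : (0 : ℝ) < A := Nat.cast_pos.2 hA1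
    push_cast
    nlinarith
  have hfrom : ∀ k : ℝ, (A : ℝ) ≤ k → k * (e : ℝ) ^ 2 ≤ c * p * ((e : ℝ) - 1) →
      (A : ℝ) * ((e : ℝ) ^ 2 * (b : ℝ) ^ 2) ≤ ((e : ℝ) - 1) * d := by
    intro k hk h
    calc (A : ℝ) * ((e : ℝ) ^ 2 * (b : ℝ) ^ 2) = ((A : ℝ) * (e : ℝ) ^ 2) * (b : ℝ) ^ 2 := by ring
      _ ≤ (k * (e : ℝ) ^ 2) * (b : ℝ) ^ 2 := by gcongr
      _ ≤ (c * p * ((e : ℝ) - 1)) * (b : ℝ) ^ 2 := by gcongr
      _ ≤ (c * p * ((e : ℝ) - 1)) * w := by
          refine mul_le_mul_of_nonneg_left hbw (le_trans ?_ h)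
          exact mul_nonneg (le_trans (Nat.cast_nonneg _) hk) (sq_nonneg _)
      _ = ((e : ℝ) - 1) * d := by rw [← hcw]; ring
  rcases rows_trivB K hM η with ⟨k, S, hk, hS, hkS⟩ | ⟨hR, hrow⟩
  · refine hfrom k (by exact_mod_cast hk) (majority_bound (s := (S.card : ℝ)) ?_ ?_ ?_ ?_)
    · rcases Nat.lt_or_ge e 3 with h | h
      · have : e = 2 := by omega
        subst this
        exact Or.inl ⟨by norm_num, by push_cast at hpR; linarith⟩
      · exact Or.inr ⟨by exact_mod_cast h, hpR⟩
    · exact_mod_cast (le_trans hA1 hk)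
    · have : (p : ℝ) ≤ S.card + e := by exact_mod_cast hS
      linarith
    · refine lt_of_le_of_lt ?_ hT
      refine le_trans (le_of_eq ?_) (Finset.sum_le_univ_sum_of_nonneg (s := S) fun l => sq_nonneg _)
      rw [Finset.sum_congr rfl fun l hl => show _ = ((k : ℝ) - c) ^ 2 by rw [hkS l hl],
        Finset.sum_const, nsmul_eq_mul]
  · by_cases hA2 : A = 1
    · obtain ⟨γ, hγ, hk⟩ := hexc hA2 hR hrow
      have hsq : (p : ℝ) + 1 ≤ ∑ l, ∑ b', (nco K.D hη l b' : ℝ) ^ 2 := by
        rw [Finset.sum_comm]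
        refine le_trans ?_ (Finset.sum_le_univ_sum_of_nonneg (s := {γ, trivB V})
          fun b' => Finset.sum_nonneg fun l _ => sq_nonneg _)
        rw [Finset.sum_pair hγ]
        refine add_le_add (le_trans (le_of_eq ?_) (Finset.card_nsmul_le_sum Finset.univ _ 1
          fun l _ => one_le_pow₀ (by exact_mod_cast hk l))) ?_
        · rw [Finset.card_univ, hcard, nsmul_eq_mul, mul_one]
        · refine le_trans (le_of_eq ?_) (Finset.single_le_sum (fun l _ => sq_nonneg _)
            (Finset.mem_univ (1 : P →* ℂˣ)))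
          rw [← hAdef, hA2]
          norm_num
      have hx : (p : ℝ) * w * ((p : ℝ) + 1 - e) < (d : ℝ) ^ 2 := by
        have h1 : (p : ℝ) * Nat.card V * ((p : ℝ) + 1 - e) < (Nat.card Z : ℝ) * (d : ℝ) ^ 2 := by
          have := mul_le_mul_of_nonneg_left hsq (mul_nonneg hp0.le hV0.le)
          nlinarith [hT1]
        rw [hwdef, mul_div_assoc', div_mul_eq_mul_div, div_lt_iff₀ hZ0, mul_comm ((d : ℝ) ^ 2)]
        exact h1
      rw [hA2, Nat.cast_one, one_mul]
      refine exceptional_bound_one (p := (p : ℝ)) (w := w) ?_ hb1R ?_ hpR hbw hd0.le hx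
      · exact_mod_cast he3
      · exact_mod_cast hp
    · obtain ⟨a, ha⟩ : ∃ a : ℕ, A = a + 1 := ⟨A - 1, by omega⟩
      refine hfrom ((a : ℝ) + 1) (by rw [ha]; push_cast; exact le_rfl)
        (plus_bound (by exact_mod_cast (show 3 ≤ e by omega)) hpR
          (by exact_mod_cast (show 1 ≤ a by omega)) ?_)
      refine lt_of_le_of_lt (le_of_eq ?_) hT
      rw [← Finset.add_sum_erase _ _ (Finset.mem_univ (1 : P →* ℂˣ)),
        Finset.sum_congr rfl fun l hl => show _ = ((a : ℝ) - c) ^ 2 by
          rw [show nco K.D hη l (trivB V) = a by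
            have := hrow l (Finset.ne_of_mem_erase hl); omega],
        Finset.sum_const, Finset.card_erase_of_mem (Finset.mem_univ _), Finset.card_univ, hcard,
        nsmul_eq_mul, Nat.cast_sub K.hp.one_le, ← hAdef, ha]
      push_cast
      ring

end Rows

set_option maxHeartbeats 1000000 in
/-- The irreducible case. -/
theorem normal_of_irr_odd (hodd' : Odd (Nat.card G)) (hp : p.Prime) {P : Subgroup G} (hP : Nat.card P = p)
    (hsq : ¬ p ^ 2 ∣ Nat.card G)
    (hsub : ∀ H : Subgroup G, H ≠ ⊤ → P ≤ H → ∀ g ∈ H, ∀ y ∈ P, g * y * g⁻¹ ∈ P)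
    (χ : IrrCharacter G) (hf : ∀ g, (χ : G → ℂ) g = (χ : G → ℂ) 1 → g = 1)
    (hd : 2 * charDegree (χ : G → ℂ) + 1 ≤ p) : P.Normal := by
  classical
  haveI := Fact.mk hp
  by_contra hPn
  set d := charDegree (χ : G → ℂ) with hddef
  have hdeg : (χ : G → ℂ) 1 = (d : ℂ) := CharX.irr_deg χ
  have hd0 : 0 < d := CharX.irr_deg_pos χ
  -- the degree is at least two
  have hd1 : d ≠ 1 := by
    intro h1
    refine hPn (normal_of_le_center fun y _ => mem_center_of_norm χ.2 hf hdeg ?_)
    have hsum := classInner_self_irr χ.2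
    rw [classInner, inv_mul_eq_iff_eq_mul₀ (Nat.cast_ne_zero.2 Nat.card_pos.ne'), mul_one] at hsum
    simp only [Complex.mul_conj, ← Complex.ofReal_sum] at hsum
    have hsum' : ∑ x : G, Complex.normSq ((χ : G → ℂ) x) = ∑ _x : G, (1 : ℝ) := by
      rw [Finset.sum_const, Finset.card_univ, nsmul_eq_mul, mul_one, ← Nat.card_eq_fintype_card]
      exact_mod_cast hsum
    have hle : ∀ x : G, Complex.normSq ((χ : G → ℂ) x) ≤ 1 := fun x => by
      rw [Complex.normSq_eq_norm_sq]
      have := IsIrrCharacter.norm_le χ.2 hdeg x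
      rw [h1, Nat.cast_one] at this
      exact pow_le_one₀ (norm_nonneg _) this
    have h := (Finset.sum_eq_sum_iff_of_le fun x _ => hle x).1 hsum' y (Finset.mem_univ _)
    rw [Complex.normSq_eq_norm_sq] at h
    rw [h1, Nat.cast_one]
    exact (pow_eq_one_iff_of_nonneg (norm_nonneg _) two_ne_zero).1 h
  have hdodd : ∀ η : IrrCharacter G, Odd (charDegree (η : G → ℂ)) := fun η =>
    hodd'.of_dvd_nat (deg_dvd_card η)
  -- the configuration
  have hidx : ¬ p ∣ P.index := fun h => hsq (by
    rw [← P.card_mul_index, hP, pow_two]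
    exact mul_dvd_mul_left p h)
  let S : Sylow p G := IsPGroup.toSylow (IsPGroup.of_card (n := 1) (by rw [pow_one]; exact hP)) hidx
  obtain ⟨V, e, K0, -⟩ := exists_conf hp S (show Nat.card P = p from hP)
  have K : Conf p P V (Subgroup.normalizer (P : Set G)) e := K0
  obtain ⟨M, hM⟩ := exists_isPModular_witness p
  haveI := IsPModular.isPrime hM
  haveI : Fintype P := Fintype.ofFinite _
  haveI : Fintype V := Fintype.ofFinite _
  haveI : Fintype (Subgroup.normalizer (P : Set G)) := Fintype.ofFinite _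
  haveI : Fintype (P →* ℂˣ) := Fintype.ofFinite _
  have htop : ∀ L : Subgroup G, L.Normal → P ≤ L → L = ⊤ := fun L hL hPL => by
    haveI := hL
    exact eq_top_of_normal_ge hp hP hsq hPn hsub hPL
  have hker : ∃ y : P, (χ : G → ℂ) y ≠ (χ : G → ℂ) 1 := by
    by_contra h
    push Not at h
    obtain ⟨y, hy⟩ := exists_ne_one_P K
    exact hy (Subtype.ext (hf _ (h y)))
  obtain ⟨β, hdβ, hsq2, hone⟩ := char_structure_le K hM χ hd hker
  rw [← hddef] at hdβ
  have hb : 1 ≤ charDegree (β : V → ℂ) := CharX.irr_deg_pos β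
  have hχ := IsIrrCharacter.isCharacter χ.2
  -- the index is at least two
  have he2 : 2 ≤ e := by
    by_contra hlt
    have he1 : e = 1 := by have := CCSylow.e_pos K.D; omega
    have hex : ∃ l γ, nco K.D hχ l γ ≠ 0 := by
      by_contra h
      push Not at h
      have h2 := hsq2.trans he1
      simp [h] at h2
    obtain ⟨l, γ, hne⟩ := hex
    have huniq : ∀ l' γ', (l', γ') ≠ (l, γ) → nco K.D hχ l' γ' = 0 := by
      intro l' γ' hn
      by_contra h'
      have h2 : ∑ x ∈ ({(l', γ'), (l, γ)} : Finset ((P →* ℂˣ) × IrrCharacter V)),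
          nco K.D hχ x.1 x.2 ^ 2 ≤ e := by
        refine le_of_le_of_eq ?_ hsq2
        rw [← Fintype.sum_prod_type']
        exact Finset.sum_le_sum_of_subset (Finset.subset_univ _)
      rw [Finset.sum_pair hn] at h2
      simp only [(hone l' γ' h').1, (hone l γ hne).1, one_pow] at h2
      omega
    obtain ⟨y, hy⟩ := exists_ne_one_P K
    have hval : (χ : G → ℂ) y = ((l y : ℂˣ) : ℂ) * (d : ℂ) := by
      have h := expansion K.D (IsCharacter.isClassFunction hχ) y 1
      rw [OneMemClass.coe_one, mul_one] at h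
      rw [h, ← Fintype.sum_prod_type'
        (f := fun l γ => co K.D (χ : G → ℂ) l γ * ((l y : ℂˣ) : ℂ) * (γ : V → ℂ) 1),
        Finset.sum_eq_single (l, γ)]
      · show co K.D (χ : G → ℂ) l γ * _ * _ = _
        rw [co_eq K.D hχ, (hone _ _ hne).1, CharX.irr_deg γ, (hone _ _ hne).2, hdβ, he1]
        simp
      · intro x _ hx
        rw [co_eq K.D hχ, huniq x.1 x.2 hx, Nat.cast_zero, zero_mul, zero_mul]
      · exact fun h => absurd (Finset.mem_univ _) h
    refine hPn (normal_of_le_center fun z hz => ?_)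
    have hy' : (y : G) ∈ Subgroup.center G := mem_center_of_norm χ.2 hf hdeg (by
      rw [hval, norm_mul, Complex.norm_eq_one_of_pow_eq_one (linear_pow_p K l y) hp.ne_zero,
        one_mul, Complex.norm_natCast])
    obtain ⟨i, hi⟩ := exists_pow_eq K hy ⟨z, hz⟩
    rw [show z = (y : G) ^ i by rw [← SubgroupClass.coe_pow, hi]]
    exact pow_mem hy' i
  -- the centre
  have hpc := not_dvd_center hp hP hsq hPn
  have hZV : Subgroup.center G ≤ V := fun z hz =>
    mem_V_of_regular K (Subgroup.center_le_centralizer _ hz)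
      fun h => hpc (h.trans (Subgroup.orderOf_dvd_natCard _ hz))
  have hTI : ∀ u ∈ Subgroup.centralizer (P : Set G), u ∉ Subgroup.center G → ∀ g : G,
      g * u * g⁻¹ ∈ Subgroup.centralizer (P : Set G) → g * u * g⁻¹ ∉ Subgroup.center G →
      g ∈ Subgroup.normalizer (P : Set G) := by
    intro u hu hun g hg _
    have hH : Subgroup.centralizer ({u} : Set G) ≠ ⊤ := fun h => hun (Subgroup.mem_center_iff.2
      fun x => (Subgroup.mem_centralizer_iff.1 ((Subgroup.eq_top_iff' _).1 h x) u rfl).symm)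
    have hPH : P ≤ Subgroup.centralizer ({u} : Set G) := fun y hy =>
      Subgroup.mem_centralizer_iff.2 fun t ht => by
        rw [Set.mem_singleton_iff.1 ht]
        exact (Subgroup.mem_centralizer_iff.1 hu y hy).symm
    obtain ⟨y, hy⟩ := exists_ne_one_P K
    have hmem : g⁻¹ * (y : G) * g ∈ Subgroup.centralizer ({u} : Set G) :=
      Subgroup.mem_centralizer_iff.2 fun t ht => by
        rw [Set.mem_singleton_iff.1 ht]
        have h1 : (y : G) * (g * u * g⁻¹) = g * u * g⁻¹ * y :=
          Subgroup.mem_centralizer_iff.1 hg y y.2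
        calc u * (g⁻¹ * (y : G) * g) = g⁻¹ * (g * u * g⁻¹ * y) * g := by group
          _ = g⁻¹ * ((y : G) * (g * u * g⁻¹)) * g := by rw [h1]
          _ = g⁻¹ * (y : G) * g * u := by group
    haveI : (P.subgroupOf (Subgroup.centralizer ({u} : Set G))).Normal :=
      ⟨fun a ha c => hsub _ hH hPH c c.2 a ha⟩
    have hin : g⁻¹ * (y : G) * g ∈ P := mem_of_normal_prime hp
      (fun h' => hsq (h'.trans (Subgroup.card_subgroup_dvd_card _)))
      (H := P.subgroupOf (Subgroup.centralizer ({u} : Set G)))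
      (by rw [Nat.card_congr (Subgroup.subgroupOfEquivOfLe hPH).toEquiv, hP])
      (x := ⟨_, hmem⟩) (Subtype.ext (by
        show (g⁻¹ * (y : G) * g) ^ p = 1
        have := pow_eq_one_of_card hP y.2
        rw [show g⁻¹ * (y : G) * g = g⁻¹ * (y : G) * g⁻¹⁻¹ by rw [inv_inv], conj_pow, this]
        group))
    have := K.D.hTI (y : G) y.2 (fun h => hy (Subtype.ext h)) g⁻¹ (by rwa [inv_inv])
    simpa using inv_mem this
  have hZb : Nat.card (Subgroup.center G) * charDegree (β : V → ℂ) ^ 2 ≤ Nat.card V := by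
    have hs := classInner_self_irr β.2
    rw [classInner, inv_mul_eq_iff_eq_mul₀ (Nat.cast_ne_zero.2 Nat.card_pos.ne'), mul_one] at hs
    simp only [Complex.mul_conj, ← Complex.ofReal_sum] at hs
    have hs' : ∑ v : V, Complex.normSq ((β : V → ℂ) v) = (Nat.card V : ℝ) := by exact_mod_cast hs
    let T : Finset V := Finset.univ.filter fun v : V => (v : G) ∈ Subgroup.center G
    have hT : T.card = Nat.card (Subgroup.center G) := by
      rw [← Nat.card_eq_finsetCard]
      exact Nat.card_congr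
        { toFun := fun v => ⟨(v.1 : G), (Finset.mem_filter.1 v.2).2⟩
          invFun := fun z => ⟨⟨(z : G), hZV z.2⟩, Finset.mem_filter.2 ⟨Finset.mem_univ _, z.2⟩⟩
          left_inv := fun v => rfl
          right_inv := fun z => rfl }
    have hval : ∀ v ∈ T, Complex.normSq ((β : V → ℂ) v) = (charDegree (β : V → ℂ) : ℝ) ^ 2 := by
      intro v hv
      obtain ⟨c, hc1, hc, -⟩ := IsIrrCharacter.exists_central_scalar β.2 (z := v)
        (Subgroup.mem_center_iff.2 fun g => Subtype.ext
          (Subgroup.mem_center_iff.1 (Finset.mem_filter.1 hv).2 g))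
      have h := hc 1
      rw [mul_one] at h
      rw [Complex.normSq_eq_norm_sq, h, norm_mul, hc1, one_mul, CharX.irr_deg, Complex.norm_natCast]
    have h2 : ∑ v ∈ T, Complex.normSq ((β : V → ℂ) v) ≤ (Nat.card V : ℝ) :=
      hs' ▸ Finset.sum_le_univ_sum_of_nonneg fun v => Complex.normSq_nonneg _
    rw [Finset.sum_congr rfl hval, Finset.sum_const, nsmul_eq_mul, hT] at h2
    exact_mod_cast h2
  -- the character `χ · conj χ`
  have hEc : IsCharacter G ((χ : G → ℂ) * fun g => conj ((χ : G → ℂ) g)) :=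
    IsCharacter.mul hχ (IsCharacter.conj hχ)
  obtain ⟨m, hm⟩ := IsCharacter.exists_decomp hEc
  have hEval : ∀ g, (χ : G → ℂ) g * conj ((χ : G → ℂ) g) =
      ∑ η : IrrCharacter G, (m η : ℂ) * (η : G → ℂ) g := fun g => by
    simpa using congrFun hm g
  have hkerη : ∀ η : IrrCharacter G, m η ≠ 0 → ∀ z ∈ Subgroup.center G,
      (η : G → ℂ) z = (η : G → ℂ) 1 := by
    intro η hη z hz
    refine kernel_constituent m ?_ η hη
    rw [← hEval, ← hEval]
    obtain ⟨c, hc1, hc, -⟩ := IsIrrCharacter.exists_central_scalar χ.2 hz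
    have h := hc 1
    rw [mul_one] at h
    rw [Complex.mul_conj, Complex.mul_conj, Complex.normSq_eq_norm_sq, h, norm_mul, hc1, one_mul,
      ← Complex.normSq_eq_norm_sq]
  let one : IrrCharacter G := ⟨fun _ => 1, isIrrCharacter_one⟩
  have hm1 : m one = 1 := by
    have h := classInner_combination (fun η => (m η : ℂ)) one
    rw [← hm] at h
    have h2 : classInner ((χ : G → ℂ) * fun g => conj ((χ : G → ℂ) g)) (one : G → ℂ) = 1 := by
      rw [← classInner_self_irr χ.2]
      simp [classInner, one]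
    rw [h2] at h
    exact_mod_cast h.symm
  have hA1 : nco K.D (IsIrrCharacter.isCharacter one.2) 1 (trivB V) = 1 := by
    refine Nat.cast_injective (R := ℂ) ((co_eq K.D _ _ _).symm.trans ?_)
    show co K.D (fun _ : G => (1 : ℂ)) 1 (trivB V) = _
    rw [co_one_fun K.D, if_pos ⟨rfl, rfl⟩, Nat.cast_one]
  have hsumA : ∑ η : IrrCharacter G,
      m η * nco K.D (IsIrrCharacter.isCharacter η.2) 1 (trivB V) = e := by
    have h := co_normSq K χ
    rw [hm, co_combination K m, hsq2] at h
    exact_mod_cast h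
  have hdegE : ∑ η : IrrCharacter G, m η * charDegree (η : G → ℂ) = d * d := by
    have h := hEval 1
    simp only [hdeg, map_natCast, CharX.irr_deg] at h
    exact_mod_cast h.symm
  rw [← Finset.add_sum_erase _ _ (Finset.mem_univ one), hm1, hA1, mul_one] at hsumA
  rw [← Finset.add_sum_erase _ _ (Finset.mem_univ one), hm1,
    show charDegree (one : G → ℂ) = 1 by simp [charDegree, one], mul_one] at hdegE
  have hterm : ∀ η ∈ (Finset.univ : Finset (IrrCharacter G)).erase one, m η ≠ 0 →
      (nco K.D (IsIrrCharacter.isCharacter η.2) 1 (trivB V) : ℝ) * ((d : ℝ) ^ 2 - 1) <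
        ((e : ℝ) - 1) * charDegree (η : G → ℂ) := by
    intro η hη hmη
    rw [hdβ]
    have heb : Odd e ∧ Odd (charDegree (β : V → ℂ)) := Nat.odd_mul.1 (hdβ ▸ hdodd χ)
    refine constituent_bound_odd K hM (Subgroup.center G) hZV hTI η (hkerη η hmη) hb he2
      (by rw [← hdβ]; exact hd) heb.1 heb.2 (hdodd η) hZb ?_ ?_
    · by_contra h
      push Not at h
      have hne : (η : G → ℂ) ≠ fun _ => 1 := fun h' => Finset.ne_of_mem_erase hη (Subtype.ext h')
      obtain ⟨L, hL, hLne, hPL⟩ := normal_of_trivial K.D η hne h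
      exact hLne (htop L hL hPL)
    · have h1 := Finset.single_le_sum
        (f := fun η : IrrCharacter G => m η * nco K.D (IsIrrCharacter.isCharacter η.2) 1 (trivB V))
        (fun _ _ => Nat.zero_le _) hη
      have h2 : nco K.D (IsIrrCharacter.isCharacter η.2) 1 (trivB V) ≤
          m η * nco K.D (IsIrrCharacter.isCharacter η.2) 1 (trivB V) :=
        Nat.le_mul_of_pos_left _ (Nat.pos_of_ne_zero hmη)
      omega
  obtain ⟨η0, hη0, hmη0⟩ : ∃ η ∈ (Finset.univ : Finset (IrrCharacter G)).erase one, m η ≠ 0 := by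
    by_contra h
    push Not at h
    rw [Finset.sum_eq_zero fun η hη => by rw [h η hη, zero_mul]] at hsumA
    omega
  have hlt : ∑ η ∈ (Finset.univ : Finset (IrrCharacter G)).erase one, (m η : ℝ) *
        ((nco K.D (IsIrrCharacter.isCharacter η.2) 1 (trivB V) : ℝ) * ((d : ℝ) ^ 2 - 1)) <
      ∑ η ∈ (Finset.univ : Finset (IrrCharacter G)).erase one,
        (m η : ℝ) * (((e : ℝ) - 1) * charDegree (η : G → ℂ)) := by
    refine Finset.sum_lt_sum (fun η hη => ?_) ⟨η0, hη0,
      mul_lt_mul_of_pos_left (hterm η0 hη0 hmη0) (Nat.cast_pos.2 (Nat.pos_of_ne_zero hmη0))⟩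
    rcases Nat.eq_zero_or_pos (m η) with h | h
    · simp [h]
    · exact mul_le_mul_of_nonneg_left (hterm η hη h.ne').le (Nat.cast_nonneg _)
  have hA' := congrArg (fun n : ℕ => (n : ℝ)) hsumA
  have hD' := congrArg (fun n : ℕ => (n : ℝ)) hdegE
  push_cast at hA' hD'
  simp only [← mul_assoc, mul_comm (_ : ℝ) ((e : ℝ) - 1)] at hlt
  rw [← Finset.sum_mul, eq_sub_of_add_eq' hA'] at hlt
  simp only [mul_assoc, ← Finset.mul_sum] at hlt
  rw [eq_sub_of_add_eq' hD', sq] at hlt
  exact lt_irrefl _ hlt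

/-- A group of odd order with a faithful character of degree `d`, `2 d + 1 ≤ p`, has a normal subgroup of
order `p`. -/
theorem normal_of_small_odd (hp : p.Prime) : ∀ (n : ℕ) (G : Type u) [Group G] [Finite G],
    Nat.card G = n → ∀ P : Subgroup G, Nat.card P = p → ¬ p ^ 2 ∣ n → ∀ χ : G → ℂ,
      Odd n → IsCharacter G χ → (∀ g, χ g = χ 1 → g = 1) → 2 * charDegree χ + 1 ≤ p → P.Normal := by
  intro n
  induction n using Nat.strong_induction_on with
  | _ n ih =>
  intro G _ _ hn P hP hsq χ hoddn hχ hf hd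
  subst hn
  haveI : Fintype G := Fintype.ofFinite G
  -- each irreducible constituent provides a normal subgroup `P ⊔ ker`
  obtain ⟨m, hm⟩ := IsCharacter.exists_decomp hχ
  choose L hL hLm hLmul using fun η : IrrCharacter G =>
    IsCharacter.exists_kernel (IsIrrCharacter.isCharacter η.2)
  have hdle : ∀ η, m η ≠ 0 → charDegree (η : G → ℂ) ≤ charDegree χ := fun η hη => by
    refine degree_le_of_constituent hχ η.2 ?_ (CharX.deg_spec hχ) (CharX.irr_deg η)
    rw [hm, classInner_combination]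
    exact Nat.cast_ne_zero.2 hη
  have hnorm : ∀ η, m η ≠ 0 → (P ⊔ L η).Normal := by
    intro η hη
    haveI := hL η
    by_cases hPL : P ≤ L η
    · rw [sup_eq_right.2 hPL]; infer_instance
    by_cases hbot : L η = ⊥
    · rw [hbot, sup_bot_eq]
      refine normal_of_irr_odd hoddn hp hP hsq ?_ η (fun g hg => ?_) (by have := hdle η hη; omega)
      · intro H hH hPH g hg y hy
        have hlt : Nat.card H < Nat.card G := lt_of_le_of_ne (Subgroup.card_le_card_group H)
          fun h => hH (Subgroup.eq_top_of_card_eq H h)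
        have hN := ih _ hlt H rfl (P.subgroupOf H)
          (by rw [Nat.card_congr (Subgroup.subgroupOfEquivOfLe hPH).toEquiv, hP])
          (fun h => hsq (h.trans (Subgroup.card_subgroup_dvd_card H))) (fun x => χ x)
          (hoddn.of_dvd_nat (Subgroup.card_subgroup_dvd_card H))
          (IsCharacter.restrict hχ H) (fun x hx => Subtype.ext (hf _ hx))
          (by simpa [charDegree] using hd)
        exact hN.conj_mem ⟨y, hPH hy⟩ hy ⟨g, hg⟩
      · rw [← Subgroup.mem_bot, ← hbot, hLm]
        exact hg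
    · obtain ⟨η', hη'c, hη'v, -⟩ :=
        IsCharacter.deflate (IsIrrCharacter.isCharacter η.2) (L η) fun x hx => (hLm η x).1 hx
      have hlt : Nat.card (G ⧸ L η) < Nat.card G := by
        rw [Subgroup.card_eq_card_quotient_mul_card_subgroup (L η)]
        exact lt_mul_of_one_lt_right Nat.card_pos ((Subgroup.one_lt_card_iff_ne_bot _).2 hbot)
      have hcard : Nat.card (P.map (QuotientGroup.mk' (L η))) = p := by
        refine (hp.eq_one_or_self_of_dvd _ (hP ▸ Subgroup.card_map_dvd P _)).resolve_left fun h => ?_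
        rw [Subgroup.card_eq_one, Subgroup.map_eq_bot_iff, QuotientGroup.ker_mk'] at h
        exact hPL h
      have hN := ih _ hlt (G ⧸ L η) rfl (P.map (QuotientGroup.mk' (L η))) hcard
        (fun h => hsq (h.trans (Subgroup.card_quotient_dvd_card _))) η'
        (hoddn.of_dvd_nat (Subgroup.card_quotient_dvd_card _)) hη'c
        (fun q hq => by
          obtain ⟨g, rfl⟩ := QuotientGroup.mk_surjective q
          rw [hη'v, show η' 1 = (η : G → ℂ) 1 from hη'v 1] at hq
          exact (QuotientGroup.eq_one_iff g).2 ((hLm η g).2 hq))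
        (by
          have h1 : charDegree η' = charDegree (η : G → ℂ) := by
            simp only [charDegree, show η' 1 = (η : G → ℂ) 1 from hη'v 1]
          have := hdle η hη
          omega)
      have h2 : (P ⊔ L η) = (P.map (QuotientGroup.mk' (L η))).comap (QuotientGroup.mk' (L η)) := by
        rw [Subgroup.comap_map_eq, QuotientGroup.ker_mk']
      rw [h2]
      exact hN.comap _
  -- the intersection
  let H : Subgroup G := ⨅ η : {η : IrrCharacter G // m η ≠ 0}, P ⊔ L η.1
  have hH : H.Normal := ⟨fun x hx g => Subgroup.mem_iInf.2 fun η =>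
    (hnorm η.1 η.2).conj_mem x (Subgroup.mem_iInf.1 hx η) g⟩
  have hPH : P ≤ H := le_iInf fun η => le_sup_left
  have hexp : ∀ x ∈ H, x ^ p = 1 := by
    intro x hx
    refine hf _ ?_
    rw [hm]
    simp only [Finset.sum_apply, Pi.smul_apply, smul_eq_mul]
    refine Finset.sum_congr rfl fun η _ => ?_
    by_cases hη : m η = 0
    · simp [hη]
    congr 1
    refine (hLm η _).1 ?_
    haveI := hL η
    have hxm : (x : G) ∈ P ⊔ L η := Subgroup.mem_iInf.1 hx ⟨η, hη⟩
    rw [Subgroup.sup_eq_closure_mul, ← Subgroup.sup_eq_closure_mul] at hxm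
    have h1 : QuotientGroup.mk' (L η) x ∈ P.map (QuotientGroup.mk' (L η)) := by
      rw [← Subgroup.mem_comap, Subgroup.comap_map_eq, QuotientGroup.ker_mk']
      exact hxm
    obtain ⟨y, hy, hyx⟩ := Subgroup.mem_map.1 h1
    rw [← QuotientGroup.eq_one_iff]
    show QuotientGroup.mk' (L η) (x ^ p) = 1
    rw [map_pow, ← hyx, ← map_pow, pow_eq_one_of_card hP hy, map_one]
  haveI := Fact.mk hp
  have hpg : IsPGroup p H := fun x => ⟨1, by
    rw [pow_one]; exact Subtype.ext (hexp x x.2)⟩
  obtain ⟨k, hk⟩ := IsPGroup.iff_card.1 hpg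
  have hk1 : k ≤ 1 := by
    by_contra h
    exact hsq (dvd_trans (pow_dvd_pow p (show 2 ≤ k by omega))
      (hk ▸ Subgroup.card_subgroup_dvd_card H))
  have hle : Nat.card H ≤ Nat.card P := by
    rw [hk, hP]
    calc p ^ k ≤ p ^ 1 := Nat.pow_le_pow_right hp.pos hk1
      _ = p := pow_one p
  rwa [Subgroup.eq_of_le_of_card_ge hPH hle]

end Cfsg.Agent.DefOne
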