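/-
Characters of the centralizer trivial on the Sylow subgroup.
-/
import Cfsg.Agent.Lib.DefOne.General
import Cfsg.Agent.Lib.Char.Integral

set_option linter.unusedSectionVars false
set_option linter.style.haveILetI false

namespace Cfsg.Agent.DefOne

open Cfsg Cfsg.Agent.Char Cfsg.Agent.Blocks Cfsg.Agent.CCSylow

open scoped ComplexConjugate

universe u

variable {G : Type u} [Group G] [Fintype G] {p : ℕ} {P V N : Subgroup G} {e : ℕ}
  (K : Conf p P V N e) [Fintype P] [Fintype V] [Fintype N] [Fintype (P →* ℂˣ)]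

include K

/-- An irreducible character of the centralizer trivial on `P` is inflated from `V`. -/
theorem exists_eq_thetaC {C : Subgroup G} [Fintype C] (hC : C = Subgroup.centralizer (P : Set G))
    (θ : IrrCharacter C) (hθP : ∀ x : C, (x : G) ∈ P → (θ : C → ℂ) x = (θ : C → ℂ) 1) :
    ∃ b : IrrCharacter V, θ = thetaC K hC b := by
  classical
  obtain ⟨Q, -, hQ, hQmul⟩ := IsCharacter.exists_kernel (IsIrrCharacter.isCharacter θ.2)
  let ι : V →* C := Subgroup.inclusion (V_le K hC)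
  have hfac : ∀ x : P × V, (θ : C → ℂ) (muC K hC x) = (θ : C → ℂ) (ι x.2) := by
    intro x
    have e1 : muC K hC x = muC K hC (x.1, 1) * ι x.2 := by
      refine Subtype.ext ?_
      show (x.1 : G) * x.2 = (x.1 : G) * (1 : G) * x.2
      rw [mul_one]
    rw [e1]
    refine hQmul _ ((hQ _).2 (hθP _ ?_)) _
    show (x.1 : G) * (1 : G) ∈ P
    rw [mul_one]
    exact x.1.2
  have hnorm : classInner (fun v : V => (θ : C → ℂ) (ι v)) (fun v : V => (θ : C → ℂ) (ι v)) = 1 := by
    have h := classInner_self_irr θ.2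
    rw [classInner,
      ← Fintype.sum_equiv (MulEquiv.ofBijective _ (muC_bijective K hC)).toEquiv
        (fun x : P × V => (θ : C → ℂ) (ι x.2) * conj ((θ : C → ℂ) (ι x.2))) _ (fun x => by
          show _ = (θ : C → ℂ) (muC K hC x) * conj ((θ : C → ℂ) (muC K hC x))
          rw [hfac]),
      Fintype.sum_prod_type] at h
    simp only [Finset.sum_const, Finset.card_univ, nsmul_eq_mul] at h
    rw [← Nat.card_eq_fintype_card, K.hP,
      show Nat.card C = p * Nat.card V by rw [hC, card_centralizer K], Nat.cast_mul, mul_inv] at h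
    rw [classInner]
    have hp0 : (p : ℂ) ≠ 0 := Nat.cast_ne_zero.2 K.hp.ne_zero
    rw [← h]
    field_simp
  refine ⟨⟨fun v => (θ : C → ℂ) (ι v),
    IsCharacter.isIrr_of_norm_one (IsCharacter.comp (IsIrrCharacter.isCharacter θ.2) ι) hnorm⟩,
    Subtype.ext (funext fun c => ?_)⟩
  obtain ⟨x, rfl⟩ := (muC_bijective K hC).2 c
  show _ = (θ : C → ℂ) (ι (prV K hC (muC K hC x)))
  rw [prV_muC, hfac]

/-- The stabiliser of an inflated character in `N`. -/
theorem mem_stabB_iff {C : Subgroup G} [Fintype C] (hC : C = Subgroup.centralizer (P : Set G))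
    (b : IrrCharacter V) (g : G) :
    g ∈ stabB K b ↔ g ∈ N ∧ ∀ c c' : C, (c' : G) = g * c * g⁻¹ →
      (thetaC K hC b : C → ℂ) c' = (thetaC K hC b : C → ℂ) c := by
  refine ⟨fun ⟨hg, hgb⟩ => ⟨hg, fun c c' hcc => ?_⟩, fun ⟨hg, h⟩ => ⟨hg, Subtype.ext (funext fun v => ?_)⟩⟩
  · obtain ⟨x, rfl⟩ := (muC_bijective K hC).2 c
    have e1 : c' = muC K hC (⟨g * x.1 * g⁻¹, K.D.hNP g hg _ x.1.2⟩,
        ⟨g * x.2 * g⁻¹, K.D.hNV g hg _ x.2.2⟩) := by
      refine Subtype.ext ?_
      rw [hcc]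
      show g * ((x.1 : G) * x.2) * g⁻¹ = g * x.1 * g⁻¹ * (g * x.2 * g⁻¹)
      group
    show (b : V → ℂ) (prV K hC c') = (b : V → ℂ) (prV K hC (muC K hC x))
    rw [e1, prV_muC, prV_muC]
    exact congrFun (congrArg Subtype.val hgb) x.2
  · have h1 := h ⟨(v : G), V_le K hC v.2⟩ ⟨g * v * g⁻¹, V_le K hC (K.D.hNV g hg _ v.2)⟩ rfl
    change (b : V → ℂ) (prV K hC _) = (b : V → ℂ) (prV K hC _) at h1
    rw [prV_incl K hC v, prV_incl K hC ⟨_, K.D.hNV g hg _ v.2⟩] at h1
    exact h1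

end Cfsg.Agent.DefOne
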