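/-
The number of characters of degree prime to `p` against the normalizer of a Sylow subgroup of
prime order.
-/
import Cfsg.Agent.Lib.DefOne.Count

set_option linter.unusedSectionVars false
set_option linter.style.haveILetI false

namespace Cfsg.Agent.DefOne

open Cfsg Cfsg.Agent.Char Cfsg.Agent.Blocks Cfsg.Agent.CCSylow

open scoped ComplexConjugate

universe u

variable {G : Type u} [Group G] [Fintype G] {p : ℕ} {M : Ideal AlgInt} [M.IsPrime]
  {P V N : Subgroup G} {e : ℕ} (K : Conf p P V N e)

include K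

theorem P_le_N : P ≤ N := fun y hy => K.hN ▸ Subgroup.le_normalizer hy

theorem V_le_N : V ≤ N := fun v hv =>
  K.hN ▸ Subgroup.centralizer_le_normalizer _ ((K.hC v).2 ⟨1, one_mem P, v, hv, one_mul v⟩)

omit [Fintype G] K in
theorem mem_centralizer_subgroupOf {N P : Subgroup G} (hP : P ≤ N) (x : N) :
    x ∈ Subgroup.centralizer (P.subgroupOf N : Set N) ↔
      (x : G) ∈ Subgroup.centralizer (P : Set G) := by
  rw [Subgroup.mem_centralizer_iff, Subgroup.mem_centralizer_iff]
  exact ⟨fun h y hy => congrArg Subtype.val (h ⟨y, hP hy⟩ hy),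
    fun h y hy => Subtype.ext (h (y : G) hy)⟩

/-- The configuration inside the normalizer. -/
theorem conf_normalizer : Conf p (P.subgroupOf N) (V.subgroupOf N) (⊤ : Subgroup N) e := by
  have hP' := P_le_N K
  have hV' := V_le_N K
  have hcP : Nat.card (P.subgroupOf N) = p := by
    rw [Nat.card_congr (Subgroup.subgroupOfEquivOfLe hP').toEquiv, K.hP]
  have hcV : Nat.card (V.subgroupOf N) = Nat.card V :=
    Nat.card_congr (Subgroup.subgroupOfEquivOfLe hV').toEquiv
  haveI : (P.subgroupOf N).Normal := ⟨fun y hy w => K.D.hNP _ w.2 _ hy⟩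
  refine ⟨⟨?_, ?_, ?_, ?_, ?_, ?_, ?_, ?_, ?_⟩, K.hp, hcP, ?_, ?_, ?_, ?_⟩
  · exact fun a ha b hb => Subtype.ext (K.D.comm _ ha _ hb)
  · exact fun a ha b hb => Subtype.ext (K.D.pv _ ha _ hb)
  · rw [hcP, hcV, ← K.hP]; exact K.D.cop
  · exact fun w _ y hy => K.D.hNP _ w.2 _ hy
  · exact fun w _ v hv => K.D.hNV _ w.2 _ hv
  · exact fun _ _ _ w _ => Subgroup.mem_top w
  · rw [hcP, hcV, Subgroup.card_top, K.D.hcard, K.hP]
  · exact fun w _ y hy hy1 hwy y' hy' => Subtype.ext
      (K.D.hsemi _ w.2 _ hy (fun h => hy1 (Subtype.ext h)) (congrArg Subtype.val hwy) _ hy')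
  · have hset : Subgroup.centralizer (P.subgroupOf N : Set N) =
        (Subgroup.centralizer (P : Set G)).subgroupOf N := by
      ext x
      rw [Subgroup.mem_subgroupOf, mem_centralizer_subgroupOf hP']
    show (Subgroup.centralizer (P.subgroupOf N : Set N)).relIndex ⊤ = e
    rw [Subgroup.relIndex_top_right, hset, K.D.he]
  · rw [hcV]; exact K.hV
  · intro x
    rw [mem_centralizer_subgroupOf hP', K.hC]
    constructor
    · rintro ⟨y, hy, v, hv, h⟩
      exact ⟨⟨y, hP' hy⟩, hy, ⟨v, hV' hv⟩, hv, Subtype.ext h⟩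
    · rintro ⟨y, hy, v, hv, h⟩
      exact ⟨y, hy, v, hv, congrArg Subtype.val h⟩
  · exact (Subgroup.normalizer_eq_top_iff.2 ‹(P.subgroupOf N).Normal›).symm
  · exact fun h => K.hsq (h.trans (Subgroup.card_subgroup_dvd_card N))

variable [Fintype P] [Fintype V] [Fintype N] [Fintype (P →* ℂˣ)]

omit [Fintype G] in
theorem card_stabB_eq [Fintype G] [Fintype (P.subgroupOf N)] [Fintype (V.subgroupOf N)]
    [Fintype (⊤ : Subgroup N)] [Fintype ((P.subgroupOf N) →* ℂˣ)]
    (b : IrrCharacter V) :
    Nat.card (stabB (conf_normalizer K) (⟨fun v => (b : V → ℂ)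
      (Subgroup.subgroupOfEquivOfLe (V_le_N K) v), IsIrrCharacter.comp b.2
        (Subgroup.subgroupOfEquivOfLe (V_le_N K)).toMonoidHom
        (Subgroup.subgroupOfEquivOfLe (V_le_N K)).surjective⟩ : IrrCharacter (V.subgroupOf N))) =
      Nat.card (stabB K b) := by
  refine Nat.card_congr
    { toFun := fun g => ⟨((g : N) : G), (g : N).2, ?_⟩
      invFun := fun g => ⟨⟨(g : G), stabB_le K b g.2⟩, Subgroup.mem_top _, ?_⟩
      left_inv := fun g => rfl
      right_inv := fun g => rfl }
  · obtain ⟨g, hg, hgb⟩ := g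
    refine Subtype.ext (funext fun v => ?_)
    have h := congrFun (congrArg Subtype.val hgb)
      ⟨⟨(v : G), V_le_N K v.2⟩, v.2⟩
    exact h
  · obtain ⟨g, hg, hgb⟩ := g
    refine Subtype.ext (funext fun v => ?_)
    exact congrFun (congrArg Subtype.val hgb) (Subgroup.subgroupOfEquivOfLe (V_le_N K) v)

theorem not_dvd_degree_normalizer (hM : IsPModular p M) (χ : IrrCharacter N) :
    ¬ p ∣ charDegree (χ : N → ℂ) := by
  intro h
  haveI := Fact.mk K.hp
  have hP' := P_le_N K
  haveI : (P.subgroupOf N).Normal := ⟨fun y hy w => K.D.hNP _ w.2 _ hy⟩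
  have hcP : Nat.card (P.subgroupOf N) = p := by
    rw [Nat.card_congr (Subgroup.subgroupOfEquivOfLe hP').toEquiv, K.hP]
  have hd : blockDefect p (blockOf M (χ : N → ℂ)) = 0 := by
    have hfac : (Nat.card N).factorization p = 1 := by
      refine le_antisymm ?_ ((K.hp.dvd_iff_one_le_factorization Nat.card_pos.ne').1
        (hcP ▸ Subgroup.card_subgroup_dvd_card (P.subgroupOf N)))
      by_contra h2
      exact K.hsq (((K.hp.pow_dvd_iff_le_factorization Nat.card_pos.ne').2 (by omega)).trans
        (Subgroup.card_subgroup_dvd_card N))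
    have h1 : (charDegree (χ : N → ℂ)).factorization p = (Nat.card N).factorization p :=
      le_antisymm (degExp_le_card χ) (hfac ▸
        (K.hp.dvd_iff_one_le_factorization (charDegree_pos χ).ne').1 h)
    rw [blockOf_eq_singleton hM χ h1, blockDefect]
    simp [h1]
  obtain ⟨D, hD⟩ := exists_isDefectGroup (p := p) (isPBlock_blockOf (M := M) χ)
  have h2 := Subgroup.card_le_of_le (le_defectGroup_of_normal hM (isPBlock_blockOf χ) hD
    (P.subgroupOf N) (IsPGroup.of_card (n := 1) (by rw [hcP, pow_one])))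
  rw [card_defectGroup hM (isPBlock_blockOf χ) hD, hd, pow_zero, hcP] at h2
  exact absurd h2 (not_le.2 K.hp.one_lt)

/-- The count of characters of degree prime to `p`. -/
theorem card_pPrime_eq (hM : IsPModular p M) :
    Nat.card {χ : IrrCharacter G // ¬ p ∣ charDegree (χ : G → ℂ)} =
      Nat.card (ConjClasses N) := by
  classical
  haveI : Fintype (P.subgroupOf N) := Fintype.ofFinite _
  haveI : Fintype (V.subgroupOf N) := Fintype.ofFinite _
  haveI : Fintype (⊤ : Subgroup N) := Fintype.ofFinite _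
  haveI : Fintype ((P.subgroupOf N) →* ℂˣ) := by
    let E := Subgroup.subgroupOfEquivOfLe (P_le_N K)
    exact Fintype.ofEquiv (P →* ℂˣ)
      { toFun := fun l => l.comp E.toMonoidHom
        invFun := fun l => l.comp E.symm.toMonoidHom
        left_inv := fun l => MonoidHom.ext fun y => congrArg l (E.apply_symm_apply y)
        right_inv := fun l => MonoidHom.ext fun y => congrArg l (E.symm_apply_apply y) }
  have h1 := count_pPrime K hM
  have h2 := count_pPrime (conf_normalizer K) hM
  rw [Nat.card_congr (Equiv.subtypeUnivEquiv (not_dvd_degree_normalizer K hM)), card_irrCharacter,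
    Subgroup.card_top, Nat.card_congr (Subgroup.subgroupOfEquivOfLe (V_le_N K)).toEquiv] at h2
  let E := Subgroup.subgroupOfEquivOfLe (V_le_N K)
  let eI : IrrCharacter V ≃ IrrCharacter (V.subgroupOf N) :=
    { toFun := fun b => ⟨fun v => (b : V → ℂ) (E v),
        IsIrrCharacter.comp b.2 E.toMonoidHom E.surjective⟩
      invFun := fun b => ⟨fun v => (b : V.subgroupOf N → ℂ) (E.symm v),
        IsIrrCharacter.comp b.2 E.symm.toMonoidHom E.symm.surjective⟩
      left_inv := fun b => Subtype.ext (funext fun v => congrArg (b : V → ℂ) (E.apply_symm_apply v))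
      right_inv := fun b => Subtype.ext (funext fun v =>
        congrArg (b : V.subgroupOf N → ℂ) (E.symm_apply_apply v)) }
  have key : ((Nat.card {χ : IrrCharacter G // ¬ p ∣ charDegree (χ : G → ℂ)} : ℕ) : ℚ) =
      ((Nat.card (ConjClasses N) : ℕ) : ℚ) := by
    rw [h1, h2]
    refine Fintype.sum_equiv eI _ _ fun b => ?_
    rw [show eI b = ⟨fun v => (b : V → ℂ) (E v), IsIrrCharacter.comp b.2 E.toMonoidHom E.surjective⟩
      from rfl, card_stabB_eq K b]
  exact_mod_cast key

end Cfsg.Agent.DefOne
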