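/-
In a group of odd order a faithful character all whose constituents have degree `d`,
`2 d + 1 ≤ p`, forces a normal Sylow `p`-subgroup.
-/
import Cfsg.Agent.Lib.DefOne.DegreeOdd
import Cfsg.Agent.Lib.Char.BlichfeldtMain

set_option linter.unusedSectionVars false
set_option linter.style.haveILetI false

namespace Cfsg.Agent.DefOne

open Cfsg Cfsg.Agent.Char

universe u

variable {p : ℕ} [Fact p.Prime]

/-- A faithful character of small degree. -/
theorem normal_sylow_of_faithful_odd : ∀ (N : ℕ) (G : Type u) [Group G] [Finite G],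
    Nat.card G = N → Odd N → ∀ χ : G → ℂ, IsCharacter G χ → (∀ g, χ g = χ 1 → g = 1) →
      2 * charDegree χ + 1 ≤ p → ∀ P : Sylow p G, (P : Subgroup G).Normal := by
  intro N
  induction N using Nat.strong_induction_on with
  | _ N ih =>
  intro G _ _ hN hodd χ hχ hf hd P
  subst hN
  haveI : Fintype G := Fintype.ofFinite G
  have hp : p.Prime := Fact.out
  obtain ⟨n, ρ, hρ⟩ := id hχ
  have hn : charDegree χ = n := by
    have h1 := CharX.deg_spec hχ
    have h2 : χ 1 = (n : ℂ) := by rw [← hρ, Representation.char_one, Module.finrank_fin_fun]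
    exact_mod_cast h1.symm.trans h2
  have hinj : Function.Injective ρ := (injective_iff_map_eq_one ρ).2 fun g hg => hf g (by
    rw [← hρ, Representation.char_one]
    unfold Representation.character
    rw [hg, LinearMap.trace_one])
  rcases Nat.eq_zero_or_pos n with rfl | hn0
  · haveI : Subsingleton G := hinj.subsingleton
    exact ⟨fun x hx g => by rwa [Subsingleton.elim (g * x * g⁻¹) x]⟩
  obtain ⟨a, ha⟩ : ∃ a, Nat.card (P : Subgroup G) = p ^ a := P.isPGroup'.exists_card_eq
  rcases Nat.eq_zero_or_pos a with rfl | ha0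
  · rw [pow_zero, Subgroup.card_eq_one] at ha
    rw [ha]
    infer_instance
  by_cases h2 : p ^ 2 ∣ Nat.card G
  · by_contra hPn
    refine Blich.false_of_counterexample ρ hinj (by omega) P hPn ?_ fun H hH Q => ?_
    · have h3 := Nat.le_of_dvd Nat.card_pos (P.pow_dvd_card_of_pow_dvd_card h2)
      exact (Nat.pow_le_pow_left (by omega) 2).trans h3
    · have hlt : Nat.card H < Nat.card G := lt_of_le_of_ne (Subgroup.card_le_card_group H)
        fun h => hH (Subgroup.eq_top_of_card_eq H h)
      exact ih _ hlt H rfl (hodd.of_dvd_nat (Subgroup.card_subgroup_dvd_card H)) (fun x => χ x)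
        (IsCharacter.restrict hχ H) (fun x hx => Subtype.ext (hf _ hx))
        (by simpa [charDegree] using hd) Q
  · have ha1 : a = 1 := by
      by_contra h
      exact h2 ((pow_dvd_pow p (show 2 ≤ a by omega)).trans
        (ha ▸ Subgroup.card_subgroup_dvd_card _))
    exact normal_of_small_odd hp _ G rfl P (by rw [ha, ha1, pow_one]) h2 χ hodd hχ hf hd

variable {G : Type u} [Group G] [Fintype G]

/-- All constituents of small degree. -/
theorem normal_sylow_of_constituents_odd (hodd : Odd (Nat.card G)) {χ : G → ℂ}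
    (hχ : IsCharacter G χ) (hf : ∀ g, χ g = χ 1 → g = 1)
    (hd : ∀ η : IrrCharacter G, classInner χ (η : G → ℂ) ≠ 0 →
      2 * charDegree (η : G → ℂ) + 1 ≤ p)
    (P : Sylow p G) : (P : Subgroup G).Normal := by
  classical
  obtain ⟨m, hm⟩ := IsCharacter.exists_decomp hχ
  choose L hL hLm hLmul using fun η : IrrCharacter G =>
    IsCharacter.exists_kernel (IsIrrCharacter.isCharacter η.2)
  have hnorm : ∀ η, m η ≠ 0 → ((P : Subgroup G) ⊔ L η).Normal := by
    intro η hη
    haveI := hL η
    obtain ⟨η', hη'c, hη'v, -⟩ :=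
      IsCharacter.deflate (IsIrrCharacter.isCharacter η.2) (L η) fun x hx => (hLm η x).1 hx
    have hN := normal_sylow_of_faithful_odd _ (G ⧸ L η) rfl
      (hodd.of_dvd_nat (Subgroup.card_quotient_dvd_card _)) η' hη'c
      (fun q hq => by
        obtain ⟨g, rfl⟩ := QuotientGroup.mk_surjective q
        rw [hη'v, show η' 1 = (η : G → ℂ) 1 from hη'v 1] at hq
        exact (QuotientGroup.eq_one_iff g).2 ((hLm η g).2 hq))
      (by
        have h1 : charDegree η' = charDegree (η : G → ℂ) := by
          simp only [charDegree, show η' 1 = (η : G → ℂ) 1 from hη'v 1]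
        rw [h1]
        refine hd η ?_
        rw [hm, classInner_combination]
        exact Nat.cast_ne_zero.2 hη)
      (P.mapSurjective (f := QuotientGroup.mk' (L η)) (QuotientGroup.mk'_surjective _))
    rw [Sylow.coe_mapSurjective] at hN
    have h := hN.comap (QuotientGroup.mk' (L η))
    rwa [Subgroup.comap_map_eq, QuotientGroup.ker_mk'] at h
  let H : Subgroup G := ⨅ η : {η : IrrCharacter G // m η ≠ 0}, (P : Subgroup G) ⊔ L η.1
  have hH : H.Normal := ⟨fun x hx g => Subgroup.mem_iInf.2 fun η =>
    (hnorm η.1 η.2).conj_mem x (Subgroup.mem_iInf.1 hx η) g⟩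
  have hPH : (P : Subgroup G) ≤ H := le_iInf fun η => le_sup_left
  obtain ⟨a, ha⟩ : ∃ a, Nat.card (P : Subgroup G) = p ^ a := P.isPGroup'.exists_card_eq
  have hexp : ∀ x ∈ H, x ^ p ^ a = 1 := by
    intro x hx
    refine hf _ ?_
    rw [hm]
    simp only [Finset.sum_apply, Pi.smul_apply, smul_eq_mul]
    refine Finset.sum_congr rfl fun η _ => ?_
    by_cases hη : m η = 0
    · simp [hη]
    congr 1
    refine (hLm η _).1 ?_
    haveI := hL η
    have h1 : QuotientGroup.mk' (L η) x ∈ (P : Subgroup G).map (QuotientGroup.mk' (L η)) := by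
      rw [← Subgroup.mem_comap, Subgroup.comap_map_eq, QuotientGroup.ker_mk']
      exact Subgroup.mem_iInf.1 hx ⟨η, hη⟩
    obtain ⟨y, hy, hyx⟩ := Subgroup.mem_map.1 h1
    rw [← QuotientGroup.eq_one_iff]
    show QuotientGroup.mk' (L η) (x ^ p ^ a) = 1
    have hy1 : y ^ p ^ a = 1 := by
      rw [← ha]
      exact congrArg Subtype.val (pow_card_eq_one' (x := (⟨y, hy⟩ : (P : Subgroup G))))
    rw [map_pow, ← hyx, ← map_pow, hy1, map_one]
  have hpg : IsPGroup p H := fun x => ⟨a, Subtype.ext (hexp x x.2)⟩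
  rwa [← P.is_maximal' hpg hPH]

end Cfsg.Agent.DefOne
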